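import Mathlib
import Groth.Prelude.Def_StMod
import Groth.Agent.FppfModDesc.Separated

/-!
# Restriction of sections of a quasi-coherent module on a category over schemes
-/

universe w v u

open CategoryTheory CategoryTheory.Limits AlgebraicGeometry TopologicalSpace Opposite TensorProduct

set_option autoImplicit false
set_option backward.isDefEq.respectTransparency false
set_option backward.isDefEq.respectTransparency.types false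
set_option linter.style.haveILetI false

namespace Groth.Agent.QDescent

open Groth.Agent.QC

variable {S : Scheme.{u}} {𝒵 : BasedCategory.{v, w} (Over S)}

/-- The pullback of sections of `F z` over `U` to sections of `F z'` over `V`. -/
noncomputable def tr (F : StMod.Mod 𝒵) {z' z : 𝒵.obj} (φ : z' ⟶ z) (U : (StMod.sch 𝒵 z).Opens)
    (V : (StMod.sch 𝒵 z').Opens) (e : V ≤ StMod.bmap 𝒵 φ ⁻¹ᵁ U) : Γ(F.obj z, U) →+ Γ(F.obj z', V) :=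
  (res (F.obj z') e).comp ((F.map φ rfl).app U).hom

section Calculus

variable (F : StMod.Mod 𝒵)

theorem tr_apply {z' z : 𝒵.obj} (φ : z' ⟶ z) (U : (StMod.sch 𝒵 z).Opens) (V : (StMod.sch 𝒵 z').Opens)
    (e : V ≤ StMod.bmap 𝒵 φ ⁻¹ᵁ U) (s : Γ(F.obj z, U)) :
    tr F φ U V e s = res (F.obj z') e ((F.map φ rfl).app U s) := rfl

theorem tr_smul {z' z : 𝒵.obj} (φ : z' ⟶ z) (U : (StMod.sch 𝒵 z).Opens) (V : (StMod.sch 𝒵 z').Opens)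
    (e : V ≤ StMod.bmap 𝒵 φ ⁻¹ᵁ U) (r : Γ(StMod.sch 𝒵 z, U)) (s : Γ(F.obj z, U)) :
    tr F φ U V e (r • s) = ((StMod.bmap 𝒵 φ).appLE U V e).hom r • tr F φ U V e s := by
  rw [tr_apply, tr_apply, Scheme.Modules.Hom.app_smul]
  exact res_smul (F.obj z') e _ _

theorem tr_congr {z' z : 𝒵.obj} {φ φ' : z' ⟶ z} (h : φ = φ') (U : (StMod.sch 𝒵 z).Opens)
    (V : (StMod.sch 𝒵 z').Opens) (e : V ≤ StMod.bmap 𝒵 φ ⁻¹ᵁ U) (e' : V ≤ StMod.bmap 𝒵 φ' ⁻¹ᵁ U)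
    (s : Γ(F.obj z, U)) : tr F φ U V e s = tr F φ' U V e' s := by
  subst h; rfl

theorem res_app {z' z : 𝒵.obj} (φ : z' ⟶ z) {U U' : (StMod.sch 𝒵 z).Opens} (hU : U' ≤ U) (s : Γ(F.obj z, U)) :
    (F.map φ rfl).app U' (res (F.obj z) hU s) =
      res (F.obj z') ((StMod.bmap 𝒵 φ).preimage_mono hU) ((F.map φ rfl).app U s) :=
  (app_res (F.map φ rfl) hU s).symm

theorem res_tr {z' z : 𝒵.obj} (φ : z' ⟶ z) (U : (StMod.sch 𝒵 z).Opens) {V V' : (StMod.sch 𝒵 z').Opens}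
    (hV : V' ≤ V) (e : V ≤ StMod.bmap 𝒵 φ ⁻¹ᵁ U) (s : Γ(F.obj z, U)) :
    res (F.obj z') hV (tr F φ U V e s) = tr F φ U V' (hV.trans e) s :=
  res_res _ _ _ _

theorem tr_res {z' z : 𝒵.obj} (φ : z' ⟶ z) {U U' : (StMod.sch 𝒵 z).Opens} (hU : U' ≤ U)
    (V : (StMod.sch 𝒵 z').Opens) (e : V ≤ StMod.bmap 𝒵 φ ⁻¹ᵁ U') (s : Γ(F.obj z, U)) :
    tr F φ U' V e (res (F.obj z) hU s) = tr F φ U V (e.trans ((StMod.bmap 𝒵 φ).preimage_mono hU)) s := by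
  rw [tr_apply, res_app, res_res]
  rfl

theorem le_preimage_comp {z'' z' z : 𝒵.obj} (ψ : z'' ⟶ z') (φ : z' ⟶ z) {U : (StMod.sch 𝒵 z).Opens}
    {V : (StMod.sch 𝒵 z').Opens} {W : (StMod.sch 𝒵 z'').Opens} (e : V ≤ StMod.bmap 𝒵 φ ⁻¹ᵁ U)
    (e' : W ≤ StMod.bmap 𝒵 ψ ⁻¹ᵁ V) : W ≤ StMod.bmap 𝒵 (ψ ≫ φ) ⁻¹ᵁ U := by
  rw [StMod.bmap_comp, Scheme.Hom.comp_preimage]
  exact e'.trans ((StMod.bmap 𝒵 ψ).preimage_mono e)

theorem tr_tr {z'' z' z : 𝒵.obj} (ψ : z'' ⟶ z') (φ : z' ⟶ z) (U : (StMod.sch 𝒵 z).Opens)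
    (V : (StMod.sch 𝒵 z').Opens) (W : (StMod.sch 𝒵 z'').Opens) (e : V ≤ StMod.bmap 𝒵 φ ⁻¹ᵁ U)
    (e' : W ≤ StMod.bmap 𝒵 ψ ⁻¹ᵁ V) (s : Γ(F.obj z, U)) :
    tr F ψ V W e' (tr F φ U V e s) = tr F (ψ ≫ φ) U W (le_preimage_comp ψ φ e e') s := by
  have e'' : W ≤ StMod.bmap 𝒵 ψ ⁻¹ᵁ (StMod.bmap 𝒵 φ ⁻¹ᵁ U) := e'.trans ((StMod.bmap 𝒵 ψ).preimage_mono e)
  rw [show tr F ψ V W e' (tr F φ U V e s) =
    tr F ψ (StMod.bmap 𝒵 φ ⁻¹ᵁ U) W e'' ((F.map φ rfl).app U s) from tr_res F ψ e W e' _]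
  have key : (F.map (ψ ≫ φ) (g := StMod.bmap 𝒵 ψ ≫ StMod.bmap 𝒵 φ) (StMod.bmap_comp ψ φ)).app U s =
      ((F.map φ rfl).app U ≫ (F.map ψ rfl).app (StMod.bmap 𝒵 φ ⁻¹ᵁ U)) s :=
    congr($(StMod.Mod.map_comp_app F ψ φ rfl rfl U) s)
  have aux : ∀ {g : StMod.sch 𝒵 z'' ⟶ StMod.sch 𝒵 z} (hg : StMod.bmap 𝒵 (ψ ≫ φ) = g) (e₁ : W ≤ g ⁻¹ᵁ U)
      (e₂ : W ≤ StMod.bmap 𝒵 (ψ ≫ φ) ⁻¹ᵁ U),
      res (F.obj z'') e₁ ((F.map (ψ ≫ φ) hg).app U s) = res (F.obj z'') e₂ ((F.map (ψ ≫ φ) rfl).app U s) := by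
    rintro g rfl e₁ e₂; rfl
  exact (congrArg (res (F.obj z'') e'') key.symm).trans (aux (StMod.bmap_comp ψ φ) e'' _)

theorem tr_id {z : 𝒵.obj} (U : (StMod.sch 𝒵 z).Opens) (V : (StMod.sch 𝒵 z).Opens) (hV : V ≤ U)
    (e : V ≤ StMod.bmap 𝒵 (𝟙 z) ⁻¹ᵁ U) (s : Γ(F.obj z, U)) : tr F (𝟙 z) U V e s = res (F.obj z) hV s := by
  have aux : ∀ {g : StMod.sch 𝒵 z ⟶ StMod.sch 𝒵 z} (hg : StMod.bmap 𝒵 (𝟙 z) = g) (e₁ : V ≤ g ⁻¹ᵁ U),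
      res (F.obj z) e₁ ((F.map (𝟙 z) hg).app U s) = tr F (𝟙 z) U V e s := by
    rintro g rfl e₁; rfl
  rw [← aux (StMod.bmap_id z) hV]
  exact congrArg (res (F.obj z) hV) congr($(StMod.Mod.map_id_app F z U) s)

end Calculus

/-- Sections over affine opens of a cartesian quasi-coherent module change base along morphisms. -/
theorem exists_bijective_tr (F : StMod.QCoh 𝒵) {z' z : 𝒵.obj} (φ : z' ⟶ z) {U : (StMod.sch 𝒵 z).Opens}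
    (hU : IsAffineOpen U) {V : (StMod.sch 𝒵 z').Opens} (hV : IsAffineOpen V) (e : V ≤ StMod.bmap 𝒵 φ ⁻¹ᵁ U) :
    letI : Algebra Γ(StMod.sch 𝒵 z, U) Γ(StMod.sch 𝒵 z', V) := ((StMod.bmap 𝒵 φ).appLE U V e).hom.toAlgebra
    ∃ Φ : Γ(StMod.sch 𝒵 z', V) ⊗[Γ(StMod.sch 𝒵 z, U)] Γ(F.obj.obj z, U) ≃ₗ[Γ(StMod.sch 𝒵 z', V)]
        Γ(F.obj.obj z', V),
      ∀ s, Φ (1 ⊗ₜ s) = tr F.obj φ U V e s := by
  letI : Algebra Γ(StMod.sch 𝒵 z, U) Γ(StMod.sch 𝒵 z', V) := ((StMod.bmap 𝒵 φ).appLE U V e).hom.toAlgebra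
  obtain ⟨Φ, hΦ⟩ := ModDesc.exists_bijective_liftBaseChange (StMod.bmap 𝒵 φ) (F.obj.obj z)
    (hH := F.property.2 z) hU hV e
  let adj := Scheme.Modules.pullbackPushforwardAdjunction (StMod.bmap 𝒵 φ)
  let a := (adj.homEquiv (F.obj.obj z) (F.obj.obj z')).symm (F.obj.map φ rfl)
  haveI : IsIso a := F.property.1 φ rfl
  let L : Γ((Scheme.Modules.pullback (StMod.bmap 𝒵 φ)).obj (F.obj.obj z), V) ≃ₗ[Γ(StMod.sch 𝒵 z', V)]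
      Γ(F.obj.obj z', V) :=
    LinearEquiv.ofBijective (QC.appₗ a V) (ConcreteCategory.bijective_of_isIso (a.app V))
  refine ⟨Φ.trans L, fun s => ?_⟩
  rw [LinearEquiv.trans_apply, hΦ]
  show a.app V (ModDesc.pullSectLE _ _ U V e s) = _
  rw [ModDesc.pullSectLE_apply, ← app_res, tr_apply]
  congr 1
  have h : adj.homEquiv (F.obj.obj z) (F.obj.obj z') a = F.obj.map φ rfl := Equiv.apply_symm_apply _ _
  rw [← h, Adjunction.homEquiv_unit, Scheme.Modules.Hom.comp_app]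
  rfl

end Groth.Agent.QDescent
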