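import Mathlib
import Groth.Prelude.Def_TwSh
import Groth.Prelude.Def_QuotSh
import Groth.Agent.GerbLib.Basic
import Groth.Agent.QuotShLib.Fppf
import Groth.Agent.QDescent.Restr

/-!
# Categories fibred in groupoids over schemes, in terms of the underlying morphisms of schemes
-/

universe u

open CategoryTheory CategoryTheory.Limits AlgebraicGeometry TopologicalSpace Opposite

set_option autoImplicit false
set_option backward.isDefEq.respectTransparency false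
set_option backward.isDefEq.respectTransparency.types false
set_option linter.style.haveILetI false

noncomputable section

namespace Groth.Agent.QDescent

variable {S : Scheme.{u}} {𝒳 𝒴 : AlgSt.Cat S}

theorem exists_lift_scheme (h𝒳 : FibCat.IsFibGrpd 𝒳.p) {x : 𝒳.obj} {Z : Scheme.{u}} (g : Z ⟶ StMod.sch 𝒳 x) :
    ∃ (z : 𝒳.obj) (e : StMod.sch 𝒳 z = Z) (φ : z ⟶ x), StMod.bmap 𝒳 φ = eqToHom e ≫ g := by
  obtain ⟨z, φ, hφ⟩ := GerbLib.lift_at h𝒳 rfl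
    (Over.homMk g rfl : Over.mk (g ≫ (𝒳.p.obj x).hom) ⟶ 𝒳.p.obj x)
  have hz := @IsHomLift.domain_eq _ _ _ _ 𝒳.p _ _ _ _ _ φ hφ
  refine ⟨z, congrArg Comma.left hz, φ, ?_⟩
  rw [show StMod.bmap 𝒳 φ = (𝒳.p.map φ).left from rfl, @IsHomLift.fac' _ _ _ _ 𝒳.p _ _ _ _ _ φ hφ]
  simp [Over.eqToHom_left]

theorem exists_factor (h𝒳 : FibCat.IsFibGrpd 𝒳.p) {z y x : 𝒳.obj} (φ : y ⟶ x) (ψ : z ⟶ x)
    (k : StMod.sch 𝒳 z ⟶ StMod.sch 𝒳 y) (hk : k ≫ StMod.bmap 𝒳 φ = StMod.bmap 𝒳 ψ) :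
    ∃ χ : z ⟶ y, StMod.bmap 𝒳 χ = k ∧ χ ≫ φ = ψ := by
  let g : 𝒳.p.obj z ⟶ 𝒳.p.obj y := Over.homMk k (by
    have h1 : StMod.bmap 𝒳 φ ≫ (𝒳.p.obj x).hom = (𝒳.p.obj y).hom := Over.w (𝒳.p.map φ)
    have h2 : StMod.bmap 𝒳 ψ ≫ (𝒳.p.obj x).hom = (𝒳.p.obj z).hom := Over.w (𝒳.p.map ψ)
    show k ≫ (𝒳.p.obj y).hom = _
    calc k ≫ (𝒳.p.obj y).hom = k ≫ StMod.bmap 𝒳 φ ≫ (𝒳.p.obj x).hom := congrArg (k ≫ ·) h1.symm
      _ = (k ≫ StMod.bmap 𝒳 φ) ≫ (𝒳.p.obj x).hom := (Category.assoc _ _ _).symm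
      _ = StMod.bmap 𝒳 ψ ≫ (𝒳.p.obj x).hom := congrArg (· ≫ (𝒳.p.obj x).hom) hk
      _ = _ := h2)
  obtain ⟨χ, hχ, -⟩ := FibCatRep.existsUnique_of_cart (p := 𝒳.p) (h𝒳.isStronglyCartesian φ) ψ g
    (Over.OverMorphism.ext hk)
  exact ⟨χ, congrArg CommaMorphism.left hχ.1, hχ.2⟩

theorem eq_of_bmap (h𝒳 : FibCat.IsFibGrpd 𝒳.p) {z y x : 𝒳.obj} (φ : y ⟶ x) {χ χ' : z ⟶ y}
    (hb : StMod.bmap 𝒳 χ = StMod.bmap 𝒳 χ') (h : χ ≫ φ = χ' ≫ φ) : χ = χ' :=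
  FibCatRep.cancel_of_cart (p := 𝒳.p) (h𝒳.isStronglyCartesian φ) (Over.OverMorphism.ext hb) h

theorem p_map_eq {x' x : 𝒳.obj} {φ φ' : x' ⟶ x} (h : StMod.bmap 𝒳 φ = StMod.bmap 𝒳 φ') :
    𝒳.p.map φ = 𝒳.p.map φ' := Over.OverMorphism.ext h

theorem bmap_map (π : 𝒳 ⥤ᵇ 𝒴) {x' x : 𝒳.obj} (φ : x' ⟶ x) :
    StMod.bmap 𝒴 (π.map φ) = eqToHom (StMod.sch_obj_eq π x') ≫ StMod.bmap 𝒳 φ ≫ eqToHom (StMod.sch_obj_eq π x).symm := by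
  have h := StMod.bmap_map_comm π φ (g := StMod.bmap 𝒳 φ) rfl
  rw [← Category.assoc, ← h, Category.assoc, eqToHom_trans, eqToHom_refl, Category.comp_id]

theorem baseOver_left (π : 𝒳 ⥤ᵇ 𝒴) (ξ : 𝒳.obj) {η : 𝒴.obj} (α : π.obj ξ ⟶ η) :
    (StMod.baseOver π ξ α).left = eqToHom (StMod.sch_obj_eq π ξ).symm ≫ StMod.bmap 𝒴 α := by
  simp [StMod.baseOver, StMod.bmap, Over.eqToHom_left]

/-- The covering families of the fppf topology on schemes over `S`. -/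
theorem exists_fppf_point {U : Over S} {R : Sieve U} (hR : R ∈ QuotSh.J Scheme.fppfPrecoverage S U) (t : U.left) :
    ∃ (V : Over S) (f : V ⟶ U), R f ∧ Flat f.left ∧ LocallyOfFinitePresentation f.left ∧
      t ∈ Set.range f.left.base := by
  rw [GrothendieckTopology.mem_over_iff] at hR
  obtain ⟨Q, hQ, hle⟩ := Precoverage.mem_toGrothendieck_iff_of_isStableUnderComposition.1 hR
  obtain ⟨ι, Y, f, rfl⟩ := Presieve.exists_eq_ofArrows Q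
  obtain ⟨hsurj, hP⟩ := (Scheme.ofArrows_mem_precoverage_iff (P := @Flat ⊓ @LocallyOfFinitePresentation)).mp hQ
  obtain ⟨i, y, hy⟩ := hsurj t
  exact ⟨Over.mk (f i ≫ U.hom), Over.homMk (f i) rfl, (Sieve.overEquiv_iff _ _).1 (hle _ _ (Presieve.ofArrows.mk i)),
    (hP i).1, (hP i).2, y, hy⟩

theorem flat_lfp_bmap {x' x : 𝒳.obj} (φ : x' ⟶ x) {V U : Over S} (f : V ⟶ U) (h : 𝒳.p.IsHomLift f φ)
    [Flat f.left] [LocallyOfFinitePresentation f.left] (hU : 𝒳.p.obj x = U) (t : U.left)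
    (ht : t ∈ Set.range f.left.base) :
    Flat (StMod.bmap 𝒳 φ) ∧ LocallyOfFinitePresentation (StMod.bmap 𝒳 φ) ∧
      (eqToHom (congrArg Comma.left hU).symm : U.left ⟶ StMod.sch 𝒳 x).base t ∈
        Set.range (StMod.bmap 𝒳 φ).base := by
  subst hU
  have hV := @IsHomLift.domain_eq _ _ _ _ 𝒳.p _ _ _ _ f φ h
  subst hV
  have hφ : StMod.bmap 𝒳 φ = f.left := by
    rw [show StMod.bmap 𝒳 φ = (𝒳.p.map φ).left from rfl, ← @IsHomLift.eq_of_isHomLift _ _ _ _ 𝒳.p _ _ f φ h]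
  rw [hφ]
  refine ⟨inferInstance, inferInstance, ?_⟩
  rw [eqToHom_refl]
  exact ht

/-- Objects of the target come from the source locally. -/
theorem exists_locObj (π : 𝒳 ⥤ᵇ 𝒴) (hπ : Gerb.LocSurjObj (QuotSh.J Scheme.fppfPrecoverage S) π) (y : 𝒴.obj)
    (t : StMod.sch 𝒴 y) : ∃ (x : 𝒳.obj) (α : π.obj x ⟶ y), Flat (StMod.bmap 𝒴 α) ∧
      LocallyOfFinitePresentation (StMod.bmap 𝒴 α) ∧ t ∈ Set.range (StMod.bmap 𝒴 α).base := by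
  obtain ⟨R, hR, hlift⟩ := hπ y
  obtain ⟨V, f, hf, h₁, h₂, ht⟩ := exists_fppf_point hR t
  obtain ⟨x, α, hα⟩ := hlift f hf
  obtain ⟨a, b, c⟩ := flat_lfp_bmap α f hα rfl t ht
  exact ⟨x, α, a, b, c⟩

/-- Morphisms between images lift locally. -/
theorem exists_locHom (h𝒳 : FibCat.IsFibGrpd 𝒳.p) (h𝒴 : FibCat.IsFibGrpd 𝒴.p) (π : 𝒳 ⥤ᵇ 𝒴)
    (hπ : Gerb.LocSurjHom (QuotSh.J Scheme.fppfPrecoverage S) π) {x x' : 𝒳.obj} (b : π.obj x ⟶ π.obj x')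
    (t : StMod.sch 𝒳 x) :
    ∃ (x₀ : 𝒳.obj) (φ : x₀ ⟶ x) (ψ : x₀ ⟶ x'), Flat (StMod.bmap 𝒳 φ) ∧
      LocallyOfFinitePresentation (StMod.bmap 𝒳 φ) ∧ t ∈ Set.range (StMod.bmap 𝒳 φ).base ∧
        π.map φ ≫ b = π.map ψ := by
  obtain ⟨x'', φ', hφ'⟩ := GerbLib.lift_at h𝒳 rfl
    (StMod.baseOver π x b ≫ eqToHom (π.w_obj x') : 𝒳.p.obj x ⟶ 𝒳.p.obj x')
  haveI := hφ'
  have hx'' : 𝒳.p.obj x'' = 𝒳.p.obj x := IsHomLift.domain_eq 𝒳.p (StMod.baseOver π x b ≫ eqToHom (π.w_obj x')) φ'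
  have hb : StMod.bmap 𝒳 φ' = eqToHom (congrArg Comma.left hx'') ≫ eqToHom (StMod.sch_obj_eq π x).symm ≫
      StMod.bmap 𝒴 b ≫ eqToHom (StMod.sch_obj_eq π x') := by
    rw [show StMod.bmap 𝒳 φ' = (𝒳.p.map φ').left from rfl,
      IsHomLift.fac' 𝒳.p (StMod.baseOver π x b ≫ eqToHom (π.w_obj x')) φ']
    simp [Over.eqToHom_left, StMod.baseOver, StMod.bmap]
  obtain ⟨b₀, hb₀, hb₀'⟩ := exists_factor h𝒴 (π.map φ') b
    (eqToHom ((StMod.sch_obj_eq π x).trans ((congrArg Comma.left hx'').symm.trans (StMod.sch_obj_eq π x'').symm))) (by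
      rw [bmap_map, hb]
      simp)
  have hlift : 𝒴.p.IsHomLift (𝟙 (𝒳.p.obj x)) b₀ := by
    refine IsHomLift.of_fac' _ _ _ (π.w_obj x) ((π.w_obj x'').trans hx'') (Over.OverMorphism.ext ?_)
    show StMod.bmap 𝒴 b₀ = _
    rw [hb₀]
    simp [Over.eqToHom_left]
  obtain ⟨R, hR, hR'⟩ := hπ x x'' b₀ hlift
  obtain ⟨V, f, hf, h₁, h₂, ht⟩ := exists_fppf_point hR t
  obtain ⟨x₀, φ, ψ, hφ, -, he⟩ := hR' f hf
  obtain ⟨a, c, d⟩ := flat_lfp_bmap φ f hφ rfl t ht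
  refine ⟨x₀, φ, ψ ≫ φ', a, c, d, ?_⟩
  rw [π.toFunctor.map_comp, ← he, Category.assoc, hb₀']

end Groth.Agent.QDescent
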