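import Mathlib
import Groth.Agent.QC.Basic

/-!
# Sections of products of modules on a scheme
-/

universe u

open CategoryTheory CategoryTheory.Limits AlgebraicGeometry TopologicalSpace Opposite

set_option autoImplicit false
set_option backward.isDefEq.respectTransparency false
set_option backward.isDefEq.respectTransparency.types false

namespace Groth.Agent.QDescent

variable {X : Scheme.{u}} {ι : Type u} (M : ι → X.Modules) (V : X.Opens)

/-- Sections of a product of modules are the families of sections of the factors. -/
theorem pi_sections_bijective :
    Function.Bijective (fun (s : Γ(∏ᶜ M, V)) (i : ι) => (Pi.π M i).app V s) := by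
  let ev : X.Modules ⥤ _ := SheafOfModules.evaluation X.ringCatSheaf (op V)
  have : PreservesLimit (Discrete.functor M) ev :=
    (SheafOfModules.evaluationPreservesLimitsOfShape (D := Discrete ι) X.ringCatSheaf (op V)).preservesLimit
  let e := (Iso.toLinearEquiv (PreservesProduct.iso ev M)).toEquiv.trans
    (Concrete.productEquiv (fun i => ev.obj (M i)))
  have he : (fun (s : Γ(∏ᶜ M, V)) (i : ι) => (Pi.π M i).app V s) = e := by
    funext s i
    refine Eq.trans ?_ (Concrete.productEquiv_apply_apply (fun i => ev.obj (M i)) _ i).symm
    show _ = ((PreservesProduct.iso ev M).hom ≫ Pi.π (fun i => ev.obj (M i)) i) s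
    rw [PreservesProduct.iso_hom, piComparison_comp_π]
    rfl
  rw [he]
  exact e.bijective

end Groth.Agent.QDescent
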