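import Mathlib
import Groth.Agent.SchDescent.Amitsur

/-!
# The Amitsur sequence of a finite jointly faithfully flat family
-/

universe u

open TensorProduct

set_option autoImplicit false
set_option linter.style.haveILetI false

namespace Groth.Agent.QDescent

variable {A : Type u} [CommRing A] {ι : Type u} [Fintype ι] (B : ι → Type u) [∀ i, CommRing (B i)] [∀ i, Algebra A (B i)]

/-- The projection of the product algebra onto a factor, as a linear map. -/
abbrev projB (i : ι) : (∀ i, B i) →ₗ[A] B i := LinearMap.proj i

theorem tensor_pi_bijective (N : Type u) [AddCommGroup N] [Module A N] :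
    Function.Bijective (fun (z : (∀ i, B i) ⊗[A] N) (i : ι) => (projB B i).rTensor N z) := by
  classical
  let e := (TensorProduct.comm A (∀ i, B i) N).trans ((TensorProduct.piRight A A N B).trans
    (LinearEquiv.piCongrRight fun i => TensorProduct.comm A N (B i)))
  have he : (e : (∀ i, B i) ⊗[A] N →ₗ[A] ∀ i, B i ⊗[A] N) = LinearMap.pi fun i => (projB B i).rTensor N := by
    apply TensorProduct.ext'
    intro b n
    funext i
    simp [e]
  have h2 : (fun (z : (∀ i, B i) ⊗[A] N) (i : ι) => (projB B i).rTensor N z) = e := by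
    funext z i
    exact (congrFun (LinearMap.congr_fun he z) i).symm
  rw [h2]
  exact e.bijective

theorem tensor_pi_ext {N : Type u} [AddCommGroup N] [Module A N] {z z' : (∀ i, B i) ⊗[A] N}
    (h : ∀ i, (projB B i).rTensor N z = (projB B i).rTensor N z') : z = z' :=
  (tensor_pi_bijective B N).1 (funext h)

theorem tensor_pi_ext₂ {N : Type u} [AddCommGroup N] [Module A N] {i : ι} {z z' : B i ⊗[A] ((∀ i, B i) ⊗[A] N)}
    (h : ∀ j, ((projB B j).rTensor N).lTensor (B i) z = ((projB B j).rTensor N).lTensor (B i) z') : z = z' := by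
  classical
  let f : (∀ i, B i) ⊗[A] N →ₗ[A] ∀ j, B j ⊗[A] N := LinearMap.pi fun j => (projB B j).rTensor N
  have hf : Function.Bijective f := tensor_pi_bijective B N
  let e := (LinearEquiv.lTensor (B i) (LinearEquiv.ofBijective f hf)).trans (TensorProduct.piRight A A (B i) (fun j => B j ⊗[A] N))
  have he : ∀ (j : ι) (w : B i ⊗[A] ((∀ i, B i) ⊗[A] N)), e w j = ((projB B j).rTensor N).lTensor (B i) w := by
    intro j w
    induction w using TensorProduct.induction_on with
    | zero => simp
    | tmul b y => simp [e, f]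
    | add x y hx hy => simp [map_add, hx, hy]
  apply e.injective
  funext j
  rw [he, he, h]

/-- A family of elements of `B i ⊗ M` agreeing in every `B i ⊗ B j ⊗ M` comes from `M`, for a jointly faithfully flat
family. -/
theorem exists_of_amitsur [Module.FaithfullyFlat A (∀ i, B i)] (M : Type u) [AddCommGroup M] [Module A M]
    (x : ∀ i, B i ⊗[A] M)
    (h : ∀ i j, (TensorProduct.mk A (B i) (B j ⊗[A] M) 1) (x j) =
      (TensorProduct.mk A (B j) M 1).lTensor (B i) (x i)) :
    ∃ m : M, ∀ i, (1 : B i) ⊗ₜ[A] m = x i := by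
  obtain ⟨z, hz⟩ := (tensor_pi_bijective B M).2 x
  obtain ⟨m, hm⟩ := SchDescent.mem_range_of_amitsur A (∀ i, B i) M z <| by
    refine tensor_pi_ext B fun i => tensor_pi_ext₂ B fun j => ?_
    have key1 : ∀ w : (∀ i, B i) ⊗[A] M, ((projB B j).rTensor M).lTensor (B i)
        ((projB B i).rTensor ((∀ i, B i) ⊗[A] M) (TensorProduct.mk A (∀ i, B i) _ 1 w)) =
        TensorProduct.mk A (B i) (B j ⊗[A] M) 1 ((projB B j).rTensor M w) := fun w => by simp
    have key2 : ∀ w : (∀ i, B i) ⊗[A] M, ((projB B j).rTensor M).lTensor (B i)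
        ((projB B i).rTensor ((∀ i, B i) ⊗[A] M) ((TensorProduct.mk A (∀ i, B i) M 1).lTensor (∀ i, B i) w)) =
        (TensorProduct.mk A (B j) M 1).lTensor (B i) ((projB B i).rTensor M w) := fun w => by
      induction w using TensorProduct.induction_on with
      | zero => simp
      | tmul b y => simp
      | add a b ha hb => simp [map_add, ha, hb]
    rw [key1, key2, show (projB B j).rTensor M z = x j from congrFun hz j,
      show (projB B i).rTensor M z = x i from congrFun hz i]
    exact h i j
  refine ⟨m, fun i => ?_⟩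
  rw [← show (projB B i).rTensor M z = x i from congrFun hz i, ← hm]
  simp

omit [Fintype ι] in
/-- The element of `M` in `exists_of_amitsur` is unique. -/
theorem eq_of_forall_tmul [Finite ι] [Module.FaithfullyFlat A (∀ i, B i)] (M : Type u) [AddCommGroup M] [Module A M] {m m' : M}
    (h : ∀ i, (1 : B i) ⊗ₜ[A] m = 1 ⊗ₜ[A] m') : m = m' := by
  have := Fintype.ofFinite ι
  refine Module.FaithfullyFlat.tensorProduct_mk_injective (A := A) (B := ∀ i, B i) M ?_
  exact tensor_pi_ext B fun i => by simpa using h i

end Groth.Agent.QDescent
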