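import Mathlib
import Groth.Prelude.Def_FibCat2
import Groth.Agent.GerbLib.Basic
import Groth.Agent.QDescent.Algebra
import Groth.Agent.QDescent.Restr

/-!
# Sections of quasi-coherent modules on a fibred category form an fppf sheaf
-/

universe w' w v u

open CategoryTheory CategoryTheory.Limits AlgebraicGeometry TopologicalSpace Opposite TensorProduct

set_option autoImplicit false
set_option backward.isDefEq.respectTransparency false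
set_option backward.isDefEq.respectTransparency.types false
set_option linter.style.haveILetI false

namespace Groth.Agent.QDescent

open Groth.Agent.QC

/-- A jointly surjective family of flat morphisms locally of finite presentation over an affine open yields a finite
jointly faithfully flat family of affine pieces. -/
theorem exists_pieces {X : Scheme.{u}} {ι : Type w'} {Y : ι → Scheme.{u}} (f : ∀ i, Y i ⟶ X)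
    (hf : ∀ i, Flat (f i) ∧ LocallyOfFinitePresentation (f i)) {U : X.Opens} (hU : IsAffineOpen U)
    (hcov : ∀ x ∈ U, ∃ i, x ∈ Set.range (f i).base) :
    ∃ (κ : Type u) (_ : Fintype κ) (k : κ → ι) (W : ∀ a, (Y (k a)).affineOpens)
      (e : ∀ a, (W a).1 ≤ f (k a) ⁻¹ᵁ U),
      letI : ∀ a, Algebra Γ(X, U) Γ(Y (k a), (W a).1) := fun a => ((f (k a)).appLE U (W a).1 (e a)).hom.toAlgebra
      (∀ a, Module.Flat Γ(X, U) Γ(Y (k a), (W a).1)) ∧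
        Module.FaithfullyFlat Γ(X, U) (∀ a, Γ(Y (k a), (W a).1)) := by
  classical
  haveI : ∀ i, Flat (f i) := fun i => (hf i).1
  haveI : ∀ i, LocallyOfFinitePresentation (f i) := fun i => (hf i).2
  have hpt : ∀ x : U, ∃ (i : ι) (W : (Y i).affineOpens), W.1 ≤ f i ⁻¹ᵁ U ∧
      x.1 ∈ (f i).base '' (W.1 : Set (Y i)) := fun x => by
    obtain ⟨i, y, hy⟩ := hcov x.1 x.2
    obtain ⟨W, hW, hyW, hWU⟩ := exists_isAffineOpen_mem_and_subset (X := Y i) (x := y) (U := f i ⁻¹ᵁ U)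
      (by show (f i).base y ∈ U; rw [hy]; exact x.2)
    exact ⟨i, ⟨W, hW⟩, hWU, y, hyW, hy⟩
  choose i W hWU hxW using hpt
  obtain ⟨t, ht⟩ := hU.isCompact.elim_finite_subcover
    (fun x : U => (f (i x)).base '' ((W x).1 : Set (Y (i x))))
    (fun x => (f (i x)).isOpenMap _ (W x).1.2)
    (fun z hz => Set.mem_iUnion.mpr ⟨⟨z, hz⟩, hxW ⟨z, hz⟩⟩)
  let B : t → Type u := fun k => Γ(Y (i k.1), (W k.1).1)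
  letI : ∀ k : t, Algebra Γ(X, U) (B k) := fun k => ((f (i k.1)).appLE U (W k.1).1 (hWU k.1)).hom.toAlgebra
  have hflat : ∀ k : t, Module.Flat Γ(X, U) (B k) := fun k => Flat.flat_appLE (f (i k.1)) hU (W k.1).2 (hWU k.1)
  refine ⟨t, inferInstance, fun k => i k.1, fun k => W k.1, fun k => hWU k.1, hflat, ?_⟩
  haveI : Module.Flat Γ(X, U) (∀ k, B k) := by haveI := hflat; exact QCDescent.flat_pi B
  refine Module.FaithfullyFlat.of_comap_surjective fun p => ?_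
  have hpU : hU.fromSpec p ∈ U := by
    have : hU.fromSpec p ∈ Set.range hU.fromSpec := ⟨p, rfl⟩
    rwa [hU.range_fromSpec] at this
  obtain ⟨x, hxt, y, hyW, hy⟩ := Set.mem_iUnion₂.mp (ht hpU)
  let Q := (W x).2.primeIdealOf ⟨y, hyW⟩
  refine ⟨PrimeSpectrum.comap (Pi.evalRingHom B ⟨x, hxt⟩) Q, ?_⟩
  rw [← PrimeSpectrum.comap_comp_apply]
  change PrimeSpectrum.comap ((f (i x)).appLE U (W x).1 (hWU x)).hom Q = p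
  rw [IsAffineOpen.comap_primeIdealOf_appLE (f := f (i x)) U hU (W x).1 (W x).2 (hWU x) hyW]
  apply hU.fromSpec.isOpenEmbedding.injective
  rw [hU.fromSpec_primeIdealOf]
  exact hy

variable {S : Scheme.{u}} {𝒵 : BasedCategory.{v, w} (Over S)}

/-- The family `φ` is an fppf covering of the open `V` of the scheme under `z`. -/
structure CoversOn {ι : Type w'} {z : 𝒵.obj} {zs : ι → 𝒵.obj} (φ : ∀ k, zs k ⟶ z)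
    (V : (StMod.sch 𝒵 z).Opens) : Prop where
  fppf : ∀ k, Flat (StMod.bmap 𝒵 (φ k)) ∧ LocallyOfFinitePresentation (StMod.bmap 𝒵 (φ k))
  surj : ∀ x ∈ V, ∃ k, x ∈ Set.range (StMod.bmap 𝒵 (φ k)).base

theorem CoversOn.mono {ι : Type w'} {z : 𝒵.obj} {zs : ι → 𝒵.obj} {φ : ∀ k, zs k ⟶ z}
    {V V' : (StMod.sch 𝒵 z).Opens} (h : CoversOn φ V) (hV : V' ≤ V) : CoversOn φ V' :=
  ⟨h.fppf, fun x hx => h.surj x (hV hx)⟩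

variable (F : StMod.QCoh 𝒵)

theorem sect_ext_affine {ι : Type w'} {z : 𝒵.obj} {zs : ι → 𝒵.obj} {φ : ∀ k, zs k ⟶ z}
    {U : (StMod.sch 𝒵 z).Opens} (hU : IsAffineOpen U) (h : CoversOn φ U) {s s' : Γ(F.obj.obj z, U)}
    (hs : ∀ k, tr F.obj (φ k) U (StMod.bmap 𝒵 (φ k) ⁻¹ᵁ U) le_rfl s =
      tr F.obj (φ k) U (StMod.bmap 𝒵 (φ k) ⁻¹ᵁ U) le_rfl s') : s = s' := by
  classical
  obtain ⟨κ, _, k, W, e, hflat, hff⟩ := exists_pieces (fun i => StMod.bmap 𝒵 (φ i)) h.fppf hU h.surj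
  letI : ∀ a, Algebra Γ(StMod.sch 𝒵 z, U) Γ(StMod.sch 𝒵 (zs (k a)), (W a).1) :=
    fun a => ((StMod.bmap 𝒵 (φ (k a))).appLE U (W a).1 (e a)).hom.toAlgebra
  haveI := hff
  refine eq_of_forall_tmul (A := Γ(StMod.sch 𝒵 z, U)) (fun a => Γ(StMod.sch 𝒵 (zs (k a)), (W a).1)) _ fun a => ?_
  obtain ⟨Φ, hΦ⟩ := exists_bijective_tr F (φ (k a)) hU (W a).2 (e a)
  apply Φ.injective
  rw [hΦ, hΦ, ← res_tr F.obj (φ (k a)) U (e a) le_rfl, ← res_tr F.obj (φ (k a)) U (e a) le_rfl, hs]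

/-- Sections are separated for fppf coverings. -/
theorem sect_ext {ι : Type w'} {z : 𝒵.obj} {zs : ι → 𝒵.obj} {φ : ∀ k, zs k ⟶ z}
    {V : (StMod.sch 𝒵 z).Opens} (h : CoversOn φ V) {s s' : Γ(F.obj.obj z, V)}
    (hs : ∀ k, tr F.obj (φ k) V (StMod.bmap 𝒵 (φ k) ⁻¹ᵁ V) le_rfl s =
      tr F.obj (φ k) V (StMod.bmap 𝒵 (φ k) ⁻¹ᵁ V) le_rfl s') : s = s' := by
  refine section_eq_of_locally fun x hx => ?_
  obtain ⟨U, hU, hxU, hUV⟩ := exists_isAffineOpen_mem_and_subset (X := StMod.sch 𝒵 z) (x := x) (U := V) hx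
  refine ⟨U, hUV, hxU, sect_ext_affine F hU (h.mono hUV) fun k => ?_⟩
  rw [tr_res, tr_res, ← res_tr F.obj (φ k) V ((StMod.bmap 𝒵 (φ k)).preimage_mono hUV) le_rfl, hs k, res_tr]

/-- A family of local sections is compatible when it agrees on every common refinement. -/
def Compatible {ι : Type w'} {z : 𝒵.obj} {zs : ι → 𝒵.obj} (φ : ∀ k, zs k ⟶ z) (V : (StMod.sch 𝒵 z).Opens)
    (t : ∀ k, Γ(F.obj.obj (zs k), StMod.bmap 𝒵 (φ k) ⁻¹ᵁ V)) : Prop :=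
  ∀ (k l : ι) (z' : 𝒵.obj) (a : z' ⟶ zs k) (b : z' ⟶ zs l), a ≫ φ k = b ≫ φ l →
    ∀ (W : (StMod.sch 𝒵 z').Opens) (e : W ≤ StMod.bmap 𝒵 a ⁻¹ᵁ (StMod.bmap 𝒵 (φ k) ⁻¹ᵁ V))
      (e' : W ≤ StMod.bmap 𝒵 b ⁻¹ᵁ (StMod.bmap 𝒵 (φ l) ⁻¹ᵁ V)),
      tr F.obj a _ W e (t k) = tr F.obj b _ W e' (t l)

/-- The effect on functions of a morphism into an affine open which factors through a spectrum. -/
theorem appLE_of_factor {Z Y : Scheme.{u}} {W : Y.Opens} (hW : IsAffineOpen W) {C : CommRingCat.{u}}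
    (ρ : Γ(Y, W) ⟶ C) (q : Z ⟶ Spec C) (g : Z ⟶ Y) (hg : g = q ≫ Spec.map ρ ≫ hW.fromSpec)
    (e : (⊤ : Z.Opens) ≤ g ⁻¹ᵁ W) : g.appLE W ⊤ e = ρ ≫ (Scheme.ΓSpecIso C).inv ≫ q.appTop := by
  subst hg
  have hW' : (⊤ : (Spec C).Opens) ≤ (Spec.map ρ ≫ hW.fromSpec) ⁻¹ᵁ W := by
    rw [Scheme.Hom.comp_preimage, hW.fromSpec_preimage_self, Scheme.Hom.preimage_top]
  rw [← Scheme.Hom.appLE_comp_appLE q (Spec.map ρ ≫ hW.fromSpec) W ⊤ ⊤ hW' le_top,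
    ← Scheme.Hom.appLE_comp_appLE (Spec.map ρ) hW.fromSpec W ⊤ ⊤ (by rw [hW.fromSpec_preimage_self]) le_top]
  have h1 : hW.fromSpec.appLE W ⊤ (by rw [hW.fromSpec_preimage_self]) = (Scheme.ΓSpecIso Γ(Y, W)).inv := by
    rw [Scheme.Hom.appLE, hW.fromSpec_app_self, Category.assoc, ← Functor.map_comp]
    exact (congrArg (_ ≫ ·) ((congrArg (Spec Γ(Y, W)).presheaf.map (Subsingleton.elim _ (𝟙 _))).trans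
      ((Spec Γ(Y, W)).presheaf.map_id _))).trans (Category.comp_id _)
  have h2 : q.appLE ⊤ ⊤ le_top = q.appTop := (Scheme.Hom.appLE_eq_app (f := q) :)
  have h3 : (Spec.map ρ).appLE ⊤ ⊤ le_top = (Spec.map ρ).appTop := (Scheme.Hom.appLE_eq_app (f := Spec.map ρ) :)
  rw [h1, h2, h3, ← Scheme.ΓSpecIso_inv_naturality, Category.assoc]

/-- The fibre product over an affine open of affine pieces of two objects, as an object with two maps. -/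
theorem exists_double (hZ : FibCat.IsFibGrpd 𝒵.p) {z z₁ z₂ : 𝒵.obj} (φ₁ : z₁ ⟶ z) (φ₂ : z₂ ⟶ z)
    {U : (StMod.sch 𝒵 z).Opens} (hU : IsAffineOpen U) {W₁ : (StMod.sch 𝒵 z₁).Opens} (hW₁ : IsAffineOpen W₁)
    {W₂ : (StMod.sch 𝒵 z₂).Opens} (hW₂ : IsAffineOpen W₂) (e₁ : W₁ ≤ StMod.bmap 𝒵 φ₁ ⁻¹ᵁ U)
    (e₂ : W₂ ≤ StMod.bmap 𝒵 φ₂ ⁻¹ᵁ U) :
    letI : Algebra Γ(StMod.sch 𝒵 z, U) Γ(StMod.sch 𝒵 z₁, W₁) :=
      ((StMod.bmap 𝒵 φ₁).appLE U W₁ e₁).hom.toAlgebra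
    letI : Algebra Γ(StMod.sch 𝒵 z, U) Γ(StMod.sch 𝒵 z₂, W₂) :=
      ((StMod.bmap 𝒵 φ₂).appLE U W₂ e₂).hom.toAlgebra
    ∃ (z' : 𝒵.obj) (a : z' ⟶ z₁) (b : z' ⟶ z₂) (_ : a ≫ φ₁ = b ≫ φ₂) (_ : IsAffine (StMod.sch 𝒵 z'))
      (ea : ⊤ ≤ StMod.bmap 𝒵 a ⁻¹ᵁ W₁) (eb : ⊤ ≤ StMod.bmap 𝒵 b ⁻¹ᵁ W₂)
      (σ : Γ(StMod.sch 𝒵 z₁, W₁) ⊗[Γ(StMod.sch 𝒵 z, U)] Γ(StMod.sch 𝒵 z₂, W₂) →+* Γ(StMod.sch 𝒵 z', ⊤)),
      Function.Bijective σ ∧ (∀ c, σ (c ⊗ₜ 1) = ((StMod.bmap 𝒵 a).appLE W₁ ⊤ ea).hom c) ∧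
        ∀ c, σ (1 ⊗ₜ c) = ((StMod.bmap 𝒵 b).appLE W₂ ⊤ eb).hom c := by
  letI : Algebra Γ(StMod.sch 𝒵 z, U) Γ(StMod.sch 𝒵 z₁, W₁) :=
    ((StMod.bmap 𝒵 φ₁).appLE U W₁ e₁).hom.toAlgebra
  letI : Algebra Γ(StMod.sch 𝒵 z, U) Γ(StMod.sch 𝒵 z₂, W₂) :=
    ((StMod.bmap 𝒵 φ₂).appLE U W₂ e₂).hom.toAlgebra
  let C := CommRingCat.of (Γ(StMod.sch 𝒵 z₁, W₁) ⊗[Γ(StMod.sch 𝒵 z, U)] Γ(StMod.sch 𝒵 z₂, W₂))
  let ρ₁ : Γ(StMod.sch 𝒵 z₁, W₁) ⟶ C := CommRingCat.ofHom Algebra.TensorProduct.includeLeftRingHom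
  let ρ₂ : Γ(StMod.sch 𝒵 z₂, W₂) ⟶ C := CommRingCat.ofHom
    (Algebra.TensorProduct.includeRight (R := Γ(StMod.sch 𝒵 z, U))).toRingHom
  let i₁ : Spec C ⟶ StMod.sch 𝒵 z₁ := Spec.map ρ₁ ≫ hW₁.fromSpec
  let i₂ : Spec C ⟶ StMod.sch 𝒵 z₂ := Spec.map ρ₂ ≫ hW₂.fromSpec
  have hρ : (StMod.bmap 𝒵 φ₁).appLE U W₁ e₁ ≫ ρ₁ = (StMod.bmap 𝒵 φ₂).appLE U W₂ e₂ ≫ ρ₂ := by
    ext r
    exact ((Algebra.TensorProduct.includeLeft (R := Γ(StMod.sch 𝒵 z, U)) (S := Γ(StMod.sch 𝒵 z, U))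
      (A := Γ(StMod.sch 𝒵 z₁, W₁)) (B := Γ(StMod.sch 𝒵 z₂, W₂))).commutes r).trans
      ((Algebra.TensorProduct.includeRight (R := Γ(StMod.sch 𝒵 z, U))
      (A := Γ(StMod.sch 𝒵 z₁, W₁)) (B := Γ(StMod.sch 𝒵 z₂, W₂))).commutes r).symm
  have hi : i₁ ≫ StMod.bmap 𝒵 φ₁ = i₂ ≫ StMod.bmap 𝒵 φ₂ := by
    show (Spec.map ρ₁ ≫ hW₁.fromSpec) ≫ _ = (Spec.map ρ₂ ≫ hW₂.fromSpec) ≫ _
    rw [Category.assoc, Category.assoc, ← IsAffineOpen.SpecMap_appLE_fromSpec (StMod.bmap 𝒵 φ₁) hU hW₁ e₁,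
      ← IsAffineOpen.SpecMap_appLE_fromSpec (StMod.bmap 𝒵 φ₂) hU hW₂ e₂, ← Spec.map_comp_assoc,
      ← Spec.map_comp_assoc, hρ]
  let f : Over.mk (i₁ ≫ (𝒵.p.obj z₁).hom) ⟶ 𝒵.p.obj z₁ := Over.homMk i₁ rfl
  obtain ⟨z', a, ha⟩ := GerbLib.lift_at hZ rfl f
  have hz' : 𝒵.p.obj z' = Over.mk (i₁ ≫ (𝒵.p.obj z₁).hom) := IsHomLift.domain_eq 𝒵.p f a
  let q : StMod.sch 𝒵 z' ⟶ Spec C := eqToHom (congrArg Comma.left hz')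
  have hba : StMod.bmap 𝒵 a = q ≫ i₁ := by
    rw [show StMod.bmap 𝒵 a = (𝒵.p.map a).left from rfl, IsHomLift.fac' 𝒵.p f a]
    simp [q, f, Over.eqToHom_left]
  have hw : (q ≫ i₂) ≫ (𝒵.p.obj z₂).hom = (𝒵.p.obj z').hom := by
    have h1 : StMod.bmap 𝒵 a ≫ (𝒵.p.obj z₁).hom = (𝒵.p.obj z').hom := Over.w (𝒵.p.map a)
    have h2 : StMod.bmap 𝒵 φ₁ ≫ (𝒵.p.obj z).hom = (𝒵.p.obj z₁).hom := Over.w (𝒵.p.map φ₁)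
    have h3 : StMod.bmap 𝒵 φ₂ ≫ (𝒵.p.obj z).hom = (𝒵.p.obj z₂).hom := Over.w (𝒵.p.map φ₂)
    calc (q ≫ i₂) ≫ (𝒵.p.obj z₂).hom = (q ≫ i₂) ≫ StMod.bmap 𝒵 φ₂ ≫ (𝒵.p.obj z).hom :=
          congrArg ((q ≫ i₂) ≫ ·) h3.symm
      _ = (q ≫ (i₂ ≫ StMod.bmap 𝒵 φ₂)) ≫ (𝒵.p.obj z).hom := by simp only [Category.assoc]
      _ = (q ≫ (i₁ ≫ StMod.bmap 𝒵 φ₁)) ≫ (𝒵.p.obj z).hom := congrArg (fun g => (q ≫ g) ≫ (𝒵.p.obj z).hom) hi.symm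
      _ = (q ≫ i₁) ≫ StMod.bmap 𝒵 φ₁ ≫ (𝒵.p.obj z).hom := by simp only [Category.assoc]
      _ = StMod.bmap 𝒵 a ≫ (𝒵.p.obj z₁).hom := by rw [hba]; exact congrArg ((q ≫ i₁) ≫ ·) h2
      _ = (𝒵.p.obj z').hom := h1
  let g₂ : 𝒵.p.obj z' ⟶ 𝒵.p.obj z₂ := Over.homMk (q ≫ i₂) hw
  have hg₂ : 𝒵.p.map (a ≫ φ₁) = g₂ ≫ 𝒵.p.map φ₂ := by
    apply Over.OverMorphism.ext
    rw [Functor.map_comp, Over.comp_left, Over.comp_left]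
    show StMod.bmap 𝒵 a ≫ StMod.bmap 𝒵 φ₁ = (q ≫ i₂) ≫ StMod.bmap 𝒵 φ₂
    rw [hba]
    exact (Category.assoc _ _ _).trans ((congrArg (q ≫ ·) hi).trans (Category.assoc _ _ _).symm)
  haveI := hZ.isStronglyCartesian φ₂
  obtain ⟨b, ⟨hb, hfac⟩, -⟩ := Functor.IsStronglyCartesian.universal_property 𝒵.p (𝒵.p.map φ₂) φ₂ g₂
    (𝒵.p.map (a ≫ φ₁)) hg₂ (a ≫ φ₁)
  have hbb : StMod.bmap 𝒵 b = q ≫ i₂ := by
    rw [show StMod.bmap 𝒵 b = (𝒵.p.map b).left from rfl, ← IsHomLift.eq_of_isHomLift 𝒵.p g₂ b]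
    rfl
  have hrange : ∀ {Y : Scheme.{u}} {W : Y.Opens} (hW : IsAffineOpen W) (ρ : Γ(Y, W) ⟶ C)
      (g : StMod.sch 𝒵 z' ⟶ Y), g = q ≫ Spec.map ρ ≫ hW.fromSpec → (⊤ : (StMod.sch 𝒵 z').Opens) ≤ g ⁻¹ᵁ W := by
    intro Y W hW ρ g hg y _
    subst hg
    show hW.fromSpec.base ((Spec.map ρ).base (q.base y)) ∈ W
    exact (Set.ext_iff.mp hW.range_fromSpec _).mp ⟨_, rfl⟩
  have ea := hrange hW₁ ρ₁ _ hba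
  have eb := hrange hW₂ ρ₂ _ hbb
  refine ⟨z', a, b, hfac.symm, IsAffine.of_isIso q, ea, eb, ((Scheme.ΓSpecIso C).inv ≫ q.appTop).hom,
    ConcreteCategory.bijective_of_isIso ((Scheme.ΓSpecIso C).inv ≫ q.appTop), fun c => ?_, fun c => ?_⟩
  · rw [appLE_of_factor hW₁ ρ₁ q _ hba ea]; rfl
  · rw [appLE_of_factor hW₂ ρ₂ q _ hbb eb]; rfl

/-- Compatible sections on two pieces have the same image in the sections over the tensor product of the pieces. -/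
theorem amitsur_cond (hZ : FibCat.IsFibGrpd 𝒵.p) {z z₁ z₂ : 𝒵.obj} (φ₁ : z₁ ⟶ z) (φ₂ : z₂ ⟶ z)
    {U : (StMod.sch 𝒵 z).Opens} (hU : IsAffineOpen U) {W₁ : (StMod.sch 𝒵 z₁).Opens} (hW₁ : IsAffineOpen W₁)
    {W₂ : (StMod.sch 𝒵 z₂).Opens} (hW₂ : IsAffineOpen W₂) (e₁ : W₁ ≤ StMod.bmap 𝒵 φ₁ ⁻¹ᵁ U)
    (e₂ : W₂ ≤ StMod.bmap 𝒵 φ₂ ⁻¹ᵁ U) :
    letI : Algebra Γ(StMod.sch 𝒵 z, U) Γ(StMod.sch 𝒵 z₁, W₁) :=
      ((StMod.bmap 𝒵 φ₁).appLE U W₁ e₁).hom.toAlgebra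
    letI : Algebra Γ(StMod.sch 𝒵 z, U) Γ(StMod.sch 𝒵 z₂, W₂) :=
      ((StMod.bmap 𝒵 φ₂).appLE U W₂ e₂).hom.toAlgebra
    ∀ (Φ₁ : Γ(StMod.sch 𝒵 z₁, W₁) ⊗[Γ(StMod.sch 𝒵 z, U)] Γ(F.obj.obj z, U) ≃ₗ[Γ(StMod.sch 𝒵 z₁, W₁)]
        Γ(F.obj.obj z₁, W₁)) (_ : ∀ s, Φ₁ (1 ⊗ₜ s) = tr F.obj φ₁ U W₁ e₁ s)
      (Φ₂ : Γ(StMod.sch 𝒵 z₂, W₂) ⊗[Γ(StMod.sch 𝒵 z, U)] Γ(F.obj.obj z, U) ≃ₗ[Γ(StMod.sch 𝒵 z₂, W₂)]
        Γ(F.obj.obj z₂, W₂)) (_ : ∀ s, Φ₂ (1 ⊗ₜ s) = tr F.obj φ₂ U W₂ e₂ s)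
      (t₁ : Γ(F.obj.obj z₁, W₁)) (t₂ : Γ(F.obj.obj z₂, W₂))
      (_ : ∀ (z' : 𝒵.obj) (a : z' ⟶ z₁) (b : z' ⟶ z₂), a ≫ φ₁ = b ≫ φ₂ →
        ∀ (ea : ⊤ ≤ StMod.bmap 𝒵 a ⁻¹ᵁ W₁) (eb : ⊤ ≤ StMod.bmap 𝒵 b ⁻¹ᵁ W₂),
          tr F.obj a W₁ ⊤ ea t₁ = tr F.obj b W₂ ⊤ eb t₂),
      (TensorProduct.mk Γ(StMod.sch 𝒵 z, U) Γ(StMod.sch 𝒵 z₁, W₁)
          (Γ(StMod.sch 𝒵 z₂, W₂) ⊗[Γ(StMod.sch 𝒵 z, U)] Γ(F.obj.obj z, U)) 1) (Φ₂.symm t₂) =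
        (TensorProduct.mk Γ(StMod.sch 𝒵 z, U) Γ(StMod.sch 𝒵 z₂, W₂) Γ(F.obj.obj z, U) 1).lTensor
          Γ(StMod.sch 𝒵 z₁, W₁) (Φ₁.symm t₁) := by
  intro Φ₁ hΦ₁ Φ₂ hΦ₂ t₁ t₂ ht
  letI : Algebra Γ(StMod.sch 𝒵 z, U) Γ(StMod.sch 𝒵 z₁, W₁) :=
    ((StMod.bmap 𝒵 φ₁).appLE U W₁ e₁).hom.toAlgebra
  letI : Algebra Γ(StMod.sch 𝒵 z, U) Γ(StMod.sch 𝒵 z₂, W₂) :=
    ((StMod.bmap 𝒵 φ₂).appLE U W₂ e₂).hom.toAlgebra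
  obtain ⟨z', a, b, hab, haff, ea, eb, σ, hσb, hσl, hσr⟩ := exists_double hZ φ₁ φ₂ hU hW₁ hW₂ e₁ e₂
  have e₃ : (⊤ : (StMod.sch 𝒵 z').Opens) ≤ StMod.bmap 𝒵 (a ≫ φ₁) ⁻¹ᵁ U := le_preimage_comp a φ₁ e₁ ea
  letI : Algebra Γ(StMod.sch 𝒵 z, U) Γ(StMod.sch 𝒵 z', ⊤) :=
    ((StMod.bmap 𝒵 (a ≫ φ₁)).appLE U ⊤ e₃).hom.toAlgebra
  obtain ⟨Φ', hΦ'⟩ := exists_bijective_tr F (a ≫ φ₁) hU (isAffineOpen_top _) e₃
  have happ : ∀ {g : StMod.sch 𝒵 z' ⟶ StMod.sch 𝒵 z} (_ : g = StMod.bmap 𝒵 a ≫ StMod.bmap 𝒵 φ₁)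
      (e₀ : ⊤ ≤ g ⁻¹ᵁ U) (r : Γ(StMod.sch 𝒵 z, U)),
      (g.appLE U ⊤ e₀).hom r = σ (algebraMap _ Γ(StMod.sch 𝒵 z₁, W₁) r ⊗ₜ 1) := by
    rintro g rfl e₀ r
    rw [hσl, ← Scheme.Hom.appLE_comp_appLE (StMod.bmap 𝒵 a) (StMod.bmap 𝒵 φ₁) U W₁ ⊤ e₁ ea]
    rfl
  let σ' : Γ(StMod.sch 𝒵 z₁, W₁) ⊗[Γ(StMod.sch 𝒵 z, U)] Γ(StMod.sch 𝒵 z₂, W₂) →ₐ[Γ(StMod.sch 𝒵 z, U)]
      Γ(StMod.sch 𝒵 z', ⊤) :=
    { σ with commutes' := fun r => (happ (StMod.bmap_comp a φ₁) e₃ r).symm }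
  let Ψ := σ'.toLinearMap.rTensor Γ(F.obj.obj z, U)
  have hΨ : Function.Injective Ψ :=
    (LinearEquiv.rTensor Γ(F.obj.obj z, U) (AlgEquiv.ofBijective σ' hσb).toLinearEquiv).injective
  let asc := (TensorProduct.assoc Γ(StMod.sch 𝒵 z, U) Γ(StMod.sch 𝒵 z₁, W₁) Γ(StMod.sch 𝒵 z₂, W₂)
    Γ(F.obj.obj z, U)).symm
  apply asc.injective
  apply hΨ
  apply Φ'.injective
  have hl : ∀ w, Φ' (Ψ (asc ((TensorProduct.mk Γ(StMod.sch 𝒵 z, U) Γ(StMod.sch 𝒵 z₂, W₂) Γ(F.obj.obj z, U)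
      1).lTensor Γ(StMod.sch 𝒵 z₁, W₁) w))) = tr F.obj a W₁ ⊤ ea (Φ₁ w) := by
    intro w
    induction w using TensorProduct.induction_on with
    | zero => simp
    | tmul c m =>
      have h1 : c ⊗ₜ[Γ(StMod.sch 𝒵 z, U)] m = c • ((1 : Γ(StMod.sch 𝒵 z₁, W₁)) ⊗ₜ m) := by
        rw [TensorProduct.smul_tmul', smul_eq_mul, mul_one]
      have h2 : Ψ (asc ((TensorProduct.mk Γ(StMod.sch 𝒵 z, U) Γ(StMod.sch 𝒵 z₂, W₂) Γ(F.obj.obj z, U)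
          1).lTensor Γ(StMod.sch 𝒵 z₁, W₁) (c ⊗ₜ m))) = σ (c ⊗ₜ 1) • ((1 : Γ(StMod.sch 𝒵 z', ⊤)) ⊗ₜ m) := by
        simp [Ψ, asc, TensorProduct.smul_tmul', σ']
      rw [h2, h1, map_smul, map_smul, hΦ', hΦ₁, tr_smul, tr_tr, hσl]
    | add u₁ u₂ h₁ h₂ => simp only [map_add, h₁, h₂]
  have hr : ∀ w, Φ' (Ψ (asc ((1 : Γ(StMod.sch 𝒵 z₁, W₁)) ⊗ₜ w))) = tr F.obj b W₂ ⊤ eb (Φ₂ w) := by
    intro w
    induction w using TensorProduct.induction_on with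
    | zero => simp
    | tmul c m =>
      have h1 : c ⊗ₜ[Γ(StMod.sch 𝒵 z, U)] m = c • ((1 : Γ(StMod.sch 𝒵 z₂, W₂)) ⊗ₜ m) := by
        rw [TensorProduct.smul_tmul', smul_eq_mul, mul_one]
      have h2 : Ψ (asc ((1 : Γ(StMod.sch 𝒵 z₁, W₁)) ⊗ₜ (c ⊗ₜ[Γ(StMod.sch 𝒵 z, U)] m))) =
          σ (1 ⊗ₜ c) • ((1 : Γ(StMod.sch 𝒵 z', ⊤)) ⊗ₜ m) := by
        simp [Ψ, asc, TensorProduct.smul_tmul', σ']
      rw [h2, h1, map_smul, map_smul, hΦ', hΦ₂, tr_smul, tr_tr, hσr]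
      exact congrArg _ (tr_congr F.obj hab _ _ _ _ _)
    | add u₁ u₂ h₁ h₂ => simp only [TensorProduct.tmul_add, map_add, h₁, h₂]
  rw [TensorProduct.mk_apply, hr, hl, LinearEquiv.apply_symm_apply, LinearEquiv.apply_symm_apply]
  exact (ht z' a b hab ea eb).symm

theorem glue_affine (hZ : FibCat.IsFibGrpd 𝒵.p) {ι : Type w'} {z : 𝒵.obj} {zs : ι → 𝒵.obj}
    {φ : ∀ k, zs k ⟶ z} {U : (StMod.sch 𝒵 z).Opens} (hU : IsAffineOpen U) (h : CoversOn φ U)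
    (t : ∀ k, Γ(F.obj.obj (zs k), StMod.bmap 𝒵 (φ k) ⁻¹ᵁ U)) (ht : Compatible F φ U t) :
    ∃ s : Γ(F.obj.obj z, U), ∀ k, tr F.obj (φ k) U (StMod.bmap 𝒵 (φ k) ⁻¹ᵁ U) le_rfl s = t k := by
  classical
  obtain ⟨κ, _, k, W, e, hflat, hff⟩ := exists_pieces (fun i => StMod.bmap 𝒵 (φ i)) h.fppf hU h.surj
  letI : ∀ a, Algebra Γ(StMod.sch 𝒵 z, U) Γ(StMod.sch 𝒵 (zs (k a)), (W a).1) :=
    fun a => ((StMod.bmap 𝒵 (φ (k a))).appLE U (W a).1 (e a)).hom.toAlgebra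
  haveI := hff
  choose Φ hΦ using fun a => exists_bijective_tr F (φ (k a)) hU (W a).2 (e a)
  obtain ⟨m, hm⟩ := exists_of_amitsur (fun a => Γ(StMod.sch 𝒵 (zs (k a)), (W a).1)) Γ(F.obj.obj z, U)
    (fun a => (Φ a).symm (res (F.obj.obj (zs (k a))) (e a) (t (k a)))) fun a b =>
      amitsur_cond F hZ (φ (k a)) (φ (k b)) hU (W a).2 (W b).2 (e a) (e b) (Φ a) (hΦ a) (Φ b) (hΦ b) _ _
        fun z' a' b' hab' ea eb => by rw [tr_res, tr_res]; exact ht _ _ z' a' b' hab' ⊤ _ _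
  have hmW : ∀ a, tr F.obj (φ (k a)) U (W a).1 (e a) m = res (F.obj.obj (zs (k a))) (e a) (t (k a)) := fun a => by
    rw [← hΦ, hm, LinearEquiv.apply_symm_apply]
  refine ⟨m, fun i => ?_⟩
  refine section_eq_of_locally fun x hx => ?_
  obtain ⟨W', hW', hxW', hW'U⟩ :=
    exists_isAffineOpen_mem_and_subset (X := StMod.sch 𝒵 (zs i)) (x := x) (U := StMod.bmap 𝒵 (φ i) ⁻¹ᵁ U) hx
  refine ⟨W', hW'U, hxW', ?_⟩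
  rw [res_tr]
  letI : Algebra Γ(StMod.sch 𝒵 z, U) Γ(StMod.sch 𝒵 (zs i), W') :=
    ((StMod.bmap 𝒵 (φ i)).appLE U W' hW'U).hom.toAlgebra
  obtain ⟨Φ', hΦ'⟩ := exists_bijective_tr F (φ i) hU hW' hW'U
  have key : Φ'.symm (res (F.obj.obj (zs i)) hW'U (t i)) =
      (1 : Γ(StMod.sch 𝒵 (zs i), W')) ⊗ₜ[Γ(StMod.sch 𝒵 z, U)] m := by
    refine eq_of_forall_tmul (A := Γ(StMod.sch 𝒵 z, U)) (fun a => Γ(StMod.sch 𝒵 (zs (k a)), (W a).1)) _ fun a => ?_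
    have hc := amitsur_cond F hZ (φ (k a)) (φ i) hU (W a).2 hW' (e a) hW'U (Φ a) (hΦ a) Φ' hΦ'
      (res (F.obj.obj (zs (k a))) (e a) (t (k a))) (res (F.obj.obj (zs i)) hW'U (t i))
      fun z' a' b' hab' ea eb => by rw [tr_res, tr_res]; exact ht _ _ z' a' b' hab' ⊤ _ _
    rw [← hm a] at hc
    simpa using hc
  have := congrArg Φ' key
  rw [LinearEquiv.apply_symm_apply, hΦ'] at this
  exact this.symm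

/-- Compatible sections glue along fppf coverings. -/
theorem glue (hZ : FibCat.IsFibGrpd 𝒵.p) {ι : Type w'} {z : 𝒵.obj} {zs : ι → 𝒵.obj}
    {φ : ∀ k, zs k ⟶ z} {V : (StMod.sch 𝒵 z).Opens} (h : CoversOn φ V)
    (t : ∀ k, Γ(F.obj.obj (zs k), StMod.bmap 𝒵 (φ k) ⁻¹ᵁ V)) (ht : Compatible F φ V t) :
    ∃ s : Γ(F.obj.obj z, V), ∀ k, tr F.obj (φ k) V (StMod.bmap 𝒵 (φ k) ⁻¹ᵁ V) le_rfl s = t k := by
  let ι' := {U : (StMod.sch 𝒵 z).affineOpens // U.1 ≤ V}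
  choose sU hsU using fun U : ι' => glue_affine F hZ U.1.2 (h.mono U.2)
    (fun k => res (F.obj.obj (zs k)) ((StMod.bmap 𝒵 (φ k)).preimage_mono U.2) (t k))
    fun k l z' a b hab W e e' => by rw [tr_res, tr_res]; exact ht k l z' a b hab W _ _
  have hU : V ≤ ⨆ U : ι', U.1.1 := fun x hx => by
    obtain ⟨U, hU, hxU, hUV⟩ := exists_isAffineOpen_mem_and_subset (X := StMod.sch 𝒵 z) (x := x) (U := V) hx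
    exact Opens.mem_iSup.mpr ⟨⟨⟨U, hU⟩, hUV⟩, hxU⟩
  obtain ⟨s, hs, -⟩ := TopCat.Sheaf.existsUnique_gluing'
    ((SheafOfModules.toSheaf _).obj (F.obj.obj z)) (fun U : ι' => U.1.1) V (fun U => homOfLE U.2) hU sU
    fun U U' => by
      refine sect_ext F (h.mono (inf_le_left.trans U.2)) fun k => ?_
      show tr F.obj (φ k) _ _ _ (res (F.obj.obj z) inf_le_left (sU U)) =
        tr F.obj (φ k) _ _ _ (res (F.obj.obj z) inf_le_right (sU U'))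
      rw [tr_res, tr_res, ← res_tr F.obj (φ k) U.1.1 ((StMod.bmap 𝒵 (φ k)).preimage_mono inf_le_left) le_rfl,
        ← res_tr F.obj (φ k) U'.1.1 ((StMod.bmap 𝒵 (φ k)).preimage_mono inf_le_right) le_rfl, hsU, hsU, res_res,
        res_res]
  refine ⟨s, fun k => section_eq_of_locally fun x hx => ?_⟩
  obtain ⟨U, hU', hxU, hUV⟩ := exists_isAffineOpen_mem_and_subset (X := StMod.sch 𝒵 z)
    (x := (StMod.bmap 𝒵 (φ k)).base x) (U := V) hx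
  refine ⟨StMod.bmap 𝒵 (φ k) ⁻¹ᵁ U, (StMod.bmap 𝒵 (φ k)).preimage_mono hUV, hxU, ?_⟩
  rw [res_tr, ← hsU ⟨⟨U, hU'⟩, hUV⟩ k, ← hs ⟨⟨U, hU'⟩, hUV⟩]
  exact (tr_res F.obj (φ k) hUV _ _ s).symm

end Groth.Agent.QDescent
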