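import Mathlib
import Groth.Agent.QDescent.Sheaf
import Groth.Agent.QDescent.Product
import Groth.Agent.QC.IdealMod

/-!
# Descent systems: thin, locally connected categories over a scheme with a quasi-coherent module
-/

universe w v u

open CategoryTheory CategoryTheory.Limits AlgebraicGeometry TopologicalSpace Opposite

set_option autoImplicit false
set_option backward.isDefEq.respectTransparency false
set_option backward.isDefEq.respectTransparency.types false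
set_option linter.style.haveILetI false

noncomputable section

namespace Groth.Agent.QDescent

open Groth.Agent.QC

variable {S : Scheme.{u}} {𝒵 : BasedCategory.{v, w} (Over S)}

/-- A descent system on the scheme `T`: a category over schemes mapping to `T`, locally non-empty and locally
connected, and a module on it whose comparison maps depend only on the morphisms of schemes. -/
structure IsSys {T : Scheme.{u}} (u₀ : ∀ x : 𝒵.obj, StMod.sch 𝒵 x ⟶ T) (F : StMod.QCoh 𝒵) : Prop where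
  grpd : FibCat.IsFibGrpd 𝒵.p
  nat : ∀ {x' x : 𝒵.obj} (φ : x' ⟶ x), StMod.bmap 𝒵 φ ≫ u₀ x = u₀ x'
  thin : ∀ {x' x : 𝒵.obj} (φ φ' : x' ⟶ x), StMod.bmap 𝒵 φ = StMod.bmap 𝒵 φ' →
    ∀ (U : (StMod.sch 𝒵 x).Opens) (V : (StMod.sch 𝒵 x').Opens) (e : V ≤ StMod.bmap 𝒵 φ ⁻¹ᵁ U)
      (e' : V ≤ StMod.bmap 𝒵 φ' ⁻¹ᵁ U) (s : Γ(F.obj.obj x, U)), tr F.obj φ U V e s = tr F.obj φ' U V e' s
  conn : ∀ (x x' : 𝒵.obj) (Z : Scheme.{u}) (g : Z ⟶ StMod.sch 𝒵 x) (g' : Z ⟶ StMod.sch 𝒵 x'),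
    g ≫ u₀ x = g' ≫ u₀ x' → ∀ y : Z, ∃ (z : 𝒵.obj) (h : StMod.sch 𝒵 z ⟶ Z) (a : z ⟶ x) (b : z ⟶ x'),
      Flat h ∧ LocallyOfFinitePresentation h ∧ y ∈ Set.range h.base ∧
        StMod.bmap 𝒵 a = h ≫ g ∧ StMod.bmap 𝒵 b = h ≫ g'
  cov : ∀ t : T, ∃ x : 𝒵.obj, Flat (u₀ x) ∧ LocallyOfFinitePresentation (u₀ x) ∧ t ∈ Set.range (u₀ x).base

namespace IsSys

variable {T : Scheme.{u}} {u₀ : ∀ x : 𝒵.obj, StMod.sch 𝒵 x ⟶ T} {F : StMod.QCoh 𝒵} (h : IsSys u₀ F)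

include h

theorem preimage_eq {x' x : 𝒵.obj} (φ : x' ⟶ x) (V : T.Opens) :
    StMod.bmap 𝒵 φ ⁻¹ᵁ (u₀ x ⁻¹ᵁ V) = u₀ x' ⁻¹ᵁ V := by
  rw [← Scheme.Hom.comp_preimage, h.nat]

theorem le_preimage {x' x : 𝒵.obj} (φ : x' ⟶ x) (V : T.Opens) :
    u₀ x' ⁻¹ᵁ V ≤ StMod.bmap 𝒵 φ ⁻¹ᵁ (u₀ x ⁻¹ᵁ V) := (h.preimage_eq φ V).ge

theorem exists_lift {x : 𝒵.obj} {Z : Scheme.{u}} (g : Z ⟶ StMod.sch 𝒵 x) :
    ∃ (z : 𝒵.obj) (e : StMod.sch 𝒵 z = Z) (φ : z ⟶ x), StMod.bmap 𝒵 φ = eqToHom e ≫ g := by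
  obtain ⟨z, φ, hφ⟩ := GerbLib.lift_at h.grpd rfl
    (Over.homMk g rfl : Over.mk (g ≫ (𝒵.p.obj x).hom) ⟶ 𝒵.p.obj x)
  have hz := @IsHomLift.domain_eq _ _ _ _ 𝒵.p _ _ _ _ _ φ hφ
  refine ⟨z, congrArg Comma.left hz, φ, ?_⟩
  rw [show StMod.bmap 𝒵 φ = (𝒵.p.map φ).left from rfl, @IsHomLift.fac' _ _ _ _ 𝒵.p _ _ _ _ _ φ hφ]
  simp [Over.eqToHom_left]

end IsSys

variable {T : Scheme.{u}} (u₀ : ∀ x : 𝒵.obj, StMod.sch 𝒵 x ⟶ T) (F : StMod.QCoh 𝒵)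

/-- Compatible families of sections over the preimages of an open of the base. -/
def Fam (V : T.Opens) : Type max w u :=
  {t : ∀ x : 𝒵.obj, Γ(F.obj.obj x, u₀ x ⁻¹ᵁ V) //
    ∀ {x' x : 𝒵.obj} (φ : x' ⟶ x) (e : u₀ x' ⁻¹ᵁ V ≤ StMod.bmap 𝒵 φ ⁻¹ᵁ (u₀ x ⁻¹ᵁ V)),
      tr F.obj φ (u₀ x ⁻¹ᵁ V) (u₀ x' ⁻¹ᵁ V) e (t x) = t x'}

variable {u₀ F}

/-- A chosen atlas of a descent system, with chosen overlaps. -/
structure Atlas (h : IsSys u₀ F) where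
  I : Type u
  x : I → 𝒵.obj
  fppf : ∀ i, Flat (u₀ (x i)) ∧ LocallyOfFinitePresentation (u₀ (x i))
  surj : ∀ t : T, ∃ i, t ∈ Set.range (u₀ (x i)).base
  E : Type u
  l : E → I
  r : E → I
  z : E → 𝒵.obj
  a : ∀ e, z e ⟶ x (l e)
  b : ∀ e, z e ⟶ x (r e)
  refine_pair : ∀ (i j : I) (w : 𝒵.obj) (p : w ⟶ x i) (q : w ⟶ x j) (y : StMod.sch 𝒵 w),
    ∃ (e : E) (hl : l e = i) (hr : r e = j) (w' : 𝒵.obj) (c : w' ⟶ w) (d : w' ⟶ z e),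
      Flat (StMod.bmap 𝒵 c) ∧ LocallyOfFinitePresentation (StMod.bmap 𝒵 c) ∧
        y ∈ Set.range (StMod.bmap 𝒵 c).base ∧
        StMod.bmap 𝒵 (c ≫ p) = StMod.bmap 𝒵 (d ≫ a e ≫ eqToHom (congrArg x hl)) ∧
        StMod.bmap 𝒵 (c ≫ q) = StMod.bmap 𝒵 (d ≫ b e ≫ eqToHom (congrArg x hr))

theorem exists_atlas (h : IsSys u₀ F) : Nonempty (Atlas h) := by
  choose x hx₁ hx₂ hx₃ using h.cov
  choose z hh a b hz₁ hz₂ hz₃ hza hzb using fun (e : Σ (i : T) (j : T), ↥(pullback (u₀ (x i)) (u₀ (x j)))) =>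
    h.conn (x e.1) (x e.2.1) (pullback (u₀ (x e.1)) (u₀ (x e.2.1))) (pullback.fst _ _) (pullback.snd _ _)
      pullback.condition e.2.2
  refine ⟨⟨T, x, fun i => ⟨hx₁ i, hx₂ i⟩, fun t => ⟨t, hx₃ t⟩, _, fun e => e.1, fun e => e.2.1, z, a, b, ?_⟩⟩
  intro i j w p q y
  let k : StMod.sch 𝒵 w ⟶ pullback (u₀ (x i)) (u₀ (x j)) :=
    pullback.lift (StMod.bmap 𝒵 p) (StMod.bmap 𝒵 q) (by rw [h.nat, h.nat])
  let e : Σ (i : T) (j : T), ↥(pullback (u₀ (x i)) (u₀ (x j))) := ⟨i, j, k.base y⟩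
  haveI := hz₁ e
  haveI := hz₂ e
  obtain ⟨y', hy'⟩ := hz₃ e
  obtain ⟨v, hv₁, -⟩ := Scheme.Pullback.exists_preimage_pullback (f := k) (g := hh e) y y' hy'.symm
  obtain ⟨w₁, e₁, c₁, hc₁⟩ := h.exists_lift (pullback.fst k (hh e))
  obtain ⟨w₂, e₂, c₂, hc₂⟩ := h.exists_lift (pullback.snd k (hh e))
  obtain ⟨w', h', c', d', hh'₁, hh'₂, ⟨v', hv'⟩, hc', hd'⟩ := h.conn w₁ w₂ (pullback k (hh e))
    (eqToHom e₁.symm) (eqToHom e₂.symm) (by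
      have l1 : eqToHom e₁.symm ≫ u₀ w₁ = pullback.fst k (hh e) ≫ u₀ w := by
        rw [← h.nat c₁, hc₁]; simp
      have l2 : eqToHom e₂.symm ≫ u₀ w₂ = pullback.snd k (hh e) ≫ u₀ (z e) := by
        rw [← h.nat c₂, hc₂]; simp
      rw [l1, l2, ← h.nat p, ← h.nat (a e), hza]
      have := congrArg (fun g => g ≫ pullback.fst _ _ ≫ u₀ (x i)) (pullback.condition (f := k) (g := hh e))
      simpa [k, Category.assoc] using this) v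
  have hcc : StMod.bmap 𝒵 (c' ≫ c₁) = h' ≫ pullback.fst k (hh e) := by
    rw [StMod.bmap_comp, hc', hc₁]; simp
  have hdd : StMod.bmap 𝒵 (d' ≫ c₂) = h' ≫ pullback.snd k (hh e) := by
    rw [StMod.bmap_comp, hd', hc₂]; simp
  refine ⟨e, rfl, rfl, w', c' ≫ c₁, d' ≫ c₂, ?_, ?_, ⟨v', ?_⟩, ?_, ?_⟩
  · rw [hcc]; infer_instance
  · rw [hcc]; infer_instance
  · rw [hcc, Scheme.Hom.comp_apply, hv', hv₁]
  · rw [eqToHom_refl, Category.comp_id, StMod.bmap_comp, StMod.bmap_comp (d' ≫ c₂), hcc, hdd, hza]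
    have := congrArg (fun g => h' ≫ g ≫ pullback.fst _ _) (pullback.condition (f := k) (g := hh e))
    simpa [k, Category.assoc] using this
  · rw [eqToHom_refl, Category.comp_id, StMod.bmap_comp, StMod.bmap_comp (d' ≫ c₂), hcc, hdd, hzb]
    have := congrArg (fun g => h' ≫ g ≫ pullback.snd _ _) (pullback.condition (f := k) (g := hh e))
    simpa [k, Category.assoc] using this

namespace Atlas

variable {h : IsSys u₀ F} (𝒜 : Atlas h)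

/-- The comparison map read as a map between pushforwards to the base. -/
def arrow {x' x : 𝒵.obj} (φ : x' ⟶ x) :
    (Scheme.Modules.pushforward (u₀ x)).obj (F.obj.obj x) ⟶ (Scheme.Modules.pushforward (u₀ x')).obj (F.obj.obj x') :=
  (Scheme.Modules.pushforward (u₀ x)).map (F.obj.map φ rfl) ≫
    (Scheme.Modules.pushforwardComp (StMod.bmap 𝒵 φ) (u₀ x)).hom.app (F.obj.obj x') ≫
    (Scheme.Modules.pushforwardCongr (h.nat φ)).hom.app (F.obj.obj x')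

theorem arrow_app {x' x : 𝒵.obj} (φ : x' ⟶ x) (V : T.Opens) (s : Γ(F.obj.obj x, u₀ x ⁻¹ᵁ V)) :
    (arrow (h := h) φ).app V s = tr F.obj φ _ _ (h.le_preimage φ V) s := by
  simp only [arrow, Scheme.Modules.Hom.comp_app, Scheme.Modules.pushforward_map_app,
    Scheme.Modules.pushforwardComp_hom_app_app, Scheme.Modules.pushforwardCongr_hom_app_app]
  rfl

/-- The pushforwards of the modules on the members of the atlas. -/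
abbrev obj₀ (i : 𝒜.I) : T.Modules := (Scheme.Modules.pushforward (u₀ (𝒜.x i))).obj (F.obj.obj (𝒜.x i))

/-- The pushforwards of the modules on the chosen overlaps. -/
abbrev obj₁ (e : 𝒜.E) : T.Modules := (Scheme.Modules.pushforward (u₀ (𝒜.z e))).obj (F.obj.obj (𝒜.z e))

def left : (∏ᶜ 𝒜.obj₀) ⟶
    ∏ᶜ 𝒜.obj₁ :=
  Pi.lift fun e => Pi.π _ (𝒜.l e) ≫ arrow (h := h) (𝒜.a e)

def right : (∏ᶜ 𝒜.obj₀) ⟶
    ∏ᶜ 𝒜.obj₁ :=
  Pi.lift fun e => Pi.π _ (𝒜.r e) ≫ arrow (h := h) (𝒜.b e)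

/-- The descended module. -/
def G : T.Modules := kernel (𝒜.left - 𝒜.right)

/-- The projection of the descended module to a member of the atlas. -/
def proj (i : 𝒜.I) : 𝒜.G ⟶ (Scheme.Modules.pushforward (u₀ (𝒜.x i))).obj (F.obj.obj (𝒜.x i)) :=
  kernel.ι _ ≫ Pi.π _ i

theorem proj_ext (V : T.Opens) {s s' : Γ(𝒜.G, V)} (hs : ∀ i, (𝒜.proj i).app V s = (𝒜.proj i).app V s') : s = s' :=
  app_injective_of_mono (kernel.ι (𝒜.left - 𝒜.right)) V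
    ((pi_sections_bijective _ V).1 (funext hs))

theorem proj_rel (V : T.Opens) (s : Γ(𝒜.G, V)) (e : 𝒜.E) :
    tr F.obj (𝒜.a e) _ _ (h.le_preimage _ V) ((𝒜.proj (𝒜.l e)).app V s) =
      tr F.obj (𝒜.b e) _ _ (h.le_preimage _ V) ((𝒜.proj (𝒜.r e)).app V s) := by
  rw [← arrow_app (h := h), ← arrow_app (h := h)]
  have key : 𝒜.proj (𝒜.l e) ≫ arrow (h := h) (𝒜.a e) = 𝒜.proj (𝒜.r e) ≫ arrow (h := h) (𝒜.b e) := by
    have h0 := congrArg (fun f => f ≫ Pi.π _ e) (kernel.condition (𝒜.left - 𝒜.right))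
    simpa [left, right, proj, Preadditive.sub_comp, Preadditive.comp_sub, sub_eq_zero] using h0
  exact congr($(key).app V s)

theorem exists_section (V : T.Opens) (t : ∀ i, Γ(F.obj.obj (𝒜.x i), u₀ (𝒜.x i) ⁻¹ᵁ V))
    (ht : ∀ e, tr F.obj (𝒜.a e) _ _ (h.le_preimage _ V) (t (𝒜.l e)) =
      tr F.obj (𝒜.b e) _ _ (h.le_preimage _ V) (t (𝒜.r e))) :
    ∃ s : Γ(𝒜.G, V), ∀ i, (𝒜.proj i).app V s = t i := by
  obtain ⟨p, hp⟩ := (pi_sections_bijective 𝒜.obj₀ V).2 t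
  have h0 : (𝒜.left - 𝒜.right).app V p = 0 := by
    refine (pi_sections_bijective _ V).1 (funext fun e => ?_)
    show Scheme.Modules.Hom.app ((𝒜.left - 𝒜.right) ≫ Pi.π 𝒜.obj₁ e) V p = Scheme.Modules.Hom.app (Pi.π 𝒜.obj₁ e) V 0
    rw [map_zero, Preadditive.sub_comp, left, right, Pi.lift_π, Pi.lift_π]
    show Scheme.Modules.Hom.app (Pi.π 𝒜.obj₀ (𝒜.l e) ≫ arrow (h := h) (𝒜.a e)) V p - Scheme.Modules.Hom.app (Pi.π 𝒜.obj₀ (𝒜.r e) ≫ arrow (h := h) (𝒜.b e)) V p = 0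
    rw [sub_eq_zero]
    show (arrow (h := h) (𝒜.a e)).app V _ = (arrow (h := h) (𝒜.b e)).app V _
    rw [arrow_app, arrow_app]
    exact (congrArg _ (congrFun hp (𝒜.l e))).trans ((ht e).trans (congrArg _ (congrFun hp (𝒜.r e))).symm)
  obtain ⟨s, hs⟩ := (mem_range_kernel_app _ V p).2 h0
  refine ⟨s, fun i => ?_⟩
  show Scheme.Modules.Hom.app (Pi.π 𝒜.obj₀ i) V ((kernel.ι (𝒜.left - 𝒜.right)).app V s) = t i
  rw [hs]
  exact congrFun hp i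

/-- A family on the atlas agreeing on the chosen overlaps agrees on all overlaps. -/
theorem agree (V : T.Opens) (t : ∀ i, Γ(F.obj.obj (𝒜.x i), u₀ (𝒜.x i) ⁻¹ᵁ V))
    (ht : ∀ e, tr F.obj (𝒜.a e) _ _ (h.le_preimage _ V) (t (𝒜.l e)) =
      tr F.obj (𝒜.b e) _ _ (h.le_preimage _ V) (t (𝒜.r e)))
    (i j : 𝒜.I) (w : 𝒵.obj) (p : w ⟶ 𝒜.x i) (q : w ⟶ 𝒜.x j) (W : (StMod.sch 𝒵 w).Opens)
    (e₁ : W ≤ StMod.bmap 𝒵 p ⁻¹ᵁ (u₀ (𝒜.x i) ⁻¹ᵁ V)) (e₂ : W ≤ StMod.bmap 𝒵 q ⁻¹ᵁ (u₀ (𝒜.x j) ⁻¹ᵁ V)) :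
    tr F.obj p _ W e₁ (t i) = tr F.obj q _ W e₂ (t j) := by
  choose e hl hr w' c d hc₁ hc₂ hc₃ hp hq using fun y : StMod.sch 𝒵 w => 𝒜.refine_pair i j w p q y
  refine sect_ext F (φ := c) ⟨fun y => ⟨hc₁ y, hc₂ y⟩, fun y _ => ⟨y, hc₃ y⟩⟩ fun y => ?_
  obtain rfl := hl y
  obtain rfl := hr y
  have hp' := hp y
  have hq' := hq y
  simp only [eqToHom_refl, Category.comp_id] at hp' hq'
  rw [tr_tr, tr_tr]
  have eW : StMod.bmap 𝒵 (c y) ⁻¹ᵁ W ≤ u₀ (w' y) ⁻¹ᵁ V := by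
    rw [← h.nat (c y), Scheme.Hom.comp_preimage]
    exact (StMod.bmap 𝒵 (c y)).preimage_mono (e₁.trans (h.preimage_eq p V).le)
  have e₀ : u₀ (w' y) ⁻¹ᵁ V ≤ StMod.bmap 𝒵 (d y) ⁻¹ᵁ (u₀ (𝒜.z (e y)) ⁻¹ᵁ V) := h.le_preimage _ V
  refine (h.thin _ (d y ≫ 𝒜.a (e y)) hp' _ _ _ (eW.trans (le_preimage_comp _ _ (h.le_preimage _ V) e₀)) _).trans ?_
  refine Eq.trans ?_ (h.thin _ (d y ≫ 𝒜.b (e y)) hq' _ _ _
    (eW.trans (le_preimage_comp _ _ (h.le_preimage _ V) e₀)) _).symm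
  rw [← tr_tr F.obj (d y) (𝒜.a (e y)) _ _ _ (h.le_preimage _ V) (eW.trans e₀),
    ← tr_tr F.obj (d y) (𝒜.b (e y)) _ _ _ (h.le_preimage _ V) (eW.trans e₀), ht]

end Atlas

end Groth.Agent.QDescent
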