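import Mathlib
import Groth.Agent.QDescent.System

/-!
# Restriction of sections along morphisms of schemes over the base of a descent system
-/

universe w v u

open CategoryTheory CategoryTheory.Limits AlgebraicGeometry TopologicalSpace Opposite TensorProduct

set_option autoImplicit false
set_option backward.isDefEq.respectTransparency false
set_option backward.isDefEq.respectTransparency.types false
set_option linter.style.haveILetI false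

noncomputable section

namespace Groth.Agent.QDescent

open Groth.Agent.QC

variable {S : Scheme.{u}} {𝒵 : BasedCategory.{v, w} (Over S)} {T : Scheme.{u}}
  {u₀ : ∀ x : 𝒵.obj, StMod.sch 𝒵 x ⟶ T} {F : StMod.QCoh 𝒵}

theorem appLE_of_eq_id {X : Scheme.{u}} {g : X ⟶ X} (h : g = 𝟙 X) (V : X.Opens) (e : V ≤ g ⁻¹ᵁ V) :
    g.appLE V V e = 𝟙 _ := by
  subst h; simp only [Scheme.Hom.appLE, Scheme.Hom.id_app, Category.id_comp]; exact X.presheaf.map_id _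

namespace IsSys

variable (h : IsSys u₀ F)

include h

/-- Common refinement of a morphism with an fppf morphism of the same target. -/
theorem exists_refine {w z x : 𝒵.obj} (p : w ⟶ x) (φ : z ⟶ x) [Flat (StMod.bmap 𝒵 φ)]
    [LocallyOfFinitePresentation (StMod.bmap 𝒵 φ)] (y : StMod.sch 𝒵 w) (y' : StMod.sch 𝒵 z)
    (hy : (StMod.bmap 𝒵 φ).base y' = (StMod.bmap 𝒵 p).base y) :
    ∃ (w' : 𝒵.obj) (c : w' ⟶ w) (d : w' ⟶ z), Flat (StMod.bmap 𝒵 c) ∧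
      LocallyOfFinitePresentation (StMod.bmap 𝒵 c) ∧ y ∈ Set.range (StMod.bmap 𝒵 c).base ∧
        StMod.bmap 𝒵 (c ≫ p) = StMod.bmap 𝒵 (d ≫ φ) := by
  obtain ⟨v, hv₁, -⟩ := Scheme.Pullback.exists_preimage_pullback (f := StMod.bmap 𝒵 p) (g := StMod.bmap 𝒵 φ)
    y y' hy.symm
  obtain ⟨w', h', c, d, h₁, h₂, ⟨v', hv'⟩, hc, hd⟩ := h.conn w z (pullback (StMod.bmap 𝒵 p) (StMod.bmap 𝒵 φ))
    (pullback.fst _ _) (pullback.snd _ _) (by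
      rw [← h.nat p, ← h.nat φ, ← Category.assoc, pullback.condition, Category.assoc]) v
  refine ⟨w', c, d, ?_, ?_, ⟨v', ?_⟩, ?_⟩
  · rw [hc]; infer_instance
  · rw [hc]; infer_instance
  · rw [hc, Scheme.Hom.comp_apply, hv', hv₁]
  · rw [StMod.bmap_comp, StMod.bmap_comp, hc, hd, Category.assoc, Category.assoc, pullback.condition]

end IsSys

/-- The defining property of the restriction of `s` along a morphism of schemes `g`. -/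
def IsStr (F : StMod.QCoh 𝒵) {x' x : 𝒵.obj} (g : StMod.sch 𝒵 x' ⟶ StMod.sch 𝒵 x) (U : (StMod.sch 𝒵 x).Opens)
    (V : (StMod.sch 𝒵 x').Opens) (s : Γ(F.obj.obj x, U)) (t : Γ(F.obj.obj x', V)) : Prop :=
  ∀ (w : 𝒵.obj) (c : w ⟶ x') (d : w ⟶ x), StMod.bmap 𝒵 d = StMod.bmap 𝒵 c ≫ g →
    ∀ (W : (StMod.sch 𝒵 w).Opens) (ec : W ≤ StMod.bmap 𝒵 c ⁻¹ᵁ V) (ed : W ≤ StMod.bmap 𝒵 d ⁻¹ᵁ U),
      tr F.obj c V W ec t = tr F.obj d U W ed s

namespace IsSys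

variable (h : IsSys u₀ F)

include h

theorem existsUnique_str {x' x : 𝒵.obj} (g : StMod.sch 𝒵 x' ⟶ StMod.sch 𝒵 x) (hg : g ≫ u₀ x = u₀ x')
    (U : (StMod.sch 𝒵 x).Opens) (V : (StMod.sch 𝒵 x').Opens) (e : V ≤ g ⁻¹ᵁ U) (s : Γ(F.obj.obj x, U)) :
    ∃! t, IsStr F g U V s t := by
  choose z hh a b hz₁ hz₂ hz₃ ha hb using fun y : StMod.sch 𝒵 x' =>
    h.conn x x' (StMod.sch 𝒵 x') g (𝟙 _) (by rw [Category.id_comp, hg]) y
  have hb' : ∀ y, StMod.bmap 𝒵 (b y) = hh y := fun y => by rw [hb, Category.comp_id]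
  have ha' : ∀ y, StMod.bmap 𝒵 (a y) = StMod.bmap 𝒵 (b y) ≫ g := fun y => by rw [ha, hb']
  have hcov : CoversOn b V := ⟨fun y => by rw [hb']; exact ⟨hz₁ y, hz₂ y⟩, fun y _ => ⟨y, by rw [hb']; exact hz₃ y⟩⟩
  have eU : ∀ y, StMod.bmap 𝒵 (b y) ⁻¹ᵁ V ≤ StMod.bmap 𝒵 (a y) ⁻¹ᵁ U := fun y => by
    rw [ha', Scheme.Hom.comp_preimage]
    exact (StMod.bmap 𝒵 (b y)).preimage_mono e
  obtain ⟨t, ht⟩ := glue F h.grpd hcov (fun y => tr F.obj (a y) U _ (eU y) s)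
    fun y y' w p q hpq W e₁ e₂ => by
      rw [tr_tr, tr_tr]
      refine h.thin _ _ ?_ _ _ _ _ _
      rw [StMod.bmap_comp, StMod.bmap_comp, ha', ha', ← Category.assoc, ← Category.assoc, ← StMod.bmap_comp,
        ← StMod.bmap_comp, hpq]
  refine ⟨t, fun w c d hcd W ec ed => ?_, fun t' ht' => sect_ext F hcov fun y => ?_⟩
  · choose w' c' d' h₁ h₂ h₃ h₄ using fun y : StMod.sch 𝒵 w =>
      haveI : Flat (StMod.bmap 𝒵 (b ((StMod.bmap 𝒵 c).base y))) := by rw [hb']; exact hz₁ _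
      haveI : LocallyOfFinitePresentation (StMod.bmap 𝒵 (b ((StMod.bmap 𝒵 c).base y))) := by rw [hb']; exact hz₂ _
      h.exists_refine c (b ((StMod.bmap 𝒵 c).base y)) y (hz₃ _).choose (by rw [hb']; exact (hz₃ _).choose_spec)
    refine sect_ext F (φ := c') ⟨fun y => ⟨h₁ y, h₂ y⟩, fun y _ => ⟨y, h₃ y⟩⟩ fun y => ?_
    have e₁ : StMod.bmap 𝒵 (c' y) ⁻¹ᵁ W ≤
        StMod.bmap 𝒵 (d' y) ⁻¹ᵁ (StMod.bmap 𝒵 (b ((StMod.bmap 𝒵 c).base y)) ⁻¹ᵁ V) := by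
      rw [← Scheme.Hom.comp_preimage, ← StMod.bmap_comp, ← h₄ y]
      exact le_preimage_comp _ _ ec le_rfl
    rw [tr_tr, tr_tr]
    refine (h.thin _ (d' y ≫ b _) (h₄ y) _ _ _ (le_preimage_comp _ _ le_rfl e₁) _).trans ?_
    rw [← tr_tr F.obj (d' y) (b _) _ _ _ le_rfl e₁, ht, tr_tr]
    refine h.thin _ _ ?_ _ _ _ _ _
    rw [StMod.bmap_comp, StMod.bmap_comp, ha', hcd, ← Category.assoc, ← Category.assoc, ← StMod.bmap_comp,
      ← StMod.bmap_comp, h₄ y]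
  · rw [ht]
    exact ht' (z y) (b y) (a y) (ha' y) _ le_rfl (eU y)

/-- Restriction of sections along a morphism of schemes over the base. -/
def str (h : IsSys u₀ F) {x' x : 𝒵.obj} (g : StMod.sch 𝒵 x' ⟶ StMod.sch 𝒵 x) (hg : g ≫ u₀ x = u₀ x')
    (U : (StMod.sch 𝒵 x).Opens) (V : (StMod.sch 𝒵 x').Opens) (e : V ≤ g ⁻¹ᵁ U) :
    Γ(F.obj.obj x, U) →+ Γ(F.obj.obj x', V) :=
  AddMonoidHom.mk' (fun s => (h.existsUnique_str g hg U V e s).choose) fun s s' =>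
    (((h.existsUnique_str g hg U V e (s + s')).choose_spec.2 _ (fun w c d hcd W ec ed => by
      rw [map_add, map_add, (h.existsUnique_str g hg U V e s).choose_spec.1 w c d hcd W ec ed,
        (h.existsUnique_str g hg U V e s').choose_spec.1 w c d hcd W ec ed]))).symm

theorem tr_str {x' x : 𝒵.obj} (g : StMod.sch 𝒵 x' ⟶ StMod.sch 𝒵 x) (hg : g ≫ u₀ x = u₀ x')
    (U : (StMod.sch 𝒵 x).Opens) (V : (StMod.sch 𝒵 x').Opens) (e : V ≤ g ⁻¹ᵁ U) (s : Γ(F.obj.obj x, U))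
    {w : 𝒵.obj} (c : w ⟶ x') (d : w ⟶ x) (hcd : StMod.bmap 𝒵 d = StMod.bmap 𝒵 c ≫ g)
    (W : (StMod.sch 𝒵 w).Opens) (ec : W ≤ StMod.bmap 𝒵 c ⁻¹ᵁ V) (ed : W ≤ StMod.bmap 𝒵 d ⁻¹ᵁ U) :
    tr F.obj c V W ec (h.str g hg U V e s) = tr F.obj d U W ed s :=
  (h.existsUnique_str g hg U V e s).choose_spec.1 w c d hcd W ec ed

theorem str_eq {x' x : 𝒵.obj} (g : StMod.sch 𝒵 x' ⟶ StMod.sch 𝒵 x) (hg : g ≫ u₀ x = u₀ x')
    (U : (StMod.sch 𝒵 x).Opens) (V : (StMod.sch 𝒵 x').Opens) (e : V ≤ g ⁻¹ᵁ U) (s : Γ(F.obj.obj x, U))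
    (t : Γ(F.obj.obj x', V)) (ht : IsStr F g U V s t) : h.str g hg U V e s = t :=
  ((h.existsUnique_str g hg U V e s).choose_spec.2 t ht).symm

theorem str_congr {x' x : 𝒵.obj} {g g' : StMod.sch 𝒵 x' ⟶ StMod.sch 𝒵 x} (hgg : g = g') (hg : g ≫ u₀ x = u₀ x')
    (hg' : g' ≫ u₀ x = u₀ x') (U : (StMod.sch 𝒵 x).Opens) (V : (StMod.sch 𝒵 x').Opens) (e : V ≤ g ⁻¹ᵁ U)
    (e' : V ≤ g' ⁻¹ᵁ U) (s : Γ(F.obj.obj x, U)) : h.str g hg U V e s = h.str g' hg' U V e' s := by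
  subst hgg; rfl

theorem str_of_hom {x' x : 𝒵.obj} (φ : x' ⟶ x) (U : (StMod.sch 𝒵 x).Opens) (V : (StMod.sch 𝒵 x').Opens)
    (e : V ≤ StMod.bmap 𝒵 φ ⁻¹ᵁ U) (s : Γ(F.obj.obj x, U)) :
    h.str (StMod.bmap 𝒵 φ) (h.nat φ) U V e s = tr F.obj φ U V e s :=
  h.str_eq _ _ _ _ _ _ _ fun w c d hcd W ec ed => by
    rw [tr_tr]
    exact h.thin _ _ (by rw [StMod.bmap_comp, hcd]) _ _ _ _ _

theorem comp_nat {x'' x' x : 𝒵.obj} (g' : StMod.sch 𝒵 x'' ⟶ StMod.sch 𝒵 x') (g : StMod.sch 𝒵 x' ⟶ StMod.sch 𝒵 x)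
    (hg' : g' ≫ u₀ x' = u₀ x'') (hg : g ≫ u₀ x = u₀ x') : (g' ≫ g) ≫ u₀ x = u₀ x'' := by
  rw [Category.assoc, hg, hg']

theorem str_str {x'' x' x : 𝒵.obj} (g' : StMod.sch 𝒵 x'' ⟶ StMod.sch 𝒵 x') (g : StMod.sch 𝒵 x' ⟶ StMod.sch 𝒵 x)
    (hg' : g' ≫ u₀ x' = u₀ x'') (hg : g ≫ u₀ x = u₀ x') (U : (StMod.sch 𝒵 x).Opens) (V : (StMod.sch 𝒵 x').Opens)
    (W : (StMod.sch 𝒵 x'').Opens) (e : V ≤ g ⁻¹ᵁ U) (e' : W ≤ g' ⁻¹ᵁ V) (s : Γ(F.obj.obj x, U)) :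
    h.str g' hg' V W e' (h.str g hg U V e s) =
      h.str (g' ≫ g) (h.comp_nat g' g hg' hg) U W (e'.trans (g'.preimage_mono e)) s := by
  refine (h.str_eq _ _ _ _ _ _ _ ?_).symm
  intro w c d hcd Y ec ed
  -- refine `w` so that the composite to `x'` is realised
  choose z hh a b hz₁ hz₂ hz₃ ha hb using fun y : StMod.sch 𝒵 w =>
    h.conn w x' (StMod.sch 𝒵 w) (𝟙 _) (StMod.bmap 𝒵 c ≫ g') (by
      rw [Category.id_comp, Category.assoc, hg', h.nat c]) y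
  have ha' : ∀ y, StMod.bmap 𝒵 (a y) = hh y := fun y => by rw [ha, Category.comp_id]
  refine sect_ext F (φ := a) ⟨fun y => by rw [ha']; exact ⟨hz₁ y, hz₂ y⟩, fun y _ => ⟨y, by rw [ha']; exact hz₃ y⟩⟩
    fun y => ?_
  have e₁ : StMod.bmap 𝒵 (a y) ⁻¹ᵁ Y ≤ StMod.bmap 𝒵 (b y) ⁻¹ᵁ V := by
    rw [hb, ← ha' y, Scheme.Hom.comp_preimage, Scheme.Hom.comp_preimage]
    exact (StMod.bmap 𝒵 (a y)).preimage_mono (ec.trans ((StMod.bmap 𝒵 c).preimage_mono e'))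
  rw [tr_tr, tr_tr, h.tr_str g' hg' V W e' _ (a y ≫ c) (b y)
      (by rw [StMod.bmap_comp, hb, ha', Category.assoc]) _ _ e₁,
    h.tr_str g hg U V e s (b y) (a y ≫ d)
      (by rw [StMod.bmap_comp, hcd, hb, ha']; simp only [Category.assoc]) _ e₁]

theorem str_id {x : 𝒵.obj} (U : (StMod.sch 𝒵 x).Opens) (V : (StMod.sch 𝒵 x).Opens) (hV : V ≤ U)
    (s : Γ(F.obj.obj x, U)) : h.str (𝟙 _) (Category.id_comp _) U V hV s = res (F.obj.obj x) hV s := by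
  have e : V ≤ StMod.bmap 𝒵 (𝟙 x) ⁻¹ᵁ U := by rw [StMod.bmap_id]; exact hV
  rw [h.str_congr (StMod.bmap_id x).symm _ (h.nat _) U V hV e, h.str_of_hom, tr_id F.obj U V hV]

theorem str_smul {x' x : 𝒵.obj} (g : StMod.sch 𝒵 x' ⟶ StMod.sch 𝒵 x) (hg : g ≫ u₀ x = u₀ x')
    (U : (StMod.sch 𝒵 x).Opens) (V : (StMod.sch 𝒵 x').Opens) (e : V ≤ g ⁻¹ᵁ U) (r : Γ(StMod.sch 𝒵 x, U))
    (s : Γ(F.obj.obj x, U)) : h.str g hg U V e (r • s) = (g.appLE U V e).hom r • h.str g hg U V e s := by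
  refine h.str_eq _ _ _ _ _ _ _ fun w c d hcd W ec ed => ?_
  rw [tr_smul, tr_smul, h.tr_str g hg U V e s c d hcd W ec ed]
  congr 1
  have : (StMod.bmap 𝒵 d).appLE U W ed =
      (StMod.bmap 𝒵 c ≫ g).appLE U W (by rw [Scheme.Hom.comp_preimage]; exact ec.trans ((StMod.bmap 𝒵 c).preimage_mono e)) := by
    simp only [hcd]
  rw [this, ← Scheme.Hom.appLE_comp_appLE (StMod.bmap 𝒵 c) g U V W e ec]
  rfl

theorem tr_eq_str_res {x' x : 𝒵.obj} (φ : x' ⟶ x) (U : (StMod.sch 𝒵 x).Opens) (V : (StMod.sch 𝒵 x').Opens)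
    (e : V ≤ StMod.bmap 𝒵 φ ⁻¹ᵁ U) (s : Γ(F.obj.obj x, U)) :
    tr F.obj φ U V e s = h.str (StMod.bmap 𝒵 φ) (h.nat φ) U V e s := (h.str_of_hom φ U V e s).symm

/-- Sections over affine opens change base along morphisms of schemes over the base. -/
theorem exists_bijective_str {x' x : 𝒵.obj} (g : StMod.sch 𝒵 x' ⟶ StMod.sch 𝒵 x) (hg : g ≫ u₀ x = u₀ x')
    {U : (StMod.sch 𝒵 x).Opens} (hU : IsAffineOpen U) {V : (StMod.sch 𝒵 x').Opens} (hV : IsAffineOpen V)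
    (e : V ≤ g ⁻¹ᵁ U) :
    letI : Algebra Γ(StMod.sch 𝒵 x, U) Γ(StMod.sch 𝒵 x', V) := (g.appLE U V e).hom.toAlgebra
    ∃ Φ : Γ(StMod.sch 𝒵 x', V) ⊗[Γ(StMod.sch 𝒵 x, U)] Γ(F.obj.obj x, U) ≃ₗ[Γ(StMod.sch 𝒵 x', V)]
        Γ(F.obj.obj x', V),
      ∀ s, Φ (1 ⊗ₜ s) = h.str g hg U V e s := by
  letI : Algebra Γ(StMod.sch 𝒵 x, U) Γ(StMod.sch 𝒵 x', V) := (g.appLE U V e).hom.toAlgebra
  obtain ⟨z, ez, φ, hφ⟩ := h.exists_lift (x := x) g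
  let i : StMod.sch 𝒵 z ⟶ StMod.sch 𝒵 x' := eqToHom ez
  let j : StMod.sch 𝒵 x' ⟶ StMod.sch 𝒵 z := eqToHom ez.symm
  have hi : i ≫ u₀ x' = u₀ z := by rw [← h.nat φ, hφ, Category.assoc, hg]
  have hj : j ≫ u₀ z = u₀ x' := by rw [← hi, ← Category.assoc]; simp [i, j]
  let V' := i ⁻¹ᵁ V
  have hV' : IsAffineOpen V' := hV.preimage i
  have eV' : V' ≤ StMod.bmap 𝒵 φ ⁻¹ᵁ U := by
    rw [hφ, Scheme.Hom.comp_preimage]
    exact i.preimage_mono e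
  have ej : V ≤ j ⁻¹ᵁ V' := by rw [← Scheme.Hom.comp_preimage]; simp [i, j]
  have ei : V' ≤ i ⁻¹ᵁ V := le_rfl
  letI : Algebra Γ(StMod.sch 𝒵 x, U) Γ(StMod.sch 𝒵 z, V') := ((StMod.bmap 𝒵 φ).appLE U V' eV').hom.toAlgebra
  obtain ⟨Φ₀, hΦ₀⟩ := exists_bijective_tr F φ hU hV' eV'
  have hjφ : j ≫ StMod.bmap 𝒵 φ = g := by rw [hφ]; simp [j]
  have hr : ∀ r : Γ(StMod.sch 𝒵 x, U), (j.appLE V' V ej).hom (((StMod.bmap 𝒵 φ).appLE U V' eV').hom r) =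
      (g.appLE U V e).hom r := by
    intro r
    show (((StMod.bmap 𝒵 φ).appLE U V' eV') ≫ j.appLE V' V ej).hom r = _
    rw [Scheme.Hom.appLE_comp_appLE]
    simp only [hjφ]
  have hij : i.appLE V V' ei ≫ j.appLE V' V ej = 𝟙 _ := by
    rw [Scheme.Hom.appLE_comp_appLE]
    exact appLE_of_eq_id (by simp [i, j]) _ _
  have hji : j.appLE V' V ej ≫ i.appLE V V' ei = 𝟙 _ := by
    rw [Scheme.Hom.appLE_comp_appLE]
    exact appLE_of_eq_id (by simp [i, j]) _ _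
  let σ : Γ(StMod.sch 𝒵 z, V') ≃ₐ[Γ(StMod.sch 𝒵 x, U)] Γ(StMod.sch 𝒵 x', V) :=
    AlgEquiv.ofRingEquiv (f := RingEquiv.ofRingHom (j.appLE V' V ej).hom (i.appLE V V' ei).hom
      (by ext r; exact congr($hij r)) (by ext r; exact congr($hji r))) hr
  let e₁ := (LinearEquiv.rTensor Γ(F.obj.obj x, U) σ.toLinearEquiv).symm
  let K : Γ(StMod.sch 𝒵 x', V) ⊗[Γ(StMod.sch 𝒵 x, U)] Γ(F.obj.obj x, U) → Γ(F.obj.obj x', V) :=
    fun w => h.str j hj V' V ej (Φ₀ (e₁ w))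
  have hstr : Function.Bijective (h.str j hj V' V ej) := by
    refine Function.bijective_iff_has_inverse.mpr ⟨h.str i hi V V' ei, fun s => ?_, fun s => ?_⟩
    · rw [h.str_str, h.str_congr (show i ≫ j = 𝟙 _ by simp [i, j]) _ (Category.id_comp _) V' V' _ le_rfl,
        h.str_id _ _ le_rfl, res_self]
    · rw [h.str_str, h.str_congr (show j ≫ i = 𝟙 _ by simp [i, j]) _ (Category.id_comp _) V V _ le_rfl,
        h.str_id _ _ le_rfl, res_self]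
  have hK : Function.Bijective K := hstr.comp (Φ₀.bijective.comp e₁.bijective)
  have hKadd : ∀ w w', K (w + w') = K w + K w' := fun w w' => by simp only [K, map_add]
  have hKtmul : ∀ (c : Γ(StMod.sch 𝒵 x', V)) s, K (c ⊗ₜ s) = c • h.str g hg U V e s := fun c s => by
    have h1 : e₁ (c ⊗ₜ s) = σ.symm c ⊗ₜ s := by simp [e₁]
    show h.str j hj V' V ej (Φ₀ (e₁ (c ⊗ₜ s))) = _
    rw [h1, show σ.symm c ⊗ₜ[Γ(StMod.sch 𝒵 x, U)] s = σ.symm c • ((1 : Γ(StMod.sch 𝒵 z, V')) ⊗ₜ s) by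
      rw [TensorProduct.smul_tmul', smul_eq_mul, mul_one], map_smul, hΦ₀, h.str_smul, ← h.str_of_hom φ,
      h.str_str, h.str_congr hjφ _ hg]
    exact congrArg (fun r => r • _) (σ.apply_symm_apply c)
  have hKsmul : ∀ (c : Γ(StMod.sch 𝒵 x', V)) w, K (c • w) = c • K w := fun c w => by
    induction w using TensorProduct.induction_on with
    | zero => rw [smul_zero, show K 0 = 0 by simp [K], smul_zero]
    | tmul d s => rw [TensorProduct.smul_tmul', smul_eq_mul, hKtmul, hKtmul, mul_smul]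
    | add u₁ u₂ h₁ h₂ => rw [smul_add, hKadd, hKadd, h₁, h₂, smul_add]
  refine ⟨LinearEquiv.ofBijective { toFun := K, map_add' := hKadd, map_smul' := hKsmul } hK, fun s => ?_⟩
  exact (hKtmul 1 s).trans (one_smul _ _)

end IsSys

end Groth.Agent.QDescent
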