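import Mathlib
import Groth.Agent.QDescent.Str

/-!
# Compatible families from an fppf covering of an open of the base; the projections of the descended module
-/

universe w' w v u

open CategoryTheory CategoryTheory.Limits AlgebraicGeometry TopologicalSpace Opposite

set_option autoImplicit false
set_option backward.isDefEq.respectTransparency false
set_option backward.isDefEq.respectTransparency.types false
set_option linter.style.haveILetI false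

noncomputable section

namespace Groth.Agent.QDescent

open Groth.Agent.QC

/-- A morphism of modules from additive maps of sections commuting with restrictions and functions. -/
def mkHom {X : Scheme.{u}} {M N : X.Modules} (f : ∀ U : X.Opens, Γ(M, U) →+ Γ(N, U))
    (hnat : ∀ {V U : X.Opens} (hVU : V ≤ U) (s : Γ(M, U)), f V (res M hVU s) = res N hVU (f U s))
    (hsmul : ∀ (U : X.Opens) (r : Γ(X, U)) (s : Γ(M, U)), f U (r • s) = r • f U s) : M ⟶ N :=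
  SheafOfModules.Hom.mk
    (PresheafOfModules.homMk
      { app := fun U => AddCommGrpCat.ofHom (f U.unop)
        naturality := fun U V i => by ext s; exact hnat (leOfHom i.unop) s }
      fun U r s => hsmul U.unop r s)

@[simp]
theorem mkHom_app {X : Scheme.{u}} {M N : X.Modules} (f : ∀ U : X.Opens, Γ(M, U) →+ Γ(N, U))
    (hnat : ∀ {V U : X.Opens} (hVU : V ≤ U) (s : Γ(M, U)), f V (res M hVU s) = res N hVU (f U s))
    (hsmul : ∀ (U : X.Opens) (r : Γ(X, U)) (s : Γ(M, U)), f U (r • s) = r • f U s) (U : X.Opens) (s : Γ(M, U)) :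
    (mkHom f hnat hsmul).app U s = f U s := rfl

variable {S : Scheme.{u}} {𝒵 : BasedCategory.{v, w} (Over S)} {T : Scheme.{u}}
  {u₀ : ∀ x : 𝒵.obj, StMod.sch 𝒵 x ⟶ T} {F : StMod.QCoh 𝒵}

/-- The objects `y m` form an fppf covering of the open `V` of the base. -/
structure Covers (u₀ : ∀ x : 𝒵.obj, StMod.sch 𝒵 x ⟶ T) {ι : Type w'} (y : ι → 𝒵.obj) (V : T.Opens) : Prop where
  fppf : ∀ m, Flat (u₀ (y m)) ∧ LocallyOfFinitePresentation (u₀ (y m))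
  surj : ∀ t ∈ V, ∃ m, t ∈ Set.range (u₀ (y m)).base

theorem Covers.mono {ι : Type w'} {y : ι → 𝒵.obj} {V V' : T.Opens} (hy : Covers u₀ y V) (hV : V' ≤ V) :
    Covers u₀ y V' :=
  ⟨hy.fppf, fun t ht => hy.surj t (hV ht)⟩

/-- A family of sections on the objects `y m` agreeing on every common refinement. -/
def Agrees (u₀ : ∀ x : 𝒵.obj, StMod.sch 𝒵 x ⟶ T) (F : StMod.QCoh 𝒵) {ι : Type w'} (y : ι → 𝒵.obj) (V : T.Opens)
    (t : ∀ m, Γ(F.obj.obj (y m), u₀ (y m) ⁻¹ᵁ V)) : Prop :=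
  ∀ (m n : ι) (z : 𝒵.obj) (p : z ⟶ y m) (q : z ⟶ y n) (W : (StMod.sch 𝒵 z).Opens)
    (e₁ : W ≤ StMod.bmap 𝒵 p ⁻¹ᵁ (u₀ (y m) ⁻¹ᵁ V)) (e₂ : W ≤ StMod.bmap 𝒵 q ⁻¹ᵁ (u₀ (y n) ⁻¹ᵁ V)),
    tr F.obj p _ W e₁ (t m) = tr F.obj q _ W e₂ (t n)

theorem Fam.agrees {ι : Type w'} (y : ι → 𝒵.obj) {V : T.Opens} (h : IsSys u₀ F) (s : Fam u₀ F V) :
    Agrees u₀ F y V fun m => s.1 (y m) := by
  intro m n z p q W e₁ e₂
  rw [← res_tr F.obj p _ (e₁.trans (h.preimage_eq p V).le) (h.le_preimage p V), s.2,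
    ← res_tr F.obj q _ (e₂.trans (h.preimage_eq q V).le) (h.le_preimage q V), s.2]

namespace IsSys

variable (h : IsSys u₀ F) {ι : Type w'} {y : ι → 𝒵.obj} {V : T.Opens}

include h

/-- The pieces of an object over the members of a covering. -/
theorem exists_pieces_over (hy : Covers u₀ y V) (x : 𝒵.obj) :
    ∃ (κ : Type (max u w')) (m : κ → ι) (z : κ → 𝒵.obj) (a : ∀ k, z k ⟶ x) (_ : ∀ k, z k ⟶ y (m k)),
      CoversOn a (u₀ x ⁻¹ᵁ V) := by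
  haveI := fun m => (hy.fppf m).1
  haveI := fun m => (hy.fppf m).2
  choose z hh a b hz₁ hz₂ hz₃ ha hb using fun (k : Σ m : ι, ↥(pullback (u₀ x) (u₀ (y m)))) =>
    h.conn x (y k.1) (pullback (u₀ x) (u₀ (y k.1))) (pullback.fst _ _) (pullback.snd _ _) pullback.condition k.2
  refine ⟨_, fun k => k.1, z, a, b, ⟨fun k => ?_, fun ξ hξ => ?_⟩⟩
  · haveI := hz₁ k
    haveI := hz₂ k
    rw [ha]
    exact ⟨inferInstance, inferInstance⟩
  · obtain ⟨m, η, hη⟩ := hy.surj _ hξ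
    obtain ⟨p, hp, -⟩ := Scheme.Pullback.exists_preimage_pullback (f := u₀ x) (g := u₀ (y m)) ξ η hη.symm
    obtain ⟨v, hv⟩ := hz₃ ⟨m, p⟩
    exact ⟨⟨m, p⟩, v, by rw [ha, Scheme.Hom.comp_apply, hv, hp]⟩

theorem fam_ext (hy : Covers u₀ y V) {s s' : Fam u₀ F V} (hs : ∀ m, s.1 (y m) = s'.1 (y m)) : s = s' := by
  refine Subtype.ext (funext fun x => ?_)
  obtain ⟨κ, m, z, a, b, hab⟩ := h.exists_pieces_over hy x
  refine sect_ext F hab fun k => ?_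
  have e : StMod.bmap 𝒵 (a k) ⁻¹ᵁ (u₀ x ⁻¹ᵁ V) ≤ u₀ (z k) ⁻¹ᵁ V := (h.preimage_eq (a k) V).le
  rw [← res_tr F.obj (a k) _ e (h.le_preimage (a k) V), ← res_tr F.obj (a k) _ e (h.le_preimage (a k) V), s.2, s'.2,
    ← s.2 (b k) (h.le_preimage _ _), ← s'.2 (b k) (h.le_preimage _ _), hs]

/-- An agreeing family on a covering extends to a compatible family. -/
theorem exists_fam (hy : Covers u₀ y V) (t : ∀ m, Γ(F.obj.obj (y m), u₀ (y m) ⁻¹ᵁ V)) (ht : Agrees u₀ F y V t) :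
    ∃ s : Fam u₀ F V, ∀ m, s.1 (y m) = t m := by
  choose κ m z a b hab using fun x => h.exists_pieces_over hy x
  have ea : ∀ x k, StMod.bmap 𝒵 (a x k) ⁻¹ᵁ (u₀ x ⁻¹ᵁ V) ≤ StMod.bmap 𝒵 (b x k) ⁻¹ᵁ (u₀ (y (m x k)) ⁻¹ᵁ V) :=
    fun x k => (h.preimage_eq (a x k) V).le.trans (h.le_preimage _ V)
  choose s hs using fun x => glue F h.grpd (hab x) (fun k => tr F.obj (b x k) _ _ (ea x k) (t (m x k)))
    fun k l z' p q hpq W e₁ e₂ => by
      rw [tr_tr, tr_tr]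
      exact ht _ _ _ _ _ _ _ _
  -- the value at `x` computes the restriction along any common refinement
  have key : ∀ (x : 𝒵.obj) (n : ι) (w : 𝒵.obj) (p : w ⟶ x) (q : w ⟶ y n) (W : (StMod.sch 𝒵 w).Opens)
      (e₁ : W ≤ StMod.bmap 𝒵 p ⁻¹ᵁ (u₀ x ⁻¹ᵁ V)) (e₂ : W ≤ StMod.bmap 𝒵 q ⁻¹ᵁ (u₀ (y n) ⁻¹ᵁ V)),
      tr F.obj p _ W e₁ (s x) = tr F.obj q _ W e₂ (t n) := by
    intro x n w p q W e₁ e₂
    choose k hk₀ using fun ξ : W => (hab x).surj _ (e₁ ξ.2)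
    choose w' c d hc₁ hc₂ hc₃ hcd using fun ξ : W =>
      haveI := ((hab x).fppf (k ξ)).1
      haveI := ((hab x).fppf (k ξ)).2
      h.exists_refine p (a x (k ξ)) ξ.1 (hk₀ ξ).choose (hk₀ ξ).choose_spec
    refine sect_ext F (φ := c) ⟨fun ξ => ⟨hc₁ ξ, hc₂ ξ⟩, fun ξ hξ => ⟨⟨ξ, hξ⟩, hc₃ ⟨ξ, hξ⟩⟩⟩ fun ξ => ?_
    have e₀ : StMod.bmap 𝒵 (c ξ) ⁻¹ᵁ W ≤
        StMod.bmap 𝒵 (d ξ) ⁻¹ᵁ (StMod.bmap 𝒵 (a x (k ξ)) ⁻¹ᵁ (u₀ x ⁻¹ᵁ V)) := by
      rw [← Scheme.Hom.comp_preimage, ← StMod.bmap_comp, ← hcd ξ]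
      exact le_preimage_comp _ _ e₁ le_rfl
    rw [tr_tr, tr_tr]
    refine (h.thin _ (d ξ ≫ a x (k ξ)) (hcd ξ) _ _ _ (le_preimage_comp _ _ le_rfl e₀) _).trans ?_
    rw [← tr_tr F.obj (d ξ) (a x (k ξ)) _ _ _ le_rfl e₀, hs, tr_tr]
    exact ht _ _ _ _ _ _ _ _
  refine ⟨⟨s, fun {x' x} φ e => sect_ext F (hab x') fun k => ?_⟩, fun n => sect_ext F (hab (y n)) fun k => ?_⟩
  · rw [tr_tr, hs]
    exact key _ _ _ _ _ _ _ _
  · rw [hs]
    exact (ht _ _ _ _ _ _ _ _).symm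

theorem smul_tr (r : Γ(T, V)) {x' x : 𝒵.obj} (φ : x' ⟶ x) (e : u₀ x' ⁻¹ᵁ V ≤ StMod.bmap 𝒵 φ ⁻¹ᵁ (u₀ x ⁻¹ᵁ V)) :
    ((StMod.bmap 𝒵 φ).appLE _ _ e).hom ((u₀ x).app V r) = (u₀ x').app V r := by
  show ((u₀ x).app V ≫ (StMod.bmap 𝒵 φ).appLE _ _ e).hom r = _
  rw [← Scheme.Hom.comp_appLE]
  simp only [h.nat φ, Scheme.Hom.app_eq_appLE]

end IsSys

namespace Atlas

variable {h : IsSys u₀ F} (𝒜 : Atlas h)

theorem covers (V : T.Opens) : Covers u₀ 𝒜.x V := ⟨𝒜.fppf, fun t _ => 𝒜.surj t⟩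

/-- The compatible family of a section of the descended module. -/
def fam (V : T.Opens) (s : Γ(𝒜.G, V)) : Fam u₀ F V :=
  (h.exists_fam (𝒜.covers V) (fun i => (𝒜.proj i).app V s) (𝒜.agree V _ (𝒜.proj_rel V s))).choose

theorem fam_x (V : T.Opens) (s : Γ(𝒜.G, V)) (i : 𝒜.I) : (𝒜.fam V s).1 (𝒜.x i) = (𝒜.proj i).app V s :=
  (h.exists_fam (𝒜.covers V) (fun i => (𝒜.proj i).app V s) (𝒜.agree V _ (𝒜.proj_rel V s))).choose_spec i

/-- Sections of the descended module are the compatible families. -/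
theorem fam_bijective (V : T.Opens) : Function.Bijective (𝒜.fam V) := by
  refine ⟨fun s s' hs => 𝒜.proj_ext V fun i => ?_, fun s => ?_⟩
  · rw [← 𝒜.fam_x, ← 𝒜.fam_x, hs]
  · obtain ⟨t, ht⟩ := 𝒜.exists_section V (fun i => s.1 (𝒜.x i)) fun e => by
      rw [s.2, s.2]
    exact ⟨t, h.fam_ext (𝒜.covers V) fun i => by rw [𝒜.fam_x, ht]⟩

theorem fam_add (V : T.Opens) (s s' : Γ(𝒜.G, V)) (x : 𝒵.obj) :
    (𝒜.fam V (s + s')).1 x = (𝒜.fam V s).1 x + (𝒜.fam V s').1 x := by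
  let t : Fam u₀ F V := ⟨fun x => (𝒜.fam V s).1 x + (𝒜.fam V s').1 x,
    fun φ e => by rw [map_add, (𝒜.fam V s).2, (𝒜.fam V s').2]⟩
  exact congrFun (congrArg Subtype.val (h.fam_ext (𝒜.covers V) (s := 𝒜.fam V (s + s')) (s' := t)
    fun i => by simp only [t, 𝒜.fam_x, map_add])) x

theorem fam_smul (V : T.Opens) (r : Γ(T, V)) (s : Γ(𝒜.G, V)) (x : 𝒵.obj) :
    (𝒜.fam V (r • s)).1 x = (u₀ x).app V r • (𝒜.fam V s).1 x := by
  let t : Fam u₀ F V := ⟨fun x => (u₀ x).app V r • (𝒜.fam V s).1 x,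
    fun φ e => by rw [tr_smul, h.smul_tr, (𝒜.fam V s).2]⟩
  exact congrFun (congrArg Subtype.val (h.fam_ext (𝒜.covers V) (s := 𝒜.fam V (r • s)) (s' := t)
    fun i => by
      show (𝒜.fam V (r • s)).1 _ = (u₀ _).app V r • (𝒜.fam V s).1 _
      rw [𝒜.fam_x, 𝒜.fam_x, Scheme.Modules.Hom.app_smul]
      rfl)) x

theorem fam_res {V' V : T.Opens} (hV : V' ≤ V) (s : Γ(𝒜.G, V)) (x : 𝒵.obj) :
    (𝒜.fam V' (res 𝒜.G hV s)).1 x = res (F.obj.obj x) ((u₀ x).preimage_mono hV) ((𝒜.fam V s).1 x) := by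
  let t : Fam u₀ F V' := ⟨fun x => res (F.obj.obj x) ((u₀ x).preimage_mono hV) ((𝒜.fam V s).1 x),
    fun {x' x} φ e => by
      rw [tr_res, ← res_tr F.obj φ _ ((u₀ x').preimage_mono hV) (h.le_preimage φ V), (𝒜.fam V s).2]⟩
  exact congrFun (congrArg Subtype.val (h.fam_ext (𝒜.covers V') (s := 𝒜.fam V' (res 𝒜.G hV s)) (s' := t)
    fun i => by
      show (𝒜.fam V' (res 𝒜.G hV s)).1 _ = res (F.obj.obj _) _ ((𝒜.fam V s).1 _)
      rw [𝒜.fam_x, 𝒜.fam_x, ← app_res]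
      rfl)) x

/-- The projection of the descended module to an object. -/
def c (x : 𝒵.obj) : 𝒜.G ⟶ (Scheme.Modules.pushforward (u₀ x)).obj (F.obj.obj x) :=
  mkHom (fun V => AddMonoidHom.mk' (fun s => (𝒜.fam V s).1 x) fun s s' => 𝒜.fam_add V s s' x)
    (fun hV s => 𝒜.fam_res hV s x) (fun V r s => 𝒜.fam_smul V r s x)

theorem c_app (x : 𝒵.obj) (V : T.Opens) (s : Γ(𝒜.G, V)) : (𝒜.c x).app V s = (𝒜.fam V s).1 x := rfl

end Atlas

end Groth.Agent.QDescent
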