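import Mathlib
import Groth.Agent.QDescent.Glue
import Groth.Agent.QC.Sections

/-!
# Quasi-coherence of the descended module
-/

universe w v u

open CategoryTheory CategoryTheory.Limits AlgebraicGeometry TopologicalSpace Opposite

set_option autoImplicit false
set_option backward.isDefEq.respectTransparency false
set_option backward.isDefEq.respectTransparency.types false
set_option linter.style.haveILetI false

noncomputable section

namespace Groth.Agent.QDescent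

open Groth.Agent.QC

variable {S : Scheme.{u}} {𝒵 : BasedCategory.{v, w} (Over S)} {T : Scheme.{u}}
  {u₀ : ∀ x : 𝒵.obj, StMod.sch 𝒵 x ⟶ T} {F : StMod.QCoh 𝒵}

theorem pow_smul_eq_zero_pull {Y : Scheme.{u}} (g : Y ⟶ T) (M : Y.Modules) (hM : Coh.IsQCoh M) {U : T.Opens}
    (hU : IsAffineOpen (g ⁻¹ᵁ U)) (f : Γ(T, U)) (s : Γ(M, g ⁻¹ᵁ U))
    (hs : res M (g.preimage_mono (T.basicOpen_le f)) s = 0) : ∃ n : ℕ, g.app U f ^ n • s = 0 := by
  haveI : M.IsQuasicoherent := hM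
  refine (isLoc_of_isQCoh hU (M := M)).exists_pow_smul_eq_zero _ _ ?_
  have key : ∀ {D : Y.Opens} (_ : D = Y.basicOpen (g.app U f)) (h₁ : D ≤ g ⁻¹ᵁ U), res M h₁ s = 0 →
      res M (Y.basicOpen_le (g.app U f)) s = 0 := by
    rintro D rfl h₁ h; exact h
  exact key (Scheme.preimage_basicOpen g f) _ hs

theorem exists_extend_pull {Y : Scheme.{u}} (g : Y ⟶ T) (M : Y.Modules) (hM : Coh.IsQCoh M) {U : T.Opens}
    (hU : IsAffineOpen (g ⁻¹ᵁ U)) (f : Γ(T, U)) (t : Γ(M, g ⁻¹ᵁ T.basicOpen f)) :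
    ∃ (n : ℕ) (s : Γ(M, g ⁻¹ᵁ U)), res M (g.preimage_mono (T.basicOpen_le f)) s =
      resO Y (g.preimage_mono (T.basicOpen_le f)) (g.app U f) ^ n • t := by
  haveI : M.IsQuasicoherent := hM
  have key : ∀ {D : Y.Opens} (_ : D = Y.basicOpen (g.app U f)) (h₁ : D ≤ g ⁻¹ᵁ U) (t : Γ(M, D)),
      ∃ (n : ℕ) (s : Γ(M, g ⁻¹ᵁ U)), res M h₁ s = resO Y h₁ (g.app U f) ^ n • t := by
    rintro D rfl h₁ t; exact (isLoc_of_isQCoh hU (M := M)).exists_extend _ t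
  exact key (Scheme.preimage_basicOpen g f) _ t

namespace IsSys

variable (h : IsSys u₀ F)

include h

theorem str_agrees {V : T.Opens} (s : Fam u₀ F V) {x' x : 𝒵.obj} (g : StMod.sch 𝒵 x' ⟶ StMod.sch 𝒵 x)
    (hg : g ≫ u₀ x = u₀ x') (e : u₀ x' ⁻¹ᵁ V ≤ g ⁻¹ᵁ (u₀ x ⁻¹ᵁ V)) : h.str g hg _ _ e (s.1 x) = s.1 x' :=
  h.str_eq _ _ _ _ _ _ _ fun w c d _ W ec ed => by
    rw [← res_tr F.obj c _ (ec.trans (h.preimage_eq c V).le) (h.le_preimage c V), s.2,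
      ← res_tr F.obj d _ (ed.trans (h.preimage_eq d V).le) (h.le_preimage d V), s.2]

theorem res_str {x' x : 𝒵.obj} (g : StMod.sch 𝒵 x' ⟶ StMod.sch 𝒵 x) (hg : g ≫ u₀ x = u₀ x')
    (U : (StMod.sch 𝒵 x).Opens) {V' V : (StMod.sch 𝒵 x').Opens} (hV : V' ≤ V) (e : V ≤ g ⁻¹ᵁ U)
    (s : Γ(F.obj.obj x, U)) : res (F.obj.obj x') hV (h.str g hg U V e s) = h.str g hg U V' (hV.trans e) s := by
  refine (h.str_eq _ _ _ _ _ _ _ fun w c d hcd W ec ed => ?_).symm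
  rw [tr_res, h.tr_str g hg U V e s c d hcd W _ ed]

theorem str_res {x' x : 𝒵.obj} (g : StMod.sch 𝒵 x' ⟶ StMod.sch 𝒵 x) (hg : g ≫ u₀ x = u₀ x')
    {U' U : (StMod.sch 𝒵 x).Opens} (hU : U' ≤ U) (V : (StMod.sch 𝒵 x').Opens) (e : V ≤ g ⁻¹ᵁ U')
    (s : Γ(F.obj.obj x, U)) :
    h.str g hg U' V e (res (F.obj.obj x) hU s) = h.str g hg U V (e.trans (g.preimage_mono hU)) s := by
  refine h.str_eq _ _ _ _ _ _ _ fun w c d hcd W ec ed => ?_
  rw [tr_res, h.tr_str g hg U V _ s c d hcd W ec (ed.trans ((StMod.bmap 𝒵 d).preimage_mono hU))]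

theorem le_preimage_of_hom {x' x : 𝒵.obj} (g : StMod.sch 𝒵 x' ⟶ StMod.sch 𝒵 x) (hg : g ≫ u₀ x = u₀ x')
    (V : T.Opens) : u₀ x' ⁻¹ᵁ V ≤ g ⁻¹ᵁ (u₀ x ⁻¹ᵁ V) := by
  rw [← Scheme.Hom.comp_preimage, hg]

/-- An affine open of the base is covered by finitely many affine objects. -/
theorem exists_affine_covers {U : T.Opens} (hU : IsAffineOpen U) :
    ∃ (κ : Type u) (_ : Finite κ) (y : κ → 𝒵.obj), (∀ m, IsAffine (StMod.sch 𝒵 (y m))) ∧
      (∀ m, u₀ (y m) ⁻¹ᵁ U = ⊤) ∧ Covers u₀ y U := by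
  choose x hx₁ hx₂ hx₃ using h.cov
  haveI := hx₁
  haveI := hx₂
  have hpt : ∀ t : U, ∃ W : (StMod.sch 𝒵 (x t.1)).Opens, IsAffineOpen W ∧ W ≤ u₀ (x t.1) ⁻¹ᵁ U ∧
      t.1 ∈ (u₀ (x t.1)).base '' (W : Set (StMod.sch 𝒵 (x t.1))) := fun t => by
    obtain ⟨η, hη⟩ := hx₃ t.1
    obtain ⟨W, hW, hηW, hWU⟩ := exists_isAffineOpen_mem_and_subset (X := StMod.sch 𝒵 (x t.1)) (x := η)
      (U := u₀ (x t.1) ⁻¹ᵁ U) (by show (u₀ (x t.1)).base η ∈ U; rw [hη]; exact t.2)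
    exact ⟨W, hW, hWU, η, hηW, hη⟩
  choose W hW hWU htW using hpt
  obtain ⟨s, hs⟩ := hU.isCompact.elim_finite_subcover
    (fun t : U => (u₀ (x t.1)).base '' (W t : Set (StMod.sch 𝒵 (x t.1))))
    (fun t => (u₀ (x t.1)).isOpenMap _ (W t).2) (fun z hz => Set.mem_iUnion.mpr ⟨⟨z, hz⟩, htW ⟨z, hz⟩⟩)
  choose y ey φ hφ using fun k : s => h.exists_lift (x := x k.1.1) (W k.1).ι
  have hy : ∀ k : s, u₀ (y k) = eqToHom (ey k) ≫ (W k.1).ι ≫ u₀ (x k.1.1) := fun k => by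
    rw [← h.nat (φ k), hφ, Category.assoc]
  refine ⟨s, inferInstance, y, fun k => ?_, fun k => ?_, ⟨fun k => ?_, fun t ht => ?_⟩⟩
  · haveI : IsAffine (W k.1 : Scheme.{u}) := hW k.1
    exact IsAffine.of_isIso (eqToHom (ey k))
  · rw [hy, Scheme.Hom.comp_preimage, Scheme.Hom.comp_preimage, eq_top_iff]
    intro p _
    exact hWU k.1 ((eqToHom (ey k)) p).2
  · rw [hy]; exact ⟨inferInstance, inferInstance⟩
  · obtain ⟨t', ht', η, hηW, hη⟩ := Set.mem_iUnion₂.mp (hs ht)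
    obtain ⟨p, hp⟩ := (eqToHom (ey ⟨t', ht'⟩)).surjective (⟨η, hηW⟩ : (W t' : Scheme.{u}))
    refine ⟨⟨t', ht'⟩, p, ?_⟩
    rw [hy, Scheme.Hom.comp_apply, hp]
    exact hη

/-- Overlaps of two affine objects over an affine open. -/
theorem exists_overlap {U : T.Opens} (hU : IsAffineOpen U) (a b : 𝒵.obj) [IsAffine (StMod.sch 𝒵 a)]
    [IsAffine (StMod.sch 𝒵 b)] (ha : u₀ a ⁻¹ᵁ U = ⊤) (hb : u₀ b ⁻¹ᵁ U = ⊤) :
    ∃ (w : 𝒵.obj) (φ : w ⟶ a) (g : StMod.sch 𝒵 w ⟶ StMod.sch 𝒵 b), g ≫ u₀ b = u₀ w ∧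
      IsAffine (StMod.sch 𝒵 w) ∧ u₀ w ⁻¹ᵁ U = ⊤ ∧
      ∀ (z : 𝒵.obj) (p : z ⟶ a) (q : z ⟶ b), ∃ k : StMod.sch 𝒵 z ⟶ StMod.sch 𝒵 w,
        k ≫ StMod.bmap 𝒵 φ = StMod.bmap 𝒵 p ∧ k ≫ g = StMod.bmap 𝒵 q := by
  have hr : ∀ {c : 𝒵.obj}, u₀ c ⁻¹ᵁ U = ⊤ → Set.range (u₀ c).base ⊆ Set.range U.ι.base := by
    intro c hc
    rw [Scheme.Opens.range_ι]
    rintro _ ⟨p, rfl⟩
    exact (hc.ge (trivial : p ∈ (⊤ : (StMod.sch 𝒵 c).Opens)) :)
  let la := IsOpenImmersion.lift U.ι (u₀ a) (hr ha)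
  let lb := IsOpenImmersion.lift U.ι (u₀ b) (hr hb)
  have hla : la ≫ U.ι = u₀ a := IsOpenImmersion.lift_fac _ _ _
  have hlb : lb ≫ U.ι = u₀ b := IsOpenImmersion.lift_fac _ _ _
  haveI : IsAffine (U : Scheme.{u}) := hU
  obtain ⟨w, ew, φ, hφ⟩ := h.exists_lift (x := a) (pullback.fst la lb)
  have hw : u₀ w = eqToHom ew ≫ pullback.fst la lb ≫ la ≫ U.ι := by
    rw [← h.nat φ, hφ, Category.assoc, hla]
  refine ⟨w, φ, eqToHom ew ≫ pullback.snd la lb, ?_, IsAffine.of_isIso (eqToHom ew), ?_, fun z p q => ?_⟩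
  · rw [hw, Category.assoc, ← hlb, ← Category.assoc (pullback.fst la lb), pullback.condition, Category.assoc]
  · rw [← h.preimage_eq φ U, ha, Scheme.Hom.preimage_top]
  · refine ⟨pullback.lift (StMod.bmap 𝒵 p) (StMod.bmap 𝒵 q) ?_ ≫ eqToHom ew.symm, ?_, ?_⟩
    · rw [← cancel_mono U.ι, Category.assoc, Category.assoc, hla, hlb, h.nat, h.nat]
    · rw [hφ]; simp
    · simp

theorem agrees_of_overlap {κ : Type u} (y : κ → 𝒵.obj) (w : κ → κ → 𝒵.obj) (φ : ∀ m n, w m n ⟶ y m)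
    (g : ∀ m n, StMod.sch 𝒵 (w m n) ⟶ StMod.sch 𝒵 (y n)) (hg : ∀ m n, g m n ≫ u₀ (y n) = u₀ (w m n))
    (huniv : ∀ m n (z : 𝒵.obj) (p : z ⟶ y m) (q : z ⟶ y n), ∃ k : StMod.sch 𝒵 z ⟶ StMod.sch 𝒵 (w m n),
        k ≫ StMod.bmap 𝒵 (φ m n) = StMod.bmap 𝒵 p ∧ k ≫ g m n = StMod.bmap 𝒵 q)
    {V : T.Opens} (t : ∀ m, Γ(F.obj.obj (y m), u₀ (y m) ⁻¹ᵁ V))
    (ht : ∀ m n, tr F.obj (φ m n) _ (u₀ (w m n) ⁻¹ᵁ V) (h.le_preimage _ V) (t m) =
      h.str (g m n) (hg m n) _ _ (h.le_preimage_of_hom _ (hg m n) V) (t n)) : Agrees u₀ F y V t := by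
  intro m n z p q W e₁ e₂
  obtain ⟨k, hk₁, hk₂⟩ := huniv m n z p q
  have hk : k ≫ u₀ (w m n) = u₀ z := by
    rw [← h.nat (φ m n), ← Category.assoc, hk₁, h.nat]
  have eW : W ≤ k ⁻¹ᵁ (u₀ (w m n) ⁻¹ᵁ V) := by
    rw [← Scheme.Hom.comp_preimage, hk]
    exact e₁.trans (h.preimage_eq p V).le
  have h₁ := congrArg (h.str k hk _ W eW) (ht m n)
  rw [h.tr_eq_str_res, h.str_str, h.str_str, h.str_congr hk₁ _ (h.nat p) _ _ _ e₁,
    h.str_congr hk₂ _ (h.nat q) _ _ _ e₂, h.str_of_hom, h.str_of_hom] at h₁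
  exact h₁

end IsSys

namespace Atlas

variable {h : IsSys u₀ F} (𝒜 : Atlas h)

theorem resO_app {Y : Scheme.{u}} (g : Y ⟶ T) {V U : T.Opens} (hV : V ≤ U) (r : Γ(T, U)) :
    g.app V (resO T hV r) = resO Y (g.preimage_mono hV) (g.app U r) :=
  congr($(g.naturality (homOfLE hV).op) r)

/-- The sections of the descended module over an affine open localise. -/
theorem isLoc {U : T.Opens} (hU : IsAffineOpen U) : IsLoc 𝒜.G U := by
  classical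
  obtain ⟨κ, _, y, hy₁, hy₂, hy⟩ := h.exists_affine_covers hU
  haveI := hy₁
  have := Fintype.ofFinite κ
  have hUy : ∀ m, IsAffineOpen (u₀ (y m) ⁻¹ᵁ U) := fun m => by rw [hy₂ m]; exact isAffineOpen_top _
  choose w φ g hg hw₁ hw₂ huniv using fun m n => h.exists_overlap hU (y m) (y n) (hy₂ m) (hy₂ n)
  haveI := hw₁
  have hUw : ∀ m n, IsAffineOpen (u₀ (w m n) ⁻¹ᵁ U) := fun m n => by rw [hw₂ m n]; exact isAffineOpen_top _
  refine ⟨fun f t => ?_, fun f s hs => ?_⟩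
  · -- extension
    choose n s hs using fun m => exists_extend_pull (u₀ (y m)) (F.obj.obj (y m)) (F.property.2 _) (hUy m) f
      ((𝒜.fam _ t).1 (y m))
    set N := Finset.univ.sup n
    obtain ⟨s', hs'⟩ : ∃ s' : ∀ m, Γ(F.obj.obj (y m), u₀ (y m) ⁻¹ᵁ U), ∀ m,
        res (F.obj.obj (y m)) ((u₀ (y m)).preimage_mono (T.basicOpen_le f)) (s' m) =
          resO _ ((u₀ (y m)).preimage_mono (T.basicOpen_le f)) ((u₀ (y m)).app U f) ^ N •
            (𝒜.fam _ t).1 (y m) := by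
      refine ⟨fun m => (u₀ (y m)).app U f ^ (N - n m) • s m, fun m => ?_⟩
      rw [res_smul, map_pow, hs m, smul_smul, ← pow_add,
        Nat.sub_add_cancel (Finset.le_sup (f := n) (Finset.mem_univ m))]
    let d := fun (p : κ × κ) => tr F.obj (φ p.1 p.2) _ (u₀ (w p.1 p.2) ⁻¹ᵁ U) (h.le_preimage _ U) (s' p.1) -
      h.str (g p.1 p.2) (hg _ _) _ _ (h.le_preimage_of_hom _ (hg _ _) U) (s' p.2)
    have hd : ∀ p : κ × κ, res (F.obj.obj (w p.1 p.2)) ((u₀ (w p.1 p.2)).preimage_mono (T.basicOpen_le f))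
        (d p) = 0 := by
      rintro ⟨m₁, m₂⟩
      have e₁ := (u₀ (y m₁)).preimage_mono (T.basicOpen_le f)
      have e₂ := (u₀ (y m₂)).preimage_mono (T.basicOpen_le f)
      have e₀ := (u₀ (w m₁ m₂)).preimage_mono (T.basicOpen_le f)
      show res _ e₀ (tr F.obj (φ m₁ m₂) _ _ _ (s' m₁) - h.str (g m₁ m₂) _ _ _ _ (s' m₂)) = 0
      rw [map_sub, res_tr, ← tr_res F.obj (φ m₁ m₂) e₁ _ (h.le_preimage _ _), hs', tr_smul, (𝒜.fam _ t).2,
        h.res_str, ← h.str_res (g m₁ m₂) (hg _ _) e₂ _ (h.le_preimage_of_hom _ (hg _ _) _), hs', h.str_smul,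
        h.str_agrees, sub_eq_zero, ← resO_app _ (T.basicOpen_le f), ← resO_app _ (T.basicOpen_le f), map_pow, map_pow, h.smul_tr]
      congr 2
      show _ = ((u₀ (y m₂)).app (T.basicOpen f) ≫ (g m₁ m₂).appLE _ _ _).hom (resO T (T.basicOpen_le f) f)
      rw [← Scheme.Hom.comp_appLE]
      simp only [hg, Scheme.Hom.app_eq_appLE]
    choose k hk using fun p : κ × κ =>
      pow_smul_eq_zero_pull (u₀ (w p.1 p.2)) (F.obj.obj _) (F.property.2 _) (hUw _ _) f (d p) (hd p)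
    set K := Finset.univ.sup k
    let s'' := fun m => (u₀ (y m)).app U f ^ K • s' m
    have hag : Agrees u₀ F y U s'' := by
      refine h.agrees_of_overlap y w φ g hg huniv s'' fun m₁ m₂ => ?_
      rw [tr_smul, h.str_smul, map_pow, map_pow, h.smul_tr, ← sub_eq_zero]
      have e : ((g m₁ m₂).appLE _ _ (h.le_preimage_of_hom _ (hg m₁ m₂) U)).hom ((u₀ (y m₂)).app U f) =
          (u₀ (w m₁ m₂)).app U f := by
        show ((u₀ (y m₂)).app U ≫ (g m₁ m₂).appLE _ _ _).hom f = _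
        rw [← Scheme.Hom.comp_appLE]
        simp only [hg, Scheme.Hom.app_eq_appLE]
      rw [e, ← smul_sub, show K = (K - k (m₁, m₂)) + k (m₁, m₂) from
        (Nat.sub_add_cancel (Finset.le_sup (f := k) (Finset.mem_univ _))).symm, pow_add, mul_smul]
      exact (congrArg _ (hk (m₁, m₂))).trans (smul_zero _)
    obtain ⟨σ, hσ⟩ := h.exists_fam hy s'' hag
    obtain ⟨σ₀, hσ₀⟩ := (𝒜.fam_bijective U).2 σ
    refine ⟨K + N, σ₀, (𝒜.fam_bijective _).1 (h.fam_ext (hy.mono (T.basicOpen_le f)) fun m => ?_)⟩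
    rw [𝒜.fam_res, hσ₀, hσ, 𝒜.fam_smul, res_smul, hs', smul_smul, map_pow, ← pow_add, map_pow, resO_app]
  · -- vanishing
    choose n hn using fun m => pow_smul_eq_zero_pull (u₀ (y m)) (F.obj.obj (y m)) (F.property.2 _) (hUy m) f
      ((𝒜.fam _ s).1 (y m)) (by
        rw [← 𝒜.fam_res (T.basicOpen_le f), hs]
        have := 𝒜.fam_add (T.basicOpen f) 0 0 (y m)
        rw [add_zero] at this
        simpa using this)
    refine ⟨Finset.univ.sup n, (𝒜.fam_bijective U).1 (h.fam_ext hy fun m => ?_)⟩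
    have h0 : (𝒜.fam U 0).1 (y m) = 0 := by
      have := 𝒜.fam_add U 0 0 (y m)
      rw [add_zero] at this
      simpa using this
    rw [h0, 𝒜.fam_smul, map_pow, show Finset.univ.sup n = (Finset.univ.sup n - n m) + n m from
      (Nat.sub_add_cancel (Finset.le_sup (f := n) (Finset.mem_univ m))).symm, pow_add, mul_smul, hn, smul_zero]

theorem isQCoh : Coh.IsQCoh 𝒜.G := isQCoh_of_isLoc fun x => by
  obtain ⟨U, hU, hx, -⟩ := exists_isAffineOpen_mem_and_subset (X := T) (x := x) (U := ⊤) trivial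
  exact ⟨U, hU, hx, 𝒜.isLoc hU⟩

end Atlas

end Groth.Agent.QDescent
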