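import Mathlib
import Groth.Agent.QDescent.Affine
import Groth.Agent.Pinch.BaseChange

/-!
# Sections of the descended module change base to flat objects over affine opens
-/

universe w v u

open CategoryTheory CategoryTheory.Limits AlgebraicGeometry TopologicalSpace Opposite TensorProduct

set_option autoImplicit false
set_option backward.isDefEq.respectTransparency false
set_option backward.isDefEq.respectTransparency.types false
set_option linter.style.haveILetI false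

noncomputable section

namespace Groth.Agent.QDescent

open Groth.Agent.QC

variable {S : Scheme.{u}} {𝒵 : BasedCategory.{v, w} (Over S)} {T : Scheme.{u}}
  (u₀ : ∀ x : 𝒵.obj, StMod.sch 𝒵 x ⟶ T) (F : StMod.QCoh 𝒵) (U : T.Opens)

/-- The sections over the preimage of an open of the base, as a module over its functions. -/
def Sec (x : 𝒵.obj) : Type u := Γ(F.obj.obj x, u₀ x ⁻¹ᵁ U)

instance (x : 𝒵.obj) : AddCommGroup (Sec u₀ F U x) := inferInstanceAs (AddCommGroup Γ(F.obj.obj x, u₀ x ⁻¹ᵁ U))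

instance (x : 𝒵.obj) : Module Γ(T, U) (Sec u₀ F U x) :=
  Module.compHom Γ(F.obj.obj x, u₀ x ⁻¹ᵁ U) ((u₀ x).app U).hom

instance (x : 𝒵.obj) : Module Γ(StMod.sch 𝒵 x, u₀ x ⁻¹ᵁ U) (Sec u₀ F U x) :=
  inferInstanceAs (Module Γ(StMod.sch 𝒵 x, u₀ x ⁻¹ᵁ U) Γ(F.obj.obj x, u₀ x ⁻¹ᵁ U))

variable {u₀ F U}

theorem Sec.smul_def {x : 𝒵.obj} (r : Γ(T, U)) (s : Sec u₀ F U x) :
    (show Γ(F.obj.obj x, u₀ x ⁻¹ᵁ U) from r • s) = (u₀ x).app U r • (show Γ(F.obj.obj x, u₀ x ⁻¹ᵁ U) from s) := rfl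

namespace IsSys

variable (h : IsSys u₀ F)

include h

theorem appLE_app {x' x : 𝒵.obj} (g : StMod.sch 𝒵 x' ⟶ StMod.sch 𝒵 x) (hg : g ≫ u₀ x = u₀ x')
    (e : u₀ x' ⁻¹ᵁ U ≤ g ⁻¹ᵁ (u₀ x ⁻¹ᵁ U)) (r : Γ(T, U)) :
    (g.appLE _ _ e).hom ((u₀ x).app U r) = (u₀ x').app U r := by
  show ((u₀ x).app U ≫ g.appLE _ _ e).hom r = _
  rw [← Scheme.Hom.comp_appLE]
  simp only [hg, Scheme.Hom.app_eq_appLE]

/-- Restriction along a morphism over the base, linearly. -/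
def strL (h : IsSys u₀ F) (U : T.Opens) {x' x : 𝒵.obj} (g : StMod.sch 𝒵 x' ⟶ StMod.sch 𝒵 x) (hg : g ≫ u₀ x = u₀ x') :
    Sec u₀ F U x →ₗ[Γ(T, U)] Sec u₀ F U x' where
  toFun s := h.str g hg _ _ (h.le_preimage_of_hom g hg U) s
  map_add' s s' := map_add (h.str g hg _ _ (h.le_preimage_of_hom g hg U)) s s'
  map_smul' r s := (h.str_smul g hg _ _ (h.le_preimage_of_hom g hg U) _ s).trans
    (congrArg (fun c => c • _) (h.appLE_app g hg _ r))

theorem strL_apply (U : T.Opens) {x' x : 𝒵.obj} (g : StMod.sch 𝒵 x' ⟶ StMod.sch 𝒵 x) (hg : g ≫ u₀ x = u₀ x')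
    (s : Sec u₀ F U x) : h.strL U g hg s = h.str g hg _ _ (h.le_preimage_of_hom g hg U) s := rfl

theorem strL_agrees (U : T.Opens) {x' x : 𝒵.obj} (g : StMod.sch 𝒵 x' ⟶ StMod.sch 𝒵 x) (hg : g ≫ u₀ x = u₀ x')
    (s : Fam u₀ F U) : h.strL U g hg (s.1 x) = s.1 x' := h.str_agrees s g hg (h.le_preimage_of_hom g hg U)

/-- An object over the fibre product over the base of two objects. -/
theorem exists_pullback (a b : 𝒵.obj) :
    ∃ (w : 𝒵.obj) (φ : w ⟶ a) (g : StMod.sch 𝒵 w ⟶ StMod.sch 𝒵 b),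
      IsPullback (StMod.bmap 𝒵 φ) g (u₀ a) (u₀ b) := by
  obtain ⟨w, ew, φ, hφ⟩ := h.exists_lift (x := a) (pullback.fst (u₀ a) (u₀ b))
  refine ⟨w, φ, eqToHom ew ≫ pullback.snd (u₀ a) (u₀ b), ?_⟩
  exact (IsPullback.of_hasPullback (u₀ a) (u₀ b)).of_iso (eqToIso ew).symm (Iso.refl _) (Iso.refl _) (Iso.refl _)
    (by simp [hφ]) (by simp) (by simp) (by simp)

/-- Sections over the fibre product are the base change of sections. -/
theorem exists_theta (hU : IsAffineOpen U) {a b w : 𝒵.obj} (φ : w ⟶ a) (g : StMod.sch 𝒵 w ⟶ StMod.sch 𝒵 b)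
    (H : IsPullback (StMod.bmap 𝒵 φ) g (u₀ a) (u₀ b)) (hg : g ≫ u₀ b = u₀ w)
    (ha : IsAffineOpen (u₀ a ⁻¹ᵁ U)) (hb : IsAffineOpen (u₀ b ⁻¹ᵁ U)) :
    letI : Algebra Γ(T, U) Γ(StMod.sch 𝒵 a, u₀ a ⁻¹ᵁ U) := ((u₀ a).app U).hom.toAlgebra
    IsAffineOpen (u₀ w ⁻¹ᵁ U) ∧
      ∃ Θ : Γ(StMod.sch 𝒵 a, u₀ a ⁻¹ᵁ U) ⊗[Γ(T, U)] Sec u₀ F U b ≃+ Sec u₀ F U w,
        ∀ r m, Θ (r ⊗ₜ m) = ((((StMod.bmap 𝒵 φ).appLE _ _ (h.le_preimage φ U)).hom r •
            h.str g hg _ _ (h.le_preimage_of_hom g hg U) m : Γ(F.obj.obj w, u₀ w ⁻¹ᵁ U))) := by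
  letI : Algebra Γ(T, U) Γ(StMod.sch 𝒵 a, u₀ a ⁻¹ᵁ U) := ((u₀ a).app U).hom.toAlgebra
  have eφ := h.le_preimage φ U
  have eg := h.le_preimage_of_hom g hg U
  obtain ⟨hpo, haff⟩ := Pinch.isPushout_appLE H hU ha hb le_rfl le_rfl (u₀ w ⁻¹ᵁ U) (by
    rw [← h.preimage_eq φ U, ← Scheme.Hom.comp_preimage g, hg, h.preimage_eq φ U, inf_idem])
  refine ⟨haff, ?_⟩
  let R := Γ(T, U)
  let B := Γ(StMod.sch 𝒵 a, u₀ a ⁻¹ᵁ U)
  let C := Γ(StMod.sch 𝒵 b, u₀ b ⁻¹ᵁ U)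
  let D := Γ(StMod.sch 𝒵 w, u₀ w ⁻¹ᵁ U)
  letI : Algebra R C := ((u₀ b).app U).hom.toAlgebra
  letI : Algebra B D := ((StMod.bmap 𝒵 φ).appLE _ _ eφ).hom.toAlgebra
  letI : Algebra C D := (g.appLE _ _ eg).hom.toAlgebra
  letI : Algebra R D := ((u₀ w).app U).hom.toAlgebra
  haveI : IsScalarTower R B D := IsScalarTower.of_algebraMap_eq fun r => (h.appLE_app _ (h.nat φ) eφ r).symm
  haveI : IsScalarTower R C D := IsScalarTower.of_algebraMap_eq fun r => (h.appLE_app g hg eg r).symm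
  rw [← Scheme.Hom.app_eq_appLE, ← Scheme.Hom.app_eq_appLE] at hpo
  haveI : Algebra.IsPushout R B C D := CommRingCat.isPushout_iff_isPushout.1 hpo
  haveI : IsScalarTower R C (Sec u₀ F U b) := ⟨fun r c m => mul_smul ((u₀ b).app U r) c m⟩
  obtain ⟨Φ, hΦ⟩ := h.exists_bijective_str g hg hb haff eg
  let e := (Algebra.IsPushout.cancelBaseChange R B C D (Sec u₀ F U b)).symm
  refine ⟨e.toAddEquiv.trans Φ.toAddEquiv, fun r m => ?_⟩
  show Φ (e (r ⊗ₜ m)) = _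
  rw [Algebra.IsPushout.cancelBaseChange_symm_tmul]
  show Φ ((algebraMap B D r) ⊗ₜ[C] (show Γ(F.obj.obj b, u₀ b ⁻¹ᵁ U) from m)) = _
  rw [show (algebraMap B D r) ⊗ₜ[C] (show Γ(F.obj.obj b, u₀ b ⁻¹ᵁ U) from m) =
    algebraMap B D r • ((1 : D) ⊗ₜ[C] (show Γ(F.obj.obj b, u₀ b ⁻¹ᵁ U) from m)) by
      rw [TensorProduct.smul_tmul', smul_eq_mul, mul_one], map_smul, hΦ]
  rfl

/-- Naturality of the base change in the second object. -/
theorem theta_map {a b c w w' : 𝒵.obj} (φ : w ⟶ a) (g : StMod.sch 𝒵 w ⟶ StMod.sch 𝒵 b) (hg : g ≫ u₀ b = u₀ w)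
    (φ' : w' ⟶ a) (g' : StMod.sch 𝒵 w' ⟶ StMod.sch 𝒵 c) (hg' : g' ≫ u₀ c = u₀ w')
    (q : StMod.sch 𝒵 c ⟶ StMod.sch 𝒵 b) (hq : q ≫ u₀ b = u₀ c) (H : IsPullback (StMod.bmap 𝒵 φ) g (u₀ a) (u₀ b)) :
    letI : Algebra Γ(T, U) Γ(StMod.sch 𝒵 a, u₀ a ⁻¹ᵁ U) := ((u₀ a).app U).hom.toAlgebra
    ∀ (Θ : Γ(StMod.sch 𝒵 a, u₀ a ⁻¹ᵁ U) ⊗[Γ(T, U)] Sec u₀ F U b ≃+ Sec u₀ F U w)
      (_ : ∀ r m, Θ (r ⊗ₜ m) = ((((StMod.bmap 𝒵 φ).appLE _ _ (h.le_preimage φ U)).hom r •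
            h.str g hg _ _ (h.le_preimage_of_hom g hg U) m : Γ(F.obj.obj w, u₀ w ⁻¹ᵁ U))))
      (Θ' : Γ(StMod.sch 𝒵 a, u₀ a ⁻¹ᵁ U) ⊗[Γ(T, U)] Sec u₀ F U c ≃+ Sec u₀ F U w')
      (_ : ∀ r m, Θ' (r ⊗ₜ m) = ((((StMod.bmap 𝒵 φ').appLE _ _ (h.le_preimage φ' U)).hom r •
            h.str g' hg' _ _ (h.le_preimage_of_hom g' hg' U) m : Γ(F.obj.obj w', u₀ w' ⁻¹ᵁ U))))
      (z : Γ(StMod.sch 𝒵 a, u₀ a ⁻¹ᵁ U) ⊗[Γ(T, U)] Sec u₀ F U b) (e : Γ(F.obj.obj a, u₀ a ⁻¹ᵁ U)),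
      Θ z = tr F.obj φ _ _ (h.le_preimage φ U) e →
      Θ' ((h.strL U q hq).lTensor _ z) = tr F.obj φ' _ _ (h.le_preimage φ' U) e := by
  letI : Algebra Γ(T, U) Γ(StMod.sch 𝒵 a, u₀ a ⁻¹ᵁ U) := ((u₀ a).app U).hom.toAlgebra
  intro Θ hΘ Θ' hΘ' z e he
  let k := H.lift (StMod.bmap 𝒵 φ') (g' ≫ q) (by rw [Category.assoc, hq, hg', h.nat])
  have hk₁ : k ≫ StMod.bmap 𝒵 φ = StMod.bmap 𝒵 φ' := H.lift_fst _ _ _
  have hk₂ : k ≫ g = g' ≫ q := H.lift_snd _ _ _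
  have hk : k ≫ u₀ w = u₀ w' := by rw [← h.nat φ, ← Category.assoc, hk₁, h.nat]
  have key : ∀ z, Θ' ((h.strL U q hq).lTensor _ z) = h.strL U k hk (Θ z) := fun z => by
    induction z using TensorProduct.induction_on with
    | zero => simp
    | add x y hx hy => simp [map_add, hx, hy]
    | tmul r m =>
      rw [LinearMap.lTensor_tmul, hΘ', hΘ]
      show _ = h.str k hk _ _ (h.le_preimage_of_hom k hk U) _
      rw [h.str_smul, h.str_str, strL_apply, h.str_str]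
      congr 1
      · show _ = ((StMod.bmap 𝒵 φ).appLE _ _ _ ≫ k.appLE _ _ _).hom r
        rw [Scheme.Hom.appLE_comp_appLE]
        simp only [hk₁]
      · exact h.str_congr hk₂.symm _ _ _ _ _ _ _
  rw [key, he]
  show h.str k hk _ _ (h.le_preimage_of_hom k hk U) _ = _
  rw [h.tr_eq_str_res, h.str_str, h.str_congr hk₁ _ (h.nat φ') _ _ _ (h.le_preimage φ' U), h.str_of_hom]

end IsSys

namespace Atlas

variable {h : IsSys u₀ F} (𝒜 : Atlas h)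

theorem exists_bc (hU : IsAffineOpen U) (a : 𝒵.obj) (ha : IsAffineOpen (u₀ a ⁻¹ᵁ U)) [Flat (u₀ a)] :
    letI : Algebra Γ(T, U) Γ(StMod.sch 𝒵 a, u₀ a ⁻¹ᵁ U) := ((u₀ a).app U).hom.toAlgebra
    ∃ Φ : Γ(StMod.sch 𝒵 a, u₀ a ⁻¹ᵁ U) ⊗[Γ(T, U)] Γ(𝒜.G, U) ≃+ Γ(F.obj.obj a, u₀ a ⁻¹ᵁ U),
      ∀ r s, Φ (r ⊗ₜ s) = r • (𝒜.fam U s).1 a := by
  classical
  letI : Algebra Γ(T, U) Γ(StMod.sch 𝒵 a, u₀ a ⁻¹ᵁ U) := ((u₀ a).app U).hom.toAlgebra
  let R := Γ(T, U)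
  let B := Γ(StMod.sch 𝒵 a, u₀ a ⁻¹ᵁ U)
  haveI : Module.Flat R B := by
    have := Flat.flat_appLE (u₀ a) hU ha le_rfl
    rwa [← Scheme.Hom.app_eq_appLE] at this
  let K : B ⊗[R] Γ(𝒜.G, U) →+ Γ(F.obj.obj a, u₀ a ⁻¹ᵁ U) :=
    TensorProduct.liftAddHom (AddMonoidHom.mk' (fun r => AddMonoidHom.mk' (fun s => r • (𝒜.fam U s).1 a)
        fun s s' => by rw [𝒜.fam_add, smul_add]) fun r r' => by ext s; exact add_smul r r' _)
      fun c r s => by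
        show (algebraMap R B c * r) • (𝒜.fam U s).1 a = r • (𝒜.fam U (c • s)).1 a
        rw [𝒜.fam_smul, smul_smul, mul_comm]
        rfl
  have hK : ∀ r s, K (r ⊗ₜ s) = r • (𝒜.fam U s).1 a := fun r s => rfl
  obtain ⟨κ, _, y, hy₁, hy₂, hy⟩ := h.exists_affine_covers hU
  haveI := hy₁
  have := Fintype.ofFinite κ
  have hUy : ∀ m, IsAffineOpen (u₀ (y m) ⁻¹ᵁ U) := fun m => by rw [hy₂ m]; exact isAffineOpen_top _
  -- the double overlaps
  choose w φ g Hw using fun m n => h.exists_pullback (y m) (y n)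
  have hg : ∀ m n, g m n ≫ u₀ (y n) = u₀ (w m n) := fun m n => by rw [← (Hw m n).w, h.nat]
  -- the overlaps with `a`
  choose v ψ q Hv using fun m => h.exists_pullback a (y m)
  have hq : ∀ m, q m ≫ u₀ (y m) = u₀ (v m) := fun m => by rw [← (Hv m).w, h.nat]
  choose v' ψ' q' Hv' using fun m n => h.exists_pullback a (w m n)
  have hq' : ∀ m n, q' m n ≫ u₀ (w m n) = u₀ (v' m n) := fun m n => by rw [← (Hv' m n).w, h.nat]
  have hUw : ∀ m n, IsAffineOpen (u₀ (w m n) ⁻¹ᵁ U) := fun m n =>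
    (h.exists_theta hU (φ m n) (g m n) (Hw m n) (hg m n) (hUy m) (hUy n)).1
  choose Θ hΘ using fun m => (h.exists_theta hU (ψ m) (q m) (Hv m) (hq m) ha (hUy m)).2
  choose Θ' hΘ' using fun m n => (h.exists_theta hU (ψ' m n) (q' m n) (Hv' m n) (hq' m n) ha (hUw m n)).2
  -- the equalizer presentation
  let ι : Γ(𝒜.G, U) →ₗ[R] (∀ m, Sec u₀ F U (y m)) :=
    LinearMap.pi fun m =>
      { toFun := fun s => (𝒜.fam U s).1 (y m)
        map_add' := fun s s' => 𝒜.fam_add U s s' (y m)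
        map_smul' := fun r s => 𝒜.fam_smul U r s (y m) }
  let d : (∀ m, Sec u₀ F U (y m)) →ₗ[R] (∀ p : κ × κ, Sec u₀ F U (w p.1 p.2)) :=
    LinearMap.pi fun p => (h.strL U (StMod.bmap 𝒵 (φ p.1 p.2)) (h.nat _)).comp (LinearMap.proj p.1) -
      (h.strL U (g p.1 p.2) (hg _ _)).comp (LinearMap.proj p.2)
  have huniv : ∀ m n (z : 𝒵.obj) (p : z ⟶ y m) (q : z ⟶ y n), ∃ k : StMod.sch 𝒵 z ⟶ StMod.sch 𝒵 (w m n),
      k ≫ StMod.bmap 𝒵 (φ m n) = StMod.bmap 𝒵 p ∧ k ≫ g m n = StMod.bmap 𝒵 q := fun m n z p q =>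
    ⟨(Hw m n).lift _ _ (by rw [h.nat, h.nat]), (Hw m n).lift_fst _ _ _, (Hw m n).lift_snd _ _ _⟩
  have hι : Function.Injective ι := fun s s' hs =>
    (𝒜.fam_bijective U).1 (h.fam_ext hy fun m => congrFun hs m)
  have hexact : Function.Exact ι d := by
    intro t
    constructor
    · intro ht
      obtain ⟨σ, hσ⟩ := h.exists_fam hy t (h.agrees_of_overlap y w φ g hg huniv t fun m n => by
        rw [h.tr_eq_str_res]
        exact sub_eq_zero.mp (congrFun ht (m, n)))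
      obtain ⟨s, hs⟩ := (𝒜.fam_bijective U).2 σ
      exact ⟨s, funext fun m => (congrFun (congrArg Subtype.val hs) (y m)).trans (hσ m)⟩
    · rintro ⟨s, rfl⟩
      funext p
      show h.strL U (StMod.bmap 𝒵 (φ p.1 p.2)) (h.nat _) ((𝒜.fam U s).1 _) -
        h.strL U (g p.1 p.2) (hg _ _) ((𝒜.fam U s).1 _) = 0
      rw [h.strL_agrees, h.strL_agrees, sub_self]
  have hKv : ∀ m z, Θ m (((LinearMap.proj m).comp ι).lTensor B z) =
      tr F.obj (ψ m) _ _ (h.le_preimage _ U) (K z) := by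
    intro m z
    induction z using TensorProduct.induction_on with
    | zero => rw [map_zero, map_zero, map_zero, map_zero]
    | add x x' hx hx' => rw [map_add, map_add, map_add, map_add, hx, hx']
    | tmul r s =>
      rw [LinearMap.lTensor_tmul, hΘ, hK, tr_smul, (𝒜.fam U s).2]
      show _ • h.str (q m) _ _ _ _ ((𝒜.fam U s).1 (y m)) = _
      rw [h.str_agrees]
  let π := TensorProduct.piRight R R B fun m => Sec u₀ F U (y m)
  have hπ : ∀ m z, π z m = (LinearMap.proj (R := R) (φ := fun m => Sec u₀ F U (y m)) m).lTensor B z := by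
    intro m z
    induction z using TensorProduct.induction_on with
    | zero => simp
    | tmul r s => simp [π]
    | add x x' hx hx' => simp [map_add, hx, hx']
  let π' := TensorProduct.piRight R R B fun p : κ × κ => Sec u₀ F U (w p.1 p.2)
  have hπ' : ∀ p z, π' z p = (LinearMap.proj (R := R) (φ := fun p : κ × κ => Sec u₀ F U (w p.1 p.2)) p).lTensor B z := by
    intro p z
    induction z using TensorProduct.induction_on with
    | zero => simp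
    | tmul r s => simp [π']
    | add x x' hx hx' => simp [map_add, hx, hx']
  refine ⟨AddEquiv.ofBijective K ⟨?_, fun e => ?_⟩, hK⟩
  · refine (injective_iff_map_eq_zero K).2 fun z hz => ?_
    refine Module.Flat.lTensor_preserves_injective_linearMap ι hι ?_
    rw [map_zero]
    apply π.injective
    funext m
    rw [map_zero, hπ, ← LinearMap.comp_apply, ← LinearMap.lTensor_comp]
    apply (Θ m).injective
    rw [hKv, hz, map_zero, Pi.zero_apply, map_zero]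
  · obtain ⟨z₀, hz₀⟩ : ∃ z₀, ∀ m, Θ m ((LinearMap.proj m).lTensor B z₀) =
        tr F.obj (ψ m) _ _ (h.le_preimage _ U) e :=
      ⟨π.symm fun m => (Θ m).symm (tr F.obj (ψ m) _ _ (h.le_preimage _ U) e), fun m => by
        rw [← hπ, LinearEquiv.apply_symm_apply, AddEquiv.apply_symm_apply]⟩
    obtain ⟨z, hz⟩ := (Module.Flat.lTensor_exact B hexact z₀).1 (π'.injective (funext fun ⟨m, n⟩ => by
      rw [map_zero, hπ', ← LinearMap.comp_apply, ← LinearMap.lTensor_comp, LinearMap.proj_pi,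
        LinearMap.lTensor_sub, LinearMap.sub_apply, LinearMap.lTensor_comp, LinearMap.lTensor_comp,
        LinearMap.comp_apply, LinearMap.comp_apply, Pi.zero_apply, sub_eq_zero]
      apply (Θ' m n).injective
      rw [h.theta_map (ψ m) (q m) (hq m) (ψ' m n) (q' m n) (hq' m n) _ (h.nat _) (Hv m) (Θ m) (hΘ m) (Θ' m n)
          (hΘ' m n) _ e (hz₀ m),
        h.theta_map (ψ n) (q n) (hq n) (ψ' m n) (q' m n) (hq' m n) _ (hg m n) (Hv n) (Θ n) (hΘ n) (Θ' m n)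
          (hΘ' m n) _ e (hz₀ n)]))
    refine ⟨z, sect_ext F (φ := ψ) ⟨fun m => ?_, fun x hx => ?_⟩ fun m => ?_⟩
    · haveI := (hy.fppf m).1
      haveI := (hy.fppf m).2
      exact ⟨MorphismProperty.of_isPullback (Hv m).flip inferInstance,
        MorphismProperty.of_isPullback (Hv m).flip inferInstance⟩
    · obtain ⟨m, η, hη⟩ := hy.surj _ hx
      obtain ⟨p, hp, -⟩ := Scheme.Pullback.exists_preimage_pullback (f := u₀ a) (g := u₀ (y m)) x η hη.symm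
      exact ⟨m, (Hv m).isoPullback.inv.base p, by
        rw [← Scheme.Hom.comp_apply, IsPullback.isoPullback_inv_fst, hp]⟩
    · have e₀ := (h.preimage_eq (ψ m) U).le
      rw [← res_tr F.obj (ψ m) _ e₀ (h.le_preimage (ψ m) U), ← res_tr F.obj (ψ m) _ e₀ (h.le_preimage (ψ m) U),
        ← hKv, LinearMap.lTensor_comp, LinearMap.comp_apply, hz, hz₀]

end Atlas

end Groth.Agent.QDescent
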