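import Mathlib
import Groth.Agent.QDescent.Exact
import Groth.Agent.FlatFunLib.ModCond

/-!
# The descended module pulls back to the given one
-/

universe w v u

open CategoryTheory CategoryTheory.Limits AlgebraicGeometry TopologicalSpace Opposite TensorProduct

set_option autoImplicit false
set_option backward.isDefEq.respectTransparency false
set_option backward.isDefEq.respectTransparency.types false
set_option linter.style.haveILetI false

noncomputable section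

namespace Groth.Agent.QDescent

open Groth.Agent.QC

theorem bijective_tmul_one {A B : Type u} [CommRing A] [CommRing B] [Algebra A B]
    (h : Function.Bijective (algebraMap A B)) (M : Type u) [AddCommGroup M] [Module A M] :
    Function.Bijective (fun m : M => (1 : B) ⊗ₜ[A] m) := by
  let e := (TensorProduct.lid A M).symm.trans
    (LinearEquiv.rTensor M (AlgEquiv.ofBijective (Algebra.ofId A B) h).toLinearEquiv)
  have he : (fun m : M => (1 : B) ⊗ₜ[A] m) = e := by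
    funext m; simp [e]
  rw [he]
  exact e.bijective

theorem isIso_map_of_eq {X : Scheme.{u}} {V U : X.Opens} (h : V ≤ U) (h' : V = U) :
    IsIso (X.presheaf.map (homOfLE h).op) := by
  subst h'
  rw [show (homOfLE h).op = 𝟙 (op V) from rfl, X.presheaf.map_id]
  infer_instance

/-- Isomorphisms are detected on a basis of opens. -/
theorem isIso_of_bijective_basis {X : Scheme.{u}} {M N : X.Modules} (φ : M ⟶ N) (B : Set X.Opens)
    (hB : ∀ {V : X.Opens}, ∀ x ∈ V, ∃ W ∈ B, x ∈ W ∧ W ≤ V)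
    (h : ∀ W ∈ B, Function.Bijective (φ.app W)) : IsIso φ := by
  have hinj : ∀ W, Function.Injective (φ.app W) := fun W s t hst =>
    section_eq_of_locally fun x hx => by
      obtain ⟨V, hV, hxV, hVW⟩ := hB x hx
      exact ⟨V, hVW, hxV, (h V hV).1 (by rw [← app_res, ← app_res, hst])⟩
  rw [Scheme.Modules.Hom.isIso_iff_isIso_app]
  intro W
  rw [ConcreteCategory.isIso_iff_bijective]
  refine ⟨hinj W, fun t => ?_⟩
  choose V hV hxV hVW using fun x : W => hB x.1 x.2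
  choose s hs using fun x : W => (h (V x) (hV x)).2 (res N (hVW x) t)
  obtain ⟨a, ha, -⟩ := TopCat.Sheaf.existsUnique_gluing' (abSheaf M) V W (fun x => homOfLE (hVW x))
    (fun x hx => Opens.mem_iSup.mpr ⟨⟨x, hx⟩, hxV ⟨x, hx⟩⟩) s (fun x y => by
      refine hinj _ ?_
      change φ.app _ (res M (inf_le_left : V x ⊓ V y ≤ V x) (s x)) =
        φ.app _ (res M (inf_le_right : V x ⊓ V y ≤ V y) (s y))
      rw [← app_res, ← app_res, hs, hs, res_res, res_res])
  refine ⟨a, section_eq_of_locally fun x hx => ⟨V ⟨x, hx⟩, hVW _, hxV _, ?_⟩⟩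
  rw [app_res, show res M (hVW ⟨x, hx⟩) a = s ⟨x, hx⟩ from ha ⟨x, hx⟩]
  exact hs _

/-- The adjoint of a composite with a cartesian comparison map. -/
theorem isIso_symm_comp {X' X Y : Scheme.{u}} {g : X' ⟶ X} {r : X ⟶ Y} {r' : X' ⟶ Y} (hr : g ≫ r = r')
    {G : Y.Modules} {M : X.Modules} {M' : X'.Modules} (c : G ⟶ (Scheme.Modules.pushforward r).obj M)
    (β : M ⟶ (Scheme.Modules.pushforward g).obj M')
    (hβ : IsIso (((Scheme.Modules.pullbackPushforwardAdjunction g).homEquiv M M').symm β)) :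
    IsIso (((Scheme.Modules.pullbackPushforwardAdjunction r').homEquiv G M').symm
        (c ≫ (Scheme.Modules.pushforward r).map β ≫ (Scheme.Modules.pushforwardComp g r).hom.app M' ≫
          (Scheme.Modules.pushforwardCongr hr).hom.app M')) ↔
      IsIso ((Scheme.Modules.pullback g).map
        (((Scheme.Modules.pullbackPushforwardAdjunction r).homEquiv G M).symm c)) := by
  subst hr
  haveI := hβ
  let adr := Scheme.Modules.pullbackPushforwardAdjunction r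
  let adg := Scheme.Modules.pullbackPushforwardAdjunction g
  let adT := adr.comp adg
  let ad' := Scheme.Modules.pullbackPushforwardAdjunction (g ≫ r)
  let a := (adr.homEquiv G M).symm c
  let b := (adg.homEquiv M M').symm β
  have hcong : (Scheme.Modules.pushforwardCongr (rfl : g ≫ r = g ≫ r)).hom.app M' = 𝟙 _ := by
    apply Scheme.Modules.hom_ext
    intro U
    rw [Scheme.Modules.pushforwardCongr_hom_app_app, Scheme.Modules.Hom.id_app]
    exact M'.presheaf.map_id _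
  have key : (ad'.homEquiv G M').symm (c ≫ (Scheme.Modules.pushforward r).map β ≫
      (Scheme.Modules.pushforwardComp g r).hom.app M' ≫
        (Scheme.Modules.pushforwardCongr (rfl : g ≫ r = g ≫ r)).hom.app M') =
      (Scheme.Modules.pullbackComp g r).inv.app G ≫ (Scheme.Modules.pullback g).map a ≫ b := by
    rw [hcong, Category.comp_id, Equiv.symm_apply_eq]
    have h1 : adT.homEquiv G M' ((Scheme.Modules.pullback g).map a ≫ b) =
        c ≫ (Scheme.Modules.pushforward r).map β := by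
      simp only [adT, Adjunction.comp_homEquiv]
      show adr.homEquiv G _ (adg.homEquiv _ M' ((Scheme.Modules.pullback g).map a ≫ b)) = _
      rw [Adjunction.homEquiv_naturality_left, Equiv.apply_symm_apply, Adjunction.homEquiv_naturality_right,
        Equiv.apply_symm_apply]
    have h2 := unit_conjugateEquiv adT ad' (Scheme.Modules.pullbackComp g r).inv G
    rw [Scheme.Modules.conjugateEquiv_pullbackComp_inv] at h2
    rw [← Category.assoc, ← h1, Adjunction.homEquiv_unit, Adjunction.homEquiv_unit, (Scheme.Modules.pushforward (g ≫ r)).map_comp,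
      ← Category.assoc (ad'.unit.app G), ← h2, Category.assoc, Category.assoc]
    congr 1
  rw [key, isIso_comp_left_iff, isIso_comp_right_iff]

variable {S : Scheme.{u}} {𝒵 : BasedCategory.{v, w} (Over S)} {T : Scheme.{u}}
  {u₀ : ∀ x : 𝒵.obj, StMod.sch 𝒵 x ⟶ T} {F : StMod.QCoh 𝒵}

namespace Atlas

variable {h : IsSys u₀ F} (𝒜 : Atlas h)

theorem c_natural {x' x : 𝒵.obj} (φ : x' ⟶ x) : 𝒜.c x ≫ arrow (h := h) φ = 𝒜.c x' := by
  apply Scheme.Modules.hom_ext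
  intro V
  ext s
  show (arrow (h := h) φ).app V ((𝒜.c x).app V s) = (𝒜.c x').app V s
  rw [arrow_app, c_app, c_app, (𝒜.fam V s).2]

/-- The adjoint of the projection. -/
def adjC (x : 𝒵.obj) : (Scheme.Modules.pullback (u₀ x)).obj 𝒜.G ⟶ F.obj.obj x :=
  ((Scheme.Modules.pullbackPushforwardAdjunction (u₀ x)).homEquiv _ _).symm (𝒜.c x)

theorem isIso_adjC_iff {x' x : 𝒵.obj} (φ : x' ⟶ x) :
    IsIso (𝒜.adjC x') ↔ IsIso ((Scheme.Modules.pullback (StMod.bmap 𝒵 φ)).map (𝒜.adjC x)) := by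
  have := isIso_symm_comp (h.nat φ) (𝒜.c x) (F.obj.map φ rfl) (F.property.1 φ rfl)
  rwa [show 𝒜.c x ≫ (Scheme.Modules.pushforward (u₀ x)).map (F.obj.map φ rfl) ≫
      (Scheme.Modules.pushforwardComp (StMod.bmap 𝒵 φ) (u₀ x)).hom.app (F.obj.obj x') ≫
      (Scheme.Modules.pushforwardCongr (h.nat φ)).hom.app (F.obj.obj x') = 𝒜.c x' from 𝒜.c_natural φ] at this

theorem adjC_app (x : 𝒵.obj) (U : T.Opens) (W : (StMod.sch 𝒵 x).Opens) (e : W ≤ u₀ x ⁻¹ᵁ U) (s : Γ(𝒜.G, U)) :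
    (𝒜.adjC x).app W (ModDesc.pullSectLE (u₀ x) 𝒜.G U W e s) = res (F.obj.obj x) e ((𝒜.fam U s).1 x) := by
  rw [ModDesc.pullSectLE_apply, ← app_res, ← c_app]
  congr 1
  have h' : (Scheme.Modules.pullbackPushforwardAdjunction (u₀ x)).homEquiv 𝒜.G (F.obj.obj x) (𝒜.adjC x) = 𝒜.c x :=
    Equiv.apply_symm_apply _ _
  rw [← h', Adjunction.homEquiv_unit, Scheme.Modules.Hom.comp_app]
  rfl

/-- Over an affine open, on a flat object. -/
theorem adjC_bijective {U : T.Opens} (hU : IsAffineOpen U) (a : 𝒵.obj) [Flat (u₀ a)]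
    {W : (StMod.sch 𝒵 a).Opens} (hW : IsAffineOpen W) (e : W ≤ u₀ a ⁻¹ᵁ U) :
    Function.Bijective ((𝒜.adjC a).app W) := by
  obtain ⟨a', ea, φ, hφ⟩ := h.exists_lift (x := a) W.ι
  haveI : IsAffine (W : Scheme.{u}) := hW
  haveI : IsAffine (StMod.sch 𝒵 a') := IsAffine.of_isIso (eqToHom ea)
  haveI : Flat (u₀ a') := by rw [← h.nat φ, hφ]; infer_instance
  have hpre : StMod.bmap 𝒵 φ ⁻¹ᵁ W = ⊤ := by
    rw [hφ, Scheme.Hom.comp_preimage, Scheme.Opens.ι_preimage_self, Scheme.Hom.preimage_top]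
  have htop : u₀ a' ⁻¹ᵁ U = ⊤ := by
    rw [← h.preimage_eq φ U, eq_top_iff, ← hpre]
    exact (StMod.bmap 𝒵 φ).preimage_mono e
  have eW : u₀ a' ⁻¹ᵁ U ≤ StMod.bmap 𝒵 φ ⁻¹ᵁ W := hpre.symm ▸ le_top
  have ha' : IsAffineOpen (u₀ a' ⁻¹ᵁ U) := htop.symm ▸ isAffineOpen_top _
  letI : Algebra Γ(T, U) Γ(StMod.sch 𝒵 a, W) := ((u₀ a).appLE U W e).hom.toAlgebra
  obtain ⟨Φ, hΦ⟩ := ModDesc.exists_bijective_liftBaseChange (u₀ a) 𝒜.G (hH := 𝒜.isQCoh) hU hW e
  letI : Algebra Γ(T, U) Γ(StMod.sch 𝒵 a', u₀ a' ⁻¹ᵁ U) := ((u₀ a').app U).hom.toAlgebra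
  obtain ⟨Φ', hΦ'⟩ := 𝒜.exists_bc hU a' ha'
  let ρ := ((StMod.bmap 𝒵 φ).appLE W (u₀ a' ⁻¹ᵁ U) eW)
  have hρ : Function.Bijective ρ.hom := by
    haveI : IsIso ρ := by
      have key : ∀ {g : StMod.sch 𝒵 a' ⟶ StMod.sch 𝒵 a} (_ : g = eqToHom ea ≫ W.ι)
          (D : (StMod.sch 𝒵 a').Opens) (_ : D = ⊤) (e' : D ≤ g ⁻¹ᵁ W), IsIso (g.appLE W D e') := by
        rintro g rfl D rfl e'
        rw [← Scheme.Hom.appLE_comp_appLE (eqToHom ea) W.ι W ⊤ ⊤ (by rw [Scheme.Opens.ι_preimage_self]) le_top]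
        have h1 : (eqToHom ea).appLE ⊤ ⊤ le_top = (eqToHom ea).appTop := (Scheme.Hom.appLE_eq_app (f := eqToHom ea) :)
        rw [h1, Scheme.Opens.ι_appLE]
        refine @IsIso.comp_isIso _ _ _ _ _ _ _ ?_ inferInstance
        refine isIso_map_of_eq _ ?_
        simp
      exact key hφ _ htop _
    exact ConcreteCategory.bijective_of_isIso ρ
  have halg : ∀ r : Γ(T, U), ρ.hom (algebraMap Γ(T, U) Γ(StMod.sch 𝒵 a, W) r) =
      algebraMap Γ(T, U) Γ(StMod.sch 𝒵 a', u₀ a' ⁻¹ᵁ U) r := fun r => by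
    show ((u₀ a).appLE U W e ≫ (StMod.bmap 𝒵 φ).appLE W (u₀ a' ⁻¹ᵁ U) eW).hom r = _
    rw [Scheme.Hom.appLE_comp_appLE]
    simp only [h.nat φ, ← Scheme.Hom.app_eq_appLE]
    rfl
  let σ : Γ(StMod.sch 𝒵 a, W) ≃ₐ[Γ(T, U)] Γ(StMod.sch 𝒵 a', u₀ a' ⁻¹ᵁ U) :=
    AlgEquiv.ofRingEquiv (f := RingEquiv.ofBijective ρ.hom hρ) halg
  have htr : Function.Bijective (tr F.obj φ W (u₀ a' ⁻¹ᵁ U) eW) := by
    letI : Algebra Γ(StMod.sch 𝒵 a, W) Γ(StMod.sch 𝒵 a', u₀ a' ⁻¹ᵁ U) := ρ.hom.toAlgebra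
    obtain ⟨Φt, hΦt⟩ := exists_bijective_tr F φ hW ha' eW
    have : (tr F.obj φ W (u₀ a' ⁻¹ᵁ U) eW : _ → _) = Φt ∘ fun s => (1 : Γ(StMod.sch 𝒵 a', u₀ a' ⁻¹ᵁ U)) ⊗ₜ s :=
      funext fun s => (hΦt s).symm
    rw [this]
    exact Φt.bijective.comp (bijective_tmul_one hρ _)
  let e₁ := (LinearEquiv.rTensor Γ(𝒜.G, U) σ.toLinearEquiv)
  have key : ∀ z, tr F.obj φ W (u₀ a' ⁻¹ᵁ U) eW ((𝒜.adjC a).app W (Φ z)) = Φ' (e₁ z) := by
    intro z
    induction z using TensorProduct.induction_on with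
    | zero => simp
    | add x y hx hy => simp only [map_add, hx, hy]
    | tmul r s =>
      have h1 : r ⊗ₜ[Γ(T, U)] s = r • ((1 : Γ(StMod.sch 𝒵 a, W)) ⊗ₜ s) := by
        rw [TensorProduct.smul_tmul', smul_eq_mul, mul_one]
      rw [LinearEquiv.rTensor_tmul, hΦ', h1, map_smul, hΦ, Scheme.Modules.Hom.app_smul, adjC_app, tr_smul, tr_res,
        (𝒜.fam U s).2]
      rfl
  have : Function.Bijective ((tr F.obj φ W (u₀ a' ⁻¹ᵁ U) eW) ∘ ((𝒜.adjC a).app W) ∘ Φ) := by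
    rw [show (tr F.obj φ W (u₀ a' ⁻¹ᵁ U) eW) ∘ ((𝒜.adjC a).app W) ∘ Φ = Φ' ∘ e₁ from funext key]
    exact Φ'.bijective.comp e₁.bijective
  exact (Function.Bijective.of_comp_iff _ Φ.bijective).1 ((Function.Bijective.of_comp_iff' htr _).1 this)

theorem isIso_adjC_of_flat (a : 𝒵.obj) [Flat (u₀ a)] : IsIso (𝒜.adjC a) := by
  refine isIso_of_bijective_basis _
    {W | IsAffineOpen W ∧ ∃ U : T.Opens, IsAffineOpen U ∧ W ≤ u₀ a ⁻¹ᵁ U} (fun {V} x hx => ?_)
    fun W ⟨hW, U, hU, hWU⟩ => 𝒜.adjC_bijective hU a hW hWU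
  obtain ⟨U, hU, hxU, -⟩ := exists_isAffineOpen_mem_and_subset (X := T) (x := (u₀ a).base x) (U := ⊤) trivial
  obtain ⟨W, hW, hxW, hWV⟩ := exists_isAffineOpen_mem_and_subset (X := StMod.sch 𝒵 a) (x := x)
    (U := V ⊓ u₀ a ⁻¹ᵁ U) ⟨hx, hxU⟩
  exact ⟨W, ⟨hW, U, hU, hWV.trans inf_le_right⟩, hxW, hWV.trans inf_le_left⟩

/-- The descended module pulls back to the given one. -/
theorem isIso_adjC (x : 𝒵.obj) : IsIso (𝒜.adjC x) := by
  obtain ⟨κ, m, z, a, b, hab⟩ := h.exists_pieces_over (𝒜.covers ⊤) x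
  have key : IsIso ((Scheme.Modules.pullback (𝟙 (StMod.sch 𝒵 x))).map (𝒜.adjC x)) := by
    refine FlatFunLib.isIso_of_cover _ _ fun y => ?_
    obtain ⟨k, hk⟩ := hab.surj y trivial
    haveI := (𝒜.fppf (m k)).1
    haveI : IsIso (𝒜.adjC (𝒜.x (m k))) := 𝒜.isIso_adjC_of_flat _
    have hz : IsIso (𝒜.adjC (z k)) := (𝒜.isIso_adjC_iff (b k)).2 inferInstance
    refine ⟨_, StMod.bmap 𝒵 (a k), (hab.fppf k).1, ?_, hk⟩
    rw [Category.comp_id]
    exact (𝒜.isIso_adjC_iff (a k)).1 hz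
  exact (NatIso.isIso_map_iff (Scheme.Modules.pullbackId (StMod.sch 𝒵 x)) _).1 key

end Atlas

end Groth.Agent.QDescent
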