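import Mathlib
import Groth.Agent.QDescent.Cat
import Groth.Agent.QDescent.Adjoint

/-!
# Untwisted quasi-coherent modules on a gerbe descend to the base
-/

universe u

open CategoryTheory CategoryTheory.Limits AlgebraicGeometry TopologicalSpace Opposite

set_option autoImplicit false
set_option backward.isDefEq.respectTransparency false
set_option backward.isDefEq.respectTransparency.types false
set_option linter.style.haveILetI false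

noncomputable section

namespace Groth.Agent.QDescent

open Groth.Agent.QC

theorem cancel_pt {X T : Scheme.{u}} (h : X = T) (h' : T = X) (x : X) :
    (eqToHom h').base ((eqToHom h).base x) = x := by
  subst h; simp

/-- A map into a pushforward along an equality, read as a map of transported modules. -/
def uncast {X T : Scheme.{u}} (h : X = T) {r : T ⟶ X} (hr : r = eqToHom h.symm) {M : X.Modules} {N : T.Modules}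
    (m : M ⟶ (Scheme.Modules.pushforward r).obj N) : StMod.castMod h M ⟶ N := by
  subst h
  exact m ≫ (Scheme.Modules.pushforwardCongr (show r = 𝟙 _ from hr)).hom.app N ≫
    (Scheme.Modules.pushforwardId _).hom.app N

theorem isIso_uncast {X T : Scheme.{u}} (h : X = T) {r : T ⟶ X} (hr : r = eqToHom h.symm) {M : X.Modules}
    {N : T.Modules} (m : M ⟶ (Scheme.Modules.pushforward r).obj N) (hm : IsIso m) : IsIso (uncast h hr m) := by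
  subst h
  unfold uncast
  haveI := hm
  infer_instance

theorem castMap_uncast {X X' T T' : Scheme.{u}} (hX : X = T) (hX' : X' = T') {g₁ : X' ⟶ X} {g : T' ⟶ T}
    (hg : g₁ ≫ eqToHom hX = eqToHom hX' ≫ g) {r : T ⟶ X} (hr : r = eqToHom hX.symm) {r' : T' ⟶ X'}
    (hr' : r' = eqToHom hX'.symm) {M : X.Modules} {M' : X'.Modules} {N : T.Modules} {N' : T'.Modules}
    (a : M ⟶ (Scheme.Modules.pushforward g₁).obj M') (b : N ⟶ (Scheme.Modules.pushforward g).obj N')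
    (m : M ⟶ (Scheme.Modules.pushforward r).obj N) (m' : M' ⟶ (Scheme.Modules.pushforward r').obj N')
    (h : ∀ (V : X.Opens) (s : Γ(M, V)) (W : T'.Opens) (e : W ≤ r' ⁻¹ᵁ (g₁ ⁻¹ᵁ V)) (e' : W ≤ g ⁻¹ᵁ (r ⁻¹ᵁ V)),
      res N' e (m'.app (g₁ ⁻¹ᵁ V) (a.app V s)) = res N' e' (b.app (r ⁻¹ᵁ V) (m.app V s))) :
    StMod.castMap hX hX' hg a ≫ (Scheme.Modules.pushforward g).map (uncast hX' hr' m') = uncast hX hr m ≫ b := by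
  subst hX hX'
  obtain rfl : r = 𝟙 X := hr
  obtain rfl : r' = 𝟙 X' := hr'
  obtain rfl : g₁ = g := by simpa using hg
  rw [StMod.castMap_rfl_self]
  refine Scheme.Modules.hom_ext _ _ fun V => ?_
  ext s
  have h0 := h V s (g₁ ⁻¹ᵁ V) le_rfl le_rfl
  have h1 : m'.app (g₁ ⁻¹ᵁ V) (a.app V s) = b.app V (m.app V s) :=
    ((res_self N' _ _).symm.trans h0).trans (res_self N' _ _)
  simp only [uncast, StMod.pushforwardCongr_hom_app_self]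
  exact h1

variable {S : Scheme.{u}} {𝒳 𝒴 : AlgSt.Cat S}

theorem tr_eq_map {𝒵 : AlgSt.Cat S} (F : StMod.Mod 𝒵) {z' z : 𝒵.obj} (φ : z' ⟶ z)
    {g : StMod.sch 𝒵 z' ⟶ StMod.sch 𝒵 z} (hg : StMod.bmap 𝒵 φ = g) (U : (StMod.sch 𝒵 z).Opens)
    (e : g ⁻¹ᵁ U ≤ StMod.bmap 𝒵 φ ⁻¹ᵁ U) (s : Γ(F.obj z, U)) :
    tr F φ U (g ⁻¹ᵁ U) e s = (F.map φ hg).app U s := by
  subst hg
  exact res_self _ _ _

theorem isFibGrpd_fibCat (h𝒳 : FibCat.IsFibGrpd 𝒳.p) (π : 𝒳 ⥤ᵇ 𝒴) (η : 𝒴.obj) :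
    FibCat.IsFibGrpd (StMod.fibCat π η).p := by
  refine FibCatRep.isFibGrpd_mk (fun {x V} f => ?_) fun {z y x} φ ψ g h => ?_
  · obtain ⟨ξ, φ, hV, hφ⟩ := FibCatRep.exists_lift h𝒳 (x := x.left) f
    exact ⟨CostructuredArrow.mk (π.map φ ≫ x.hom), CostructuredArrow.homMk φ rfl, hV, hφ⟩
  · obtain ⟨χ, ⟨hχ, hc⟩, hu⟩ := FibCatRep.existsUnique_cart h𝒳 φ.left ψ.left g h
    refine ⟨CostructuredArrow.homMk χ ?_, ⟨hχ, CostructuredArrow.hom_ext _ _ hc⟩, fun χ' hχ' => ?_⟩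
    · show π.map χ ≫ y.hom = z.hom
      rw [← CostructuredArrow.w φ, ← Category.assoc, ← π.toFunctor.map_comp, hc, CostructuredArrow.w ψ]
    · exact CostructuredArrow.hom_ext _ _ (hu χ'.left ⟨hχ'.1, congrArg CommaMorphism.left hχ'.2⟩)

variable (π : 𝒳 ⥤ᵇ 𝒴)

/-- The morphism from the scheme under an object over `y` to the scheme under `y`. -/
def uFib (y : 𝒴.obj) (x : (StMod.fibCat π y).obj) : StMod.sch (StMod.fibCat π y) x ⟶ StMod.sch 𝒴 y :=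
  (StMod.baseOver π x.left x.hom).left

theorem uFib_eq (y : 𝒴.obj) (x : (StMod.fibCat π y).obj) :
    uFib π y x = eqToHom (StMod.sch_obj_eq π x.left).symm ≫ StMod.bmap 𝒴 x.hom :=
  baseOver_left π x.left x.hom

/-- The restriction of a module over an object of the base. -/
abbrev onFib (F : StMod.QCoh 𝒳) (y : 𝒴.obj) : StMod.QCoh (StMod.fibCat π y) :=
  (StMod.comapQ (StMod.fibFst π y)).obj F

theorem tr_onFib (F : StMod.QCoh 𝒳) (y : 𝒴.obj) {x' x : (StMod.fibCat π y).obj} (φ : x' ⟶ x)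
    (U : (StMod.sch 𝒳 x.left).Opens) (V : (StMod.sch 𝒳 x'.left).Opens) (e : V ≤ StMod.bmap 𝒳 φ.left ⁻¹ᵁ U)
    (s : Γ(F.obj.obj x.left, U)) : tr (onFib π F y).obj φ U V e s = tr F.obj φ.left U V e s :=
  congrArg (res (F.obj.obj x'.left) e) congr($(TwSh.comap_fibFst_map π y F.obj φ (g := StMod.bmap 𝒳 φ.left) rfl).app U s)

theorem uFib_comp {y' y : 𝒴.obj} (ψ : y' ⟶ y) (x : (StMod.fibCat π y').obj) :
    uFib π y' x ≫ StMod.bmap 𝒴 ψ = uFib π y (CostructuredArrow.mk (x.hom ≫ ψ)) := by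
  rw [uFib_eq, uFib_eq, Category.assoc, ← StMod.bmap_comp]
  rfl

theorem le_pull {y' y : 𝒴.obj} (ψ : y' ⟶ y) (V : (StMod.sch 𝒴 y).Opens) (x : (StMod.fibCat π y').obj) :
    uFib π y' x ⁻¹ᵁ (StMod.bmap 𝒴 ψ ⁻¹ᵁ V) ≤ uFib π y (CostructuredArrow.mk (x.hom ≫ ψ)) ⁻¹ᵁ V := by
  rw [← uFib_comp π ψ x, Scheme.Hom.comp_preimage]

theorem uFib_id (ξ : 𝒳.obj) :
    uFib π (π.obj ξ) (CostructuredArrow.mk (𝟙 (π.obj ξ))) = eqToHom (StMod.sch_obj_eq π ξ).symm := by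
  rw [uFib_eq]
  show _ ≫ StMod.bmap 𝒴 (𝟙 (π.obj ξ)) = _
  rw [StMod.bmap_id, Category.comp_id]

variable {A : (Over S)ᵒᵖ ⥤ GrpCat.{u}} {χ : A ⟶ TwSh.GmPsh S} {ι : TwSh.BandHom 𝒳 A}

theorem exists_autO (h𝒳 : FibCat.IsFibGrpd 𝒳.p) {ξ : 𝒳.obj} (c : ξ ⟶ ξ) (hc : StMod.bmap 𝒳 c = 𝟙 _) :
    ∃ β : Gerb.AutO ξ, β.hom.1 = c := by
  have hlift : ∀ {d : ξ ⟶ ξ}, StMod.bmap 𝒳 d = 𝟙 _ → 𝒳.p.IsHomLift (𝟙 (𝒳.p.obj ξ)) d := fun {d} hd =>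
    IsHomLift.of_fac' _ _ _ rfl rfl (by
      rw [eqToHom_refl]
      simp only [Category.comp_id]
      exact Over.OverMorphism.ext hd)
  obtain ⟨d, hd, hdc⟩ := exists_factor h𝒳 c (𝟙 ξ) (𝟙 _) (by rw [Category.id_comp, hc, StMod.bmap_id])
  have hcd : c ≫ d = 𝟙 ξ := eq_of_bmap h𝒳 c (by rw [StMod.bmap_comp, hc, hd, StMod.bmap_id]; simp)
    (by rw [Category.assoc, hdc, Category.comp_id, Category.id_comp])
  exact ⟨⟨⟨c, hlift hc⟩, ⟨d, hlift hd⟩, Functor.Fiber.hom_ext hcd, Functor.Fiber.hom_ext hdc⟩, rfl⟩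

variable (h𝒳 : FibCat.IsFibGrpd 𝒳.p) (h𝒴 : FibCat.IsFibGrpd 𝒴.p)
  (hπ : TwSh.IsBandedGerbe (QuotSh.J Scheme.fppfPrecoverage S) π ι)
  {F : StMod.QCoh 𝒳} (hF : TwSh.IsTwisted F.obj ι χ 0)

include h𝒳 h𝒴 hπ hF

theorem tr_thin {ξ' ξ : 𝒳.obj} {y : 𝒴.obj} (α' : π.obj ξ' ⟶ y) (α : π.obj ξ ⟶ y) (a a' : ξ' ⟶ ξ)
    (ha : π.map a ≫ α = α') (ha' : π.map a' ≫ α = α') (hb : StMod.bmap 𝒳 a = StMod.bmap 𝒳 a')
    (U : (StMod.sch 𝒳 ξ).Opens) (V : (StMod.sch 𝒳 ξ').Opens) (e : V ≤ StMod.bmap 𝒳 a ⁻¹ᵁ U)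
    (e' : V ≤ StMod.bmap 𝒳 a' ⁻¹ᵁ U) (s : Γ(F.obj.obj ξ, U)) : tr F.obj a U V e s = tr F.obj a' U V e' s := by
  obtain ⟨c, hc, hca⟩ := exists_factor h𝒳 a a' (𝟙 _) (by rw [Category.id_comp, hb])
  have hπc : π.map c = 𝟙 _ := by
    refine eq_of_bmap h𝒴 α' (by rw [bmap_map, hc, StMod.bmap_id]; simp) ?_
    rw [Category.id_comp, ← ha, ← Category.assoc, ← π.toFunctor.map_comp, hca, ha', ha]
  obtain ⟨β, hβ⟩ := exists_autO h𝒳 c hc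
  have hker : β ∈ (Gerb.autMap π ξ').ker := by
    rw [MonoidHom.mem_ker]
    exact Aut.ext (Functor.Fiber.hom_ext (by show π.map β.hom.1 = 𝟙 _; rw [hβ, hπc]))
  rw [← (hπ.2 ξ').2] at hker
  obtain ⟨g, hg⟩ := hker
  have eV : V ≤ StMod.bmap 𝒳 c ⁻¹ᵁ V := by rw [hc]; exact le_rfl
  have hid : ∀ t : Γ(F.obj.obj ξ', V), tr F.obj c V V eV t = t := fun t => by
    have key : tr F.obj c V V eV t = (TwSh.inert F.obj ξ' β).app V t := by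
      rw [TwSh.inert_app_apply, tr_congr F.obj hβ.symm V V eV (by rw [hβ]; exact eV)]
      exact tr_eq_map F.obj β.hom.1 (TwSh.bmap_autO ξ' β) V _ t
    rw [key, ← hg, hF ξ' g V t, zpow_zero, inv_one, Units.val_one, map_one, one_smul]
  rw [← tr_congr F.obj hca U V (le_preimage_comp c a e eV) e', ← tr_tr F.obj c a U V V e eV, hid]

theorem isSys (y : 𝒴.obj) : IsSys (uFib π y) (onFib π F y) where
  grpd := isFibGrpd_fibCat h𝒳 π y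
  nat {x' x} φ := by
    have h := StMod.bmap_comp_baseOver_left π φ.left x.hom
    rw [CostructuredArrow.w φ] at h
    exact h
  thin {x' x} φ φ' hb U V e e' s := by
    rw [tr_onFib π F y φ U V e, tr_onFib π F y φ' U V e']
    exact tr_thin π h𝒳 h𝒴 hπ hF x'.hom x.hom φ.left φ'.left (CostructuredArrow.w φ) (CostructuredArrow.w φ') hb U V e e' s
  conn x x' Z g g' hgg p := by
    obtain ⟨ξ₁, e₁, φ₁, hφ₁⟩ := exists_lift_scheme h𝒳 (x := x.left) g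
    obtain ⟨ξ₂, e₂, φ₂, hφ₂⟩ := exists_lift_scheme h𝒳 (x := x'.left) g'
    obtain ⟨b, hb, hb'⟩ := exists_factor h𝒴 (π.map φ₂ ≫ x'.hom) (π.map φ₁ ≫ x.hom)
      (eqToHom ((StMod.sch_obj_eq π ξ₁).trans (e₁.trans (e₂.symm.trans (StMod.sch_obj_eq π ξ₂).symm)))) (by
        rw [StMod.bmap_comp, StMod.bmap_comp, bmap_map, bmap_map, hφ₁, hφ₂]
        rw [uFib_eq, uFib_eq] at hgg
        simp only [Category.assoc, eqToHom_trans_assoc]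
        exact congrArg (_ ≫ ·) hgg.symm)
    obtain ⟨ξ₀, r, q, hr₁, hr₂, ⟨v, hv⟩, hrq⟩ :=
      exists_locHom h𝒳 h𝒴 π hπ.1.2 b ((eqToHom e₁.symm : Z ⟶ StMod.sch 𝒳 ξ₁).base p)
    have hq : StMod.bmap 𝒳 q = StMod.bmap 𝒳 r ≫ eqToHom (e₁.trans e₂.symm) := by
      have h1 := congrArg (StMod.bmap 𝒴) hrq
      rw [StMod.bmap_comp, bmap_map, bmap_map, hb] at h1
      simpa using (congrArg (fun k => eqToHom (StMod.sch_obj_eq π ξ₀).symm ≫ k ≫ eqToHom (StMod.sch_obj_eq π ξ₂)) h1).symm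
    refine ⟨CostructuredArrow.mk (π.map r ≫ π.map φ₁ ≫ x.hom), StMod.bmap 𝒳 r ≫ eqToHom e₁,
      CostructuredArrow.homMk (r ≫ φ₁) (by simp), CostructuredArrow.homMk (q ≫ φ₂) (by
        show π.map (q ≫ φ₂) ≫ x'.hom = π.map r ≫ π.map φ₁ ≫ x.hom
        rw [π.toFunctor.map_comp, ← hrq, ← hb']; simp), ?_, ?_, ⟨v, ?_⟩, ?_, ?_⟩
    · haveI := hr₁; infer_instance
    · haveI := hr₂; infer_instance
    · exact (Scheme.Hom.comp_apply _ _ _).trans ((congrArg (eqToHom e₁).base hv).trans (cancel_pt _ _ _))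
    · show StMod.bmap 𝒳 (r ≫ φ₁) = _
      rw [StMod.bmap_comp, hφ₁, Category.assoc]
    · show StMod.bmap 𝒳 (q ≫ φ₂) = _
      rw [StMod.bmap_comp, hq, hφ₂]
      simp
  cov t := by
    obtain ⟨ξ, α, h₁, h₂, v, hv⟩ := exists_locObj π hπ.1.1 y t
    refine ⟨CostructuredArrow.mk α, ?_, ?_, (eqToHom (StMod.sch_obj_eq π ξ)).base v, ?_⟩
    · rw [uFib_eq]; haveI := h₁; exact inferInstanceAs (Flat (_ ≫ StMod.bmap 𝒴 α))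
    · rw [uFib_eq]; haveI := h₂; exact inferInstanceAs (LocallyOfFinitePresentation (_ ≫ StMod.bmap 𝒴 α))
    · rw [uFib_eq]
      exact (Scheme.Hom.comp_apply _ _ _).trans ((congrArg (StMod.bmap 𝒴 α).base (cancel_pt _ _ _)).trans hv)

/-- The chosen atlas over an object of the base. -/
def atlas (y : 𝒴.obj) : Atlas (isSys π h𝒳 h𝒴 hπ hF y) := (exists_atlas (isSys π h𝒳 h𝒴 hπ hF y)).some

/-- The value of the compatible family of a section at an object. -/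
def famAt (y : 𝒴.obj) (V : (StMod.sch 𝒴 y).Opens) (s : Γ((atlas π h𝒳 h𝒴 hπ hF y).G, V)) (ξ : 𝒳.obj)
    (α : π.obj ξ ⟶ y) : Γ(F.obj.obj ξ, uFib π y (CostructuredArrow.mk α) ⁻¹ᵁ V) :=
  ((atlas π h𝒳 h𝒴 hπ hF y).fam V s).1 (CostructuredArrow.mk α)

theorem famAt_congr (y : 𝒴.obj) (V : (StMod.sch 𝒴 y).Opens) (s : Γ((atlas π h𝒳 h𝒴 hπ hF y).G, V)) (ξ : 𝒳.obj)
    {α α' : π.obj ξ ⟶ y} (hα : α = α') (W : (StMod.sch 𝒳 ξ).Opens) (e : W ≤ uFib π y (CostructuredArrow.mk α) ⁻¹ᵁ V)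
    (e' : W ≤ uFib π y (CostructuredArrow.mk α') ⁻¹ᵁ V) :
    res (F.obj.obj ξ) e (famAt π h𝒳 h𝒴 hπ hF y V s ξ α) = res (F.obj.obj ξ) e' (famAt π h𝒳 h𝒴 hπ hF y V s ξ α') := by
  subst hα; rfl

theorem tr_famAt (y : 𝒴.obj) (V : (StMod.sch 𝒴 y).Opens) (s : Γ((atlas π h𝒳 h𝒴 hπ hF y).G, V)) {ξ' ξ : 𝒳.obj}
    (φ : ξ' ⟶ ξ) (α' : π.obj ξ' ⟶ y) (α : π.obj ξ ⟶ y) (hφ : π.map φ ≫ α = α')
    (W : (StMod.sch 𝒳 ξ').Opens) (e : W ≤ StMod.bmap 𝒳 φ ⁻¹ᵁ (uFib π y (CostructuredArrow.mk α) ⁻¹ᵁ V))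
    (e' : W ≤ uFib π y (CostructuredArrow.mk α') ⁻¹ᵁ V) :
    tr F.obj φ _ W e (famAt π h𝒳 h𝒴 hπ hF y V s ξ α) = res (F.obj.obj ξ') e' (famAt π h𝒳 h𝒴 hπ hF y V s ξ' α') := by
  let h := isSys π h𝒳 h𝒴 hπ hF y
  let f : CostructuredArrow.mk α' ⟶ CostructuredArrow.mk α := CostructuredArrow.homMk φ hφ
  show _ = res (F.obj.obj ξ') e' (((atlas π h𝒳 h𝒴 hπ hF y).fam V s).1 (CostructuredArrow.mk α'))
  rw [← ((atlas π h𝒳 h𝒴 hπ hF y).fam V s).2 f (h.le_preimage f V),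
    tr_onFib π F y f _ (uFib π y (CostructuredArrow.mk α') ⁻¹ᵁ V) (h.le_preimage f V)]
  exact (res_tr F.obj φ _ e' (h.le_preimage f V) _).symm

/-- The family over `y'` of a section over `y`. -/
def pullFam {y' y : 𝒴.obj} (ψ : y' ⟶ y) (V : (StMod.sch 𝒴 y).Opens) (s : Γ((atlas π h𝒳 h𝒴 hπ hF y).G, V)) :
    Fam (uFib π y') (onFib π F y') (StMod.bmap 𝒴 ψ ⁻¹ᵁ V) :=
  ⟨fun x => res (F.obj.obj x.left) (le_pull π ψ V x) (famAt π h𝒳 h𝒴 hπ hF y V s x.left (x.hom ≫ ψ)),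
    fun {x' x} φ e => by
      rw [tr_onFib π F y' φ _ _ e, tr_res]
      exact tr_famAt π h𝒳 h𝒴 hπ hF y V s φ.left (x'.hom ≫ ψ) (x.hom ≫ ψ)
        (by rw [← Category.assoc, CostructuredArrow.w φ]) _ _ _⟩

theorem exists_pull {y' y : 𝒴.obj} (ψ : y' ⟶ y) (V : (StMod.sch 𝒴 y).Opens)
    (s : Γ((atlas π h𝒳 h𝒴 hπ hF y).G, V)) :
    ∃ t : Γ((atlas π h𝒳 h𝒴 hπ hF y').G, StMod.bmap 𝒴 ψ ⁻¹ᵁ V),
      ∀ (ξ : 𝒳.obj) (β : π.obj ξ ⟶ y') (W : (StMod.sch 𝒳 ξ).Opens)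
        (e : W ≤ uFib π y' (CostructuredArrow.mk β) ⁻¹ᵁ (StMod.bmap 𝒴 ψ ⁻¹ᵁ V))
        (e' : W ≤ uFib π y (CostructuredArrow.mk (β ≫ ψ)) ⁻¹ᵁ V),
        res (F.obj.obj ξ) e (famAt π h𝒳 h𝒴 hπ hF y' _ t ξ β) =
          res (F.obj.obj ξ) e' (famAt π h𝒳 h𝒴 hπ hF y V s ξ (β ≫ ψ)) := by
  obtain ⟨t, ht⟩ := ((atlas π h𝒳 h𝒴 hπ hF y').fam_bijective _).2 (pullFam π h𝒳 h𝒴 hπ hF ψ V s)
  refine ⟨t, fun ξ β W e e' => ?_⟩
  have := congrFun (congrArg Subtype.val ht) (CostructuredArrow.mk β)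
  show res (F.obj.obj ξ) e (((atlas π h𝒳 h𝒴 hπ hF y').fam _ t).1 (CostructuredArrow.mk β)) = _
  rw [this]
  exact res_res (F.obj.obj ξ) e _ _

/-- Sections are determined by their families. -/
theorem famAt_ext (y : 𝒴.obj) (V : (StMod.sch 𝒴 y).Opens) {t t' : Γ((atlas π h𝒳 h𝒴 hπ hF y).G, V)}
    (h : ∀ (ξ : 𝒳.obj) (β : π.obj ξ ⟶ y), famAt π h𝒳 h𝒴 hπ hF y V t ξ β = famAt π h𝒳 h𝒴 hπ hF y V t' ξ β) : t = t' :=
  ((atlas π h𝒳 h𝒴 hπ hF y).fam_bijective V).1 (Subtype.ext (funext fun x => h x.left x.hom))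

theorem famAt_res (y : 𝒴.obj) {V' V : (StMod.sch 𝒴 y).Opens} (hV : V' ≤ V)
    (s : Γ((atlas π h𝒳 h𝒴 hπ hF y).G, V)) (ξ : 𝒳.obj) (α : π.obj ξ ⟶ y) :
    famAt π h𝒳 h𝒴 hπ hF y V' (res _ hV s) ξ α =
      res (F.obj.obj ξ) ((uFib π y (CostructuredArrow.mk α)).preimage_mono hV) (famAt π h𝒳 h𝒴 hπ hF y V s ξ α) :=
  (atlas π h𝒳 h𝒴 hπ hF y).fam_res hV s _

theorem famAt_add (y : 𝒴.obj) (V : (StMod.sch 𝒴 y).Opens) (s s' : Γ((atlas π h𝒳 h𝒴 hπ hF y).G, V)) (ξ : 𝒳.obj)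
    (α : π.obj ξ ⟶ y) : famAt π h𝒳 h𝒴 hπ hF y V (s + s') ξ α =
      famAt π h𝒳 h𝒴 hπ hF y V s ξ α + famAt π h𝒳 h𝒴 hπ hF y V s' ξ α :=
  (atlas π h𝒳 h𝒴 hπ hF y).fam_add V s s' _

theorem famAt_smul (y : 𝒴.obj) (V : (StMod.sch 𝒴 y).Opens) (r : Γ(StMod.sch 𝒴 y, V))
    (s : Γ((atlas π h𝒳 h𝒴 hπ hF y).G, V)) (ξ : 𝒳.obj) (α : π.obj ξ ⟶ y) (W : (StMod.sch 𝒳 ξ).Opens)
    (e : W ≤ uFib π y (CostructuredArrow.mk α) ⁻¹ᵁ V) :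
    res (F.obj.obj ξ) e (famAt π h𝒳 h𝒴 hπ hF y V (r • s) ξ α) =
      ((uFib π y (CostructuredArrow.mk α)).appLE V W e).hom r •
        res (F.obj.obj ξ) e (famAt π h𝒳 h𝒴 hπ hF y V s ξ α) :=
  (congrArg (res (F.obj.obj ξ) e) ((atlas π h𝒳 h𝒴 hπ hF y).fam_smul V r s _)).trans (res_smul (F.obj.obj ξ) e _ _)

theorem exists_pull_app {y' y : 𝒴.obj} (ψ : y' ⟶ y) (V : (StMod.sch 𝒴 y).Opens)
    (s : Γ((atlas π h𝒳 h𝒴 hπ hF y).G, V)) {t : Γ((atlas π h𝒳 h𝒴 hπ hF y').G, StMod.bmap 𝒴 ψ ⁻¹ᵁ V)}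
    (ht : ∀ (ξ : 𝒳.obj) (β : π.obj ξ ⟶ y') (W : (StMod.sch 𝒳 ξ).Opens)
        (e : W ≤ uFib π y' (CostructuredArrow.mk β) ⁻¹ᵁ (StMod.bmap 𝒴 ψ ⁻¹ᵁ V))
        (e' : W ≤ uFib π y (CostructuredArrow.mk (β ≫ ψ)) ⁻¹ᵁ V),
        res (F.obj.obj ξ) e (famAt π h𝒳 h𝒴 hπ hF y' _ t ξ β) =
          res (F.obj.obj ξ) e' (famAt π h𝒳 h𝒴 hπ hF y V s ξ (β ≫ ψ))) :
    (exists_pull π h𝒳 h𝒴 hπ hF ψ V s).choose = t := famAt_ext π h𝒳 h𝒴 hπ hF y' _ fun ξ β => by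
  rw [← res_self _ le_rfl (famAt π h𝒳 h𝒴 hπ hF y' _ _ ξ β),
    (exists_pull π h𝒳 h𝒴 hπ hF ψ V s).choose_spec ξ β _ _ (le_pull π ψ V _), ← ht ξ β _ le_rfl, res_self]

/-- The comparison map of the descended module. -/
def gMap {y' y : 𝒴.obj} (ψ : y' ⟶ y) :
    (atlas π h𝒳 h𝒴 hπ hF y).G ⟶
      (Scheme.Modules.pushforward (StMod.bmap 𝒴 ψ)).obj (atlas π h𝒳 h𝒴 hπ hF y').G :=
  mkHom (fun V => AddMonoidHom.mk' (fun s => (exists_pull π h𝒳 h𝒴 hπ hF ψ V s).choose) fun s s' =>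
      exists_pull_app π h𝒳 h𝒴 hπ hF ψ V (s + s') fun ξ β W e e' => by
        rw [famAt_add, famAt_add, map_add, map_add]
        exact congrArg₂ (· + ·) ((exists_pull π h𝒳 h𝒴 hπ hF ψ V s).choose_spec ξ β W e e')
          ((exists_pull π h𝒳 h𝒴 hπ hF ψ V s').choose_spec ξ β W e e'))
    (fun {V' V} hV s => exists_pull_app π h𝒳 h𝒴 hπ hF ψ V' _ fun ξ β W e e' => by
      show res (F.obj.obj ξ) e (famAt π h𝒳 h𝒴 hπ hF y' _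
        (res (atlas π h𝒳 h𝒴 hπ hF y').G ((StMod.bmap 𝒴 ψ).preimage_mono hV)
          (exists_pull π h𝒳 h𝒴 hπ hF ψ V s).choose) ξ β) = _
      rw [famAt_res, famAt_res, res_res, res_res]
      exact (exists_pull π h𝒳 h𝒴 hπ hF ψ V s).choose_spec ξ β W _ _)
    (fun V r s => exists_pull_app π h𝒳 h𝒴 hπ hF ψ V (r • s) fun ξ β W e e' => by
      show res (F.obj.obj ξ) e (famAt π h𝒳 h𝒴 hπ hF y' _ ((StMod.bmap 𝒴 ψ).app V r • _) ξ β) = _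
      rw [famAt_smul, famAt_smul]
      refine congrArg₂ (· • ·) ?_ ((exists_pull π h𝒳 h𝒴 hπ hF ψ V s).choose_spec ξ β W e e')
      have hu : ∀ {k : StMod.sch 𝒳 ξ ⟶ StMod.sch 𝒴 y} (_ : uFib π y' (CostructuredArrow.mk β) ≫ StMod.bmap 𝒴 ψ = k)
          (ek : W ≤ k ⁻¹ᵁ V),
          ((uFib π y' (CostructuredArrow.mk β)).appLE _ W e).hom ((StMod.bmap 𝒴 ψ).app V r) = (k.appLE V W ek).hom r := by
        rintro k rfl ek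
        rw [Scheme.Hom.comp_appLE]
        rfl
      exact hu (uFib_comp π ψ (CostructuredArrow.mk β)) e')

theorem famAt_gMap {y' y : 𝒴.obj} (ψ : y' ⟶ y) (V : (StMod.sch 𝒴 y).Opens)
    (s : Γ((atlas π h𝒳 h𝒴 hπ hF y).G, V)) (ξ : 𝒳.obj) (β : π.obj ξ ⟶ y') (W : (StMod.sch 𝒳 ξ).Opens)
    (e : W ≤ uFib π y' (CostructuredArrow.mk β) ⁻¹ᵁ (StMod.bmap 𝒴 ψ ⁻¹ᵁ V))
    (e' : W ≤ uFib π y (CostructuredArrow.mk (β ≫ ψ)) ⁻¹ᵁ V) :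
    res (F.obj.obj ξ) e (famAt π h𝒳 h𝒴 hπ hF y' _ ((gMap π h𝒳 h𝒴 hπ hF ψ).app V s) ξ β) =
      res (F.obj.obj ξ) e' (famAt π h𝒳 h𝒴 hπ hF y V s ξ (β ≫ ψ)) :=
  (exists_pull π h𝒳 h𝒴 hπ hF ψ V s).choose_spec ξ β W e e'

theorem gMap_congr {y' y : 𝒴.obj} (ψ : y' ⟶ y) {g : StMod.sch 𝒴 y' ⟶ StMod.sch 𝒴 y} (hg : StMod.bmap 𝒴 ψ = g)
    (V : (StMod.sch 𝒴 y).Opens) (s : Γ((atlas π h𝒳 h𝒴 hπ hF y).G, V)) (ξ : 𝒳.obj) (β : π.obj ξ ⟶ y')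
    (W : (StMod.sch 𝒳 ξ).Opens) (e : W ≤ uFib π y' (CostructuredArrow.mk β) ⁻¹ᵁ (g ⁻¹ᵁ V))
    (e' : W ≤ uFib π y (CostructuredArrow.mk (β ≫ ψ)) ⁻¹ᵁ V) :
    res (F.obj.obj ξ) e (famAt π h𝒳 h𝒴 hπ hF y' _
      ((gMap π h𝒳 h𝒴 hπ hF ψ ≫ (Scheme.Modules.pushforwardCongr hg).hom.app _).app V s) ξ β) =
      res (F.obj.obj ξ) e' (famAt π h𝒳 h𝒴 hπ hF y V s ξ (β ≫ ψ)) := by
  subst hg
  rw [StMod.pushforwardCongr_hom_app_self, Category.comp_id]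
  exact famAt_gMap π h𝒳 h𝒴 hπ hF ψ V s ξ β W e e'

/-- The descended module on the base. -/
def descMod : StMod.Mod 𝒴 where
  obj y := (atlas π h𝒳 h𝒴 hπ hF y).G
  map ψ _ hg := gMap π h𝒳 h𝒴 hπ hF ψ ≫ (Scheme.Modules.pushforwardCongr hg).hom.app _
  map_id y := by
    refine Scheme.Modules.hom_ext _ _ fun V => ?_
    ext s
    refine famAt_ext π h𝒳 h𝒴 hπ hF y V fun ξ β => ?_
    rw [← res_self _ le_rfl (famAt π h𝒳 h𝒴 hπ hF y V _ ξ β)]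
    refine (gMap_congr π h𝒳 h𝒴 hπ hF (𝟙 y) (StMod.bmap_id y) V s ξ β (uFib π y (CostructuredArrow.mk β) ⁻¹ᵁ V) _
      (by rw [Category.comp_id])).trans ?_
    exact (famAt_congr π h𝒳 h𝒴 hπ hF y V s ξ (Category.comp_id β) _ _ le_rfl).trans (res_self _ _ _)
  map_comp {y'' y' y} ψ φ h g hh hg := by
    refine Scheme.Modules.hom_ext _ _ fun V => ?_
    ext s
    refine famAt_ext π h𝒳 h𝒴 hπ hF y'' _ fun ξ β => ?_
    let W := uFib π y'' (CostructuredArrow.mk β) ⁻¹ᵁ ((h ≫ g) ⁻¹ᵁ V)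
    have hu₁ : uFib π y' (CostructuredArrow.mk (β ≫ ψ)) = uFib π y'' (CostructuredArrow.mk β) ≫ h := by
      rw [← hh]; exact (uFib_comp π ψ (CostructuredArrow.mk β)).symm
    have hu₂ : uFib π y (CostructuredArrow.mk (β ≫ ψ ≫ φ)) = uFib π y'' (CostructuredArrow.mk β) ≫ h ≫ g := by
      rw [← hh, ← hg, ← StMod.bmap_comp]; exact (uFib_comp π (ψ ≫ φ) (CostructuredArrow.mk β)).symm
    refine ((res_self (F.obj.obj ξ) (le_refl W) _).symm.trans ?_).trans (res_self (F.obj.obj ξ) (le_refl W) _)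
    refine (gMap_congr π h𝒳 h𝒴 hπ hF (ψ ≫ φ) _ V s ξ β W _ (by rw [hu₂]; exact le_rfl)).trans ?_
    symm
    simp only [Scheme.Modules.Hom.comp_app, Scheme.Modules.pushforwardComp_hom_app_app, Category.comp_id]
    refine (gMap_congr π h𝒳 h𝒴 hπ hF ψ hh (g ⁻¹ᵁ V) _ ξ β W le_rfl (by rw [hu₁]; exact le_rfl)).trans ?_
    refine (gMap_congr π h𝒳 h𝒴 hπ hF φ hg V s ξ (β ≫ ψ) W _ (by rw [Category.assoc, hu₂]; exact le_rfl)).trans ?_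
    exact famAt_congr π h𝒳 h𝒴 hπ hF y V s ξ (Category.assoc _ _ _) _ _ _

theorem descMod_map_self {y' y : 𝒴.obj} (ψ : y' ⟶ y) :
    (descMod π h𝒳 h𝒴 hπ hF).map ψ rfl = gMap π h𝒳 h𝒴 hπ hF ψ := by
  show _ ≫ _ = _
  rw [StMod.pushforwardCongr_hom_app_self, Category.comp_id]

theorem gMap_c {y' y : 𝒴.obj} (ψ : y' ⟶ y) (x : (StMod.fibCat π y').obj) :
    gMap π h𝒳 h𝒴 hπ hF ψ ≫ (Scheme.Modules.pushforward (StMod.bmap 𝒴 ψ)).map ((atlas π h𝒳 h𝒴 hπ hF y').c x) ≫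
      (Scheme.Modules.pushforwardComp (uFib π y' x) (StMod.bmap 𝒴 ψ)).hom.app (F.obj.obj x.left) ≫
      (Scheme.Modules.pushforwardCongr (uFib_comp π ψ x)).hom.app (F.obj.obj x.left) =
    (atlas π h𝒳 h𝒴 hπ hF y).c (CostructuredArrow.mk (x.hom ≫ ψ)) := by
  refine Scheme.Modules.hom_ext _ _ fun V => ?_
  ext s
  have h0 := famAt_gMap π h𝒳 h𝒴 hπ hF ψ V s x.left x.hom (uFib π y (CostructuredArrow.mk (x.hom ≫ ψ)) ⁻¹ᵁ V)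
    (by rw [← uFib_comp π ψ x]; exact le_rfl) le_rfl
  rw [res_self] at h0
  exact h0

theorem isCartesian_descMod : (descMod π h𝒳 h𝒴 hπ hF).IsCartesian := by
  intro y' y ψ g hg
  subst hg
  rw [descMod_map_self]
  let a := (((Scheme.Modules.pullbackPushforwardAdjunction (StMod.bmap 𝒴 ψ)).homEquiv
    (atlas π h𝒳 h𝒴 hπ hF y).G (atlas π h𝒳 h𝒴 hπ hF y').G).symm (gMap π h𝒳 h𝒴 hπ hF ψ))
  show IsIso a
  have key : IsIso ((Scheme.Modules.pullback (𝟙 (StMod.sch 𝒴 y'))).map a) := by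
    refine FlatFunLib.isIso_of_cover _ _ fun t => ?_
    obtain ⟨x, hx₁, hx₂, hx₃⟩ := (isSys π h𝒳 h𝒴 hπ hF y').cov t
    refine ⟨_, uFib π y' x, hx₁, ?_, hx₃⟩
    rw [Category.comp_id]
    have h1 : IsIso ((atlas π h𝒳 h𝒴 hπ hF y).adjC (CostructuredArrow.mk (x.hom ≫ ψ))) :=
      (atlas π h𝒳 h𝒴 hπ hF y).isIso_adjC _
    refine (isIso_symm_comp (uFib_comp π ψ x) (gMap π h𝒳 h𝒴 hπ hF ψ)
      ((atlas π h𝒳 h𝒴 hπ hF y').c x) ((atlas π h𝒳 h𝒴 hπ hF y').isIso_adjC x)).1 ?_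
    rw [Atlas.adjC, ← gMap_c π h𝒳 h𝒴 hπ hF ψ x] at h1
    exact h1
  exact (NatIso.isIso_map_iff (Scheme.Modules.pullbackId (StMod.sch 𝒴 y')) _).1 key

/-- The descended module as a quasi-coherent module. -/
def descQ : StMod.QCoh 𝒴 :=
  ⟨descMod π h𝒳 h𝒴 hπ hF, isCartesian_descMod π h𝒳 h𝒴 hπ hF, fun y => (atlas π h𝒳 h𝒴 hπ hF y).isQCoh⟩

theorem covers_id (ξ : 𝒳.obj) (V : (StMod.sch 𝒴 (π.obj ξ)).Opens) :
    Covers (uFib π (π.obj ξ)) (fun _ : PUnit.{u + 1} => CostructuredArrow.mk (𝟙 (π.obj ξ))) V := by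
  refine ⟨fun _ => ?_, fun t _ => ⟨⟨⟩, ?_⟩⟩
  · rw [uFib_id π ξ]; exact ⟨inferInstance, inferInstance⟩
  · refine ⟨(eqToHom (StMod.sch_obj_eq π ξ)).base t, ?_⟩
    rw [uFib_id π ξ]
    exact cancel_pt _ _ _

theorem isIso_c_id (ξ : 𝒳.obj) :
    IsIso ((atlas π h𝒳 h𝒴 hπ hF (π.obj ξ)).c (CostructuredArrow.mk (𝟙 (π.obj ξ)))) := by
  let h := isSys π h𝒳 h𝒴 hπ hF (π.obj ξ)
  let x₀ : (StMod.fibCat π (π.obj ξ)).obj := CostructuredArrow.mk (𝟙 (π.obj ξ))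
  have hmono : Mono (uFib π (π.obj ξ) x₀) := by rw [uFib_id π ξ]; infer_instance
  rw [Scheme.Modules.Hom.isIso_iff_isIso_app]
  intro V
  rw [ConcreteCategory.isIso_iff_bijective]
  refine ⟨fun s s' hs => ((atlas π h𝒳 h𝒴 hπ hF (π.obj ξ)).fam_bijective V).1
    (h.fam_ext (covers_id π h𝒳 h𝒴 hπ hF ξ V) fun _ => hs), fun t => ?_⟩
  obtain ⟨σ, hσ⟩ := h.exists_fam (covers_id π h𝒳 h𝒴 hπ hF ξ V) (fun _ => t) fun m n z p q W e₁ e₂ =>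
    h.thin p q (by rw [← cancel_mono (uFib π (π.obj ξ) x₀), h.nat, h.nat]) _ _ e₁ e₂ _
  obtain ⟨s, hs⟩ := ((atlas π h𝒳 h𝒴 hπ hF (π.obj ξ)).fam_bijective V).2 σ
  exact ⟨s, (congrFun (congrArg Subtype.val hs) x₀).trans (hσ ⟨⟩)⟩

/-- An untwisted quasi-coherent module on a gerbe is the inverse image of the descended module. -/
theorem exists_iso_comapQ : ∃ G : StMod.QCoh 𝒴, Nonempty (F ≅ (StMod.comapQ π).obj G) := by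
  haveI := fun ξ => isIso_c_id π h𝒳 h𝒴 hπ hF ξ
  let e : ∀ ξ, StMod.castMod (StMod.sch_obj_eq π ξ) ((descMod π h𝒳 h𝒴 hπ hF).obj (π.obj ξ)) ≅ F.obj.obj ξ := fun ξ =>
    @asIso _ _ _ _ (uncast (StMod.sch_obj_eq π ξ) (uFib_id π ξ)
      ((atlas π h𝒳 h𝒴 hπ hF (π.obj ξ)).c (CostructuredArrow.mk (𝟙 (π.obj ξ))))) (isIso_uncast _ _ _ inferInstance)
  refine ⟨descQ π h𝒳 h𝒴 hπ hF, ⟨(ObjectProperty.isoMk _ (StMod.Mod.isoMk e fun ξ' ξ φ g hg => ?_)).symm⟩⟩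
  subst hg
  refine castMap_uncast _ _ _ (uFib_id π ξ) (uFib_id π ξ') _ _ _ _ fun V s W e₁ e₂ => ?_
  refine (congrArg (fun k => res (F.obj.obj ξ') e₁ (((atlas π h𝒳 h𝒴 hπ hF (π.obj ξ')).c
    (CostructuredArrow.mk (𝟙 (π.obj ξ')))).app _ (Scheme.Modules.Hom.app k V s)))
      (descMod_map_self π h𝒳 h𝒴 hπ hF (π.map φ))).trans ?_
  show res (F.obj.obj ξ') e₁ (famAt π h𝒳 h𝒴 hπ hF (π.obj ξ') _ ((gMap π h𝒳 h𝒴 hπ hF (π.map φ)).app V s) ξ' (𝟙 _)) =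
    res (F.obj.obj ξ') e₂ ((F.obj.map φ rfl).app _ (famAt π h𝒳 h𝒴 hπ hF (π.obj ξ) V s ξ (𝟙 _)))
  have e' : W ≤ uFib π (π.obj ξ) (CostructuredArrow.mk (𝟙 _ ≫ π.map φ)) ⁻¹ᵁ V := e₁.trans
    (le_pull π (π.map φ) V (CostructuredArrow.mk (𝟙 (π.obj ξ'))))
  rw [famAt_gMap π h𝒳 h𝒴 hπ hF (π.map φ) V s ξ' (𝟙 _) W e₁ e']
  exact (tr_famAt π h𝒳 h𝒴 hπ hF (π.obj ξ) V s φ (𝟙 _ ≫ π.map φ) (𝟙 _) (by simp) W e₂ e').symm

end Groth.Agent.QDescent
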