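import Mathlib
import Groth.Agent.QDescent.Cat
import Groth.Agent.QDescent.Glue

/-!
# Morphisms of quasi-coherent modules along a gerbe
-/

universe w v u

open CategoryTheory CategoryTheory.Limits AlgebraicGeometry TopologicalSpace Opposite

set_option autoImplicit false
set_option backward.isDefEq.respectTransparency false
set_option backward.isDefEq.respectTransparency.types false
set_option linter.style.haveILetI false

noncomputable section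

namespace Groth.Agent.QDescent

open Groth.Agent.QC

section Cast

variable {X X' T T' : Scheme.{u}}

/-- A morphism of transported modules, transported back. -/
def unHom (h : X = T) {M N : X.Modules} (a : StMod.castMod h M ⟶ StMod.castMod h N) : M ⟶ N := by
  subst h; exact a

theorem castHom_unHom (h : X = T) {M N : X.Modules} (a : StMod.castMod h M ⟶ StMod.castMod h N) :
    StMod.castHom h (unHom h a) = a := by
  subst h; rfl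

theorem castHom_injective (h : X = T) {M N : X.Modules} :
    Function.Injective (StMod.castHom h : (M ⟶ N) → (StMod.castMod h M ⟶ StMod.castMod h N)) := by
  subst h; exact fun a b e => e

theorem castMap_comm (hX : X = T) (hX' : X' = T') {g₁ : X' ⟶ X} {g : T' ⟶ T}
    (hg : g₁ ≫ eqToHom hX = eqToHom hX' ≫ g) {M M' : X.Modules} {N N' : X'.Modules}
    (m : M ⟶ (Scheme.Modules.pushforward g₁).obj N) (m' : M' ⟶ (Scheme.Modules.pushforward g₁).obj N')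
    (a : M ⟶ M') (b : N ⟶ N')
    (h : StMod.castMap hX hX' hg m ≫ (Scheme.Modules.pushforward g).map (StMod.castHom hX' b) =
      StMod.castHom hX a ≫ StMod.castMap hX hX' hg m') :
    m ≫ (Scheme.Modules.pushforward g₁).map b = a ≫ m' := by
  subst hX hX'
  obtain rfl : g₁ = g := by simpa using hg
  rwa [StMod.castMap_rfl_self, StMod.castMap_rfl_self, StMod.castHom_rfl, StMod.castHom_rfl] at h

theorem eqToHom_apply_cancel (h : X = T) (h' : T = X) (x : X) : (eqToHom h').base ((eqToHom h).base x) = x := by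
  subst h; simp

end Cast

theorem tr_app_of_comm {S : Scheme.{u}} {𝒵 : BasedCategory.{v, w} (Over S)} (F G : StMod.Mod 𝒵) {z' z : 𝒵.obj}
    (φ : z' ⟶ z) (a : F.obj z ⟶ G.obj z) (b : F.obj z' ⟶ G.obj z')
    (hab : F.map φ rfl ≫ (Scheme.Modules.pushforward (StMod.bmap 𝒵 φ)).map b = a ≫ G.map φ rfl)
    (U : (StMod.sch 𝒵 z).Opens) (V : (StMod.sch 𝒵 z').Opens) (e : V ≤ StMod.bmap 𝒵 φ ⁻¹ᵁ U)
    (s : Γ(F.obj z, U)) : tr G φ U V e (a.app U s) = b.app V (tr F φ U V e s) := by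
  have h1 := congr(($hab).app U s)
  rw [tr_apply, tr_apply, ← app_res b e]
  exact congrArg (res (G.obj z') e) h1.symm

variable {S : Scheme.{u}} {𝒳 𝒴 : AlgSt.Cat S}

/-- An object of the target is covered by images of objects of the source. -/
theorem exists_coversOn (π : 𝒳 ⥤ᵇ 𝒴) (hπ : Gerb.LocSurjObj (QuotSh.J Scheme.fppfPrecoverage S) π) (y : 𝒴.obj) :
    ∃ (x : StMod.sch 𝒴 y → 𝒳.obj) (α : ∀ t, π.obj (x t) ⟶ y),
      ∀ U : (StMod.sch 𝒴 y).Opens, CoversOn α U := by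
  choose x α h₁ h₂ h₃ using fun t => exists_locObj π hπ y t
  exact ⟨x, α, fun U => ⟨fun t => ⟨h₁ t, h₂ t⟩, fun t _ => ⟨t, h₃ t⟩⟩⟩

namespace HomExt

variable {π : 𝒳 ⥤ᵇ 𝒴} {G₁ G₂ : StMod.QCoh 𝒴}

/-- A morphism of inverse images, read on the images of objects. -/
def W (w : (StMod.comapQ π).obj G₁ ⟶ (StMod.comapQ π).obj G₂) (ξ : 𝒳.obj) :
    G₁.obj.obj (π.obj ξ) ⟶ G₂.obj.obj (π.obj ξ) :=
  unHom (StMod.sch_obj_eq π ξ) (w.hom.app ξ)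

variable (w : (StMod.comapQ π).obj G₁ ⟶ (StMod.comapQ π).obj G₂)

theorem castHom_W (ξ : 𝒳.obj) : StMod.castHom (StMod.sch_obj_eq π ξ) (W w ξ) = w.hom.app ξ :=
  castHom_unHom _ _

theorem tr_W_map {ξ' ξ : 𝒳.obj} (φ : ξ' ⟶ ξ) (U : (StMod.sch 𝒴 (π.obj ξ)).Opens)
    (V : (StMod.sch 𝒴 (π.obj ξ')).Opens) (e : V ≤ StMod.bmap 𝒴 (π.map φ) ⁻¹ᵁ U) (s : Γ(G₁.obj.obj (π.obj ξ), U)) :
    tr G₂.obj (π.map φ) U V e ((W w ξ).app U s) = (W w ξ').app V (tr G₁.obj (π.map φ) U V e s) := by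
  refine tr_app_of_comm _ _ _ _ _ ?_ U V e s
  refine castMap_comm (StMod.sch_obj_eq π ξ) (StMod.sch_obj_eq π ξ') (StMod.bmap_map_comm π φ rfl) _ _ _ _ ?_
  rw [castHom_W, castHom_W]
  exact w.hom.comm φ rfl

variable (h𝒳 : FibCat.IsFibGrpd 𝒳.p) (h𝒴 : FibCat.IsFibGrpd 𝒴.p)
  (hπ : Gerb.IsGerbeOver (QuotSh.J Scheme.fppfPrecoverage S) π)

include h𝒳 h𝒴 hπ

theorem tr_W {ξ' ξ : 𝒳.obj} (β : π.obj ξ' ⟶ π.obj ξ) (U : (StMod.sch 𝒴 (π.obj ξ)).Opens)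
    (V : (StMod.sch 𝒴 (π.obj ξ')).Opens) (e : V ≤ StMod.bmap 𝒴 β ⁻¹ᵁ U) (s : Γ(G₁.obj.obj (π.obj ξ), U)) :
    tr G₂.obj β U V e ((W w ξ).app U s) = (W w ξ').app V (tr G₁.obj β U V e s) := by
  choose x φ ψ h₁ h₂ h₃ h₄ using fun t : StMod.sch 𝒳 ξ' => exists_locHom h𝒳 h𝒴 π hπ.2 β t
  have hcov : CoversOn (fun t => π.map (φ t)) V := by
    refine ⟨fun t => ?_, fun t _ => ?_⟩
    · haveI := h₁ t
      haveI := h₂ t
      rw [bmap_map]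
      exact ⟨inferInstance, inferInstance⟩
    · obtain ⟨p, hp⟩ := h₃ ((eqToHom (StMod.sch_obj_eq π ξ')).base t)
      refine ⟨(eqToHom (StMod.sch_obj_eq π ξ')).base t,
        (eqToHom (StMod.sch_obj_eq π (x ((eqToHom (StMod.sch_obj_eq π ξ')).base t))).symm).base p, ?_⟩
      rw [bmap_map, Scheme.Hom.comp_apply, Scheme.Hom.comp_apply, eqToHom_apply_cancel, hp, eqToHom_apply_cancel]
  refine sect_ext G₂ hcov fun t => ?_
  have e₀ := le_preimage_comp (π.map (φ t)) β e (le_refl (StMod.bmap 𝒴 (π.map (φ t)) ⁻¹ᵁ V))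
  rw [tr_tr, tr_W_map, tr_tr, tr_congr G₂.obj (h₄ t) _ _ e₀ (h₄ t ▸ e₀), tr_W_map,
    tr_congr G₁.obj (h₄ t) _ _ e₀ (h₄ t ▸ e₀)]

theorem agree {y : 𝒴.obj} (U : (StMod.sch 𝒴 y).Opens) (s : Γ(G₁.obj.obj y, U)) {x x' : 𝒳.obj}
    (α : π.obj x ⟶ y) (α' : π.obj x' ⟶ y) {z : 𝒴.obj} (a : z ⟶ π.obj x) (b : z ⟶ π.obj x') (hab : a ≫ α = b ≫ α')
    (V : (StMod.sch 𝒴 (π.obj x)).Opens) (V' : (StMod.sch 𝒴 (π.obj x')).Opens)
    (eV : V ≤ StMod.bmap 𝒴 α ⁻¹ᵁ U) (eV' : V' ≤ StMod.bmap 𝒴 α' ⁻¹ᵁ U)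
    (W' : (StMod.sch 𝒴 z).Opens) (ea : W' ≤ StMod.bmap 𝒴 a ⁻¹ᵁ V) (eb : W' ≤ StMod.bmap 𝒴 b ⁻¹ᵁ V') :
    tr G₂.obj a V W' ea ((W w x).app V (tr G₁.obj α U V eV s)) =
      tr G₂.obj b V' W' eb ((W w x').app V' (tr G₁.obj α' U V' eV' s)) := by
  obtain ⟨x₀, γ, hγ⟩ := exists_coversOn π hπ.1 z
  refine sect_ext G₂ (hγ W') fun t => ?_
  rw [tr_tr, tr_tr, tr_W w h𝒳 h𝒴 hπ, tr_W w h𝒳 h𝒴 hπ, tr_tr, tr_tr]
  congr 1
  exact tr_congr G₁.obj (by rw [Category.assoc, Category.assoc, hab]) _ _ _ _ _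

omit h𝒳 in
/-- Sections are determined by their restrictions to images of objects. -/
theorem ext_of_images {y : 𝒴.obj} {U : (StMod.sch 𝒴 y).Opens} {t t' : Γ(G₂.obj.obj y, U)}
    (h : ∀ (ξ : 𝒳.obj) (β : π.obj ξ ⟶ y), tr G₂.obj β U _ le_rfl t = tr G₂.obj β U _ le_rfl t') : t = t' := by
  obtain ⟨x, α, hα⟩ := exists_coversOn π hπ.1 y
  exact sect_ext G₂ (hα U) fun k => h _ (α k)

theorem exists_ext {y : 𝒴.obj} (U : (StMod.sch 𝒴 y).Opens) (s : Γ(G₁.obj.obj y, U)) :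
    ∃ t : Γ(G₂.obj.obj y, U), ∀ (ξ : 𝒳.obj) (β : π.obj ξ ⟶ y) (V : (StMod.sch 𝒴 (π.obj ξ)).Opens)
      (e : V ≤ StMod.bmap 𝒴 β ⁻¹ᵁ U), tr G₂.obj β U V e t = (W w ξ).app V (tr G₁.obj β U V e s) := by
  obtain ⟨x, α, hα⟩ := exists_coversOn π hπ.1 y
  obtain ⟨t, ht⟩ := glue G₂ h𝒴 (hα U) (fun k => (W w (x k)).app _ (tr G₁.obj (α k) U _ le_rfl s))
    fun k l z' a b hab W' e e' => agree w h𝒳 h𝒴 hπ U s _ _ a b hab _ _ _ _ W' e e'
  refine ⟨t, fun ξ β V e => ?_⟩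
  choose z ez a ha using fun p : (Σ k, ↥(pullback (StMod.bmap 𝒴 β) (StMod.bmap 𝒴 (α k)))) =>
    exists_lift_scheme h𝒴 (x := π.obj ξ) (pullback.fst (StMod.bmap 𝒴 β) (StMod.bmap 𝒴 (α p.1)))
  choose b hb hb' using fun p => exists_factor h𝒴 (α p.1) (a p ≫ β)
    (eqToHom (ez p) ≫ pullback.snd (StMod.bmap 𝒴 β) (StMod.bmap 𝒴 (α p.1))) (by
      rw [StMod.bmap_comp, ha, Category.assoc, Category.assoc, pullback.condition])
  have hcov : CoversOn a V := by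
    refine ⟨fun p => ?_, fun v hv => ?_⟩
    · haveI := ((hα U).fppf p.1).1
      haveI := ((hα U).fppf p.1).2
      rw [ha]
      exact ⟨inferInstance, inferInstance⟩
    · obtain ⟨k, η, hη⟩ := (hα U).surj _ (e hv)
      obtain ⟨q, hq, -⟩ := Scheme.Pullback.exists_preimage_pullback (f := StMod.bmap 𝒴 β)
        (g := StMod.bmap 𝒴 (α k)) v η hη.symm
      refine ⟨⟨k, q⟩, (eqToHom (ez ⟨k, q⟩).symm).base q, ?_⟩
      rw [ha, Scheme.Hom.comp_apply, eqToHom_apply_cancel, hq]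
  refine sect_ext G₂ hcov fun p => ?_
  have eb : StMod.bmap 𝒴 (a p) ⁻¹ᵁ V ≤ StMod.bmap 𝒴 (b p) ⁻¹ᵁ (StMod.bmap 𝒴 (α p.1) ⁻¹ᵁ U) := by
    rw [← Scheme.Hom.comp_preimage, ← StMod.bmap_comp, hb' p]
    exact le_preimage_comp _ _ e le_rfl
  rw [tr_tr, tr_congr G₂.obj (hb' p).symm _ _ _ (le_preimage_comp _ _ le_rfl eb), ← tr_tr G₂.obj (b p) (α p.1) _ _ _
    le_rfl eb, ht]
  exact (agree w h𝒳 h𝒴 hπ U s _ _ _ _ (hb' p).symm _ _ e le_rfl _ le_rfl eb).symm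

/-- The extension of a morphism of inverse images. -/
def ext (h𝒳 : FibCat.IsFibGrpd 𝒳.p) (h𝒴 : FibCat.IsFibGrpd 𝒴.p)
    (hπ : Gerb.IsGerbeOver (QuotSh.J Scheme.fppfPrecoverage S) π) (y : 𝒴.obj) : G₁.obj.obj y ⟶ G₂.obj.obj y :=
  mkHom (fun U => AddMonoidHom.mk' (fun s => (exists_ext w h𝒳 h𝒴 hπ U s).choose) fun s s' =>
      ext_of_images h𝒴 hπ fun ξ β => by
        rw [map_add, (exists_ext w h𝒳 h𝒴 hπ U (s + s')).choose_spec, (exists_ext w h𝒳 h𝒴 hπ U s).choose_spec,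
          (exists_ext w h𝒳 h𝒴 hπ U s').choose_spec, map_add, map_add])
    (fun {V U} hVU s => ext_of_images h𝒴 hπ fun ξ β => by
      show tr G₂.obj β V _ _ (exists_ext w h𝒳 h𝒴 hπ V _).choose = tr G₂.obj β V _ _ (res _ hVU _)
      rw [(exists_ext w h𝒳 h𝒴 hπ V _).choose_spec, tr_res, tr_res]
      exact ((exists_ext w h𝒳 h𝒴 hπ U s).choose_spec ξ β _ _).symm)
    (fun U r s => ext_of_images h𝒴 hπ fun ξ β => by
      show tr G₂.obj β U _ _ (exists_ext w h𝒳 h𝒴 hπ U _).choose =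
        tr G₂.obj β U _ _ (r • (exists_ext w h𝒳 h𝒴 hπ U s).choose)
      rw [(exists_ext w h𝒳 h𝒴 hπ U _).choose_spec, tr_smul, tr_smul, Scheme.Modules.Hom.app_smul,
        (exists_ext w h𝒳 h𝒴 hπ U s).choose_spec])

theorem tr_ext {y : 𝒴.obj} (U : (StMod.sch 𝒴 y).Opens) (s : Γ(G₁.obj.obj y, U)) (ξ : 𝒳.obj) (β : π.obj ξ ⟶ y)
    (V : (StMod.sch 𝒴 (π.obj ξ)).Opens) (e : V ≤ StMod.bmap 𝒴 β ⁻¹ᵁ U) :
    tr G₂.obj β U V e ((ext w h𝒳 h𝒴 hπ y).app U s) = (W w ξ).app V (tr G₁.obj β U V e s) :=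
  (exists_ext w h𝒳 h𝒴 hπ U s).choose_spec ξ β V e

theorem ext_image (ξ : 𝒳.obj) : ext w h𝒳 h𝒴 hπ (π.obj ξ) = W w ξ := by
  refine Scheme.Modules.hom_ext _ _ fun U => ?_
  ext s
  refine ext_of_images h𝒴 hπ fun ξ' β => ?_
  rw [tr_ext, tr_W w h𝒳 h𝒴 hπ]

theorem ext_comm {y' y : 𝒴.obj} (ψ : y' ⟶ y) :
    G₁.obj.map ψ rfl ≫ (Scheme.Modules.pushforward (StMod.bmap 𝒴 ψ)).map (ext w h𝒳 h𝒴 hπ y') =
      ext w h𝒳 h𝒴 hπ y ≫ G₂.obj.map ψ rfl := by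
  refine Scheme.Modules.hom_ext _ _ fun U => ?_
  ext s
  show (ext w h𝒳 h𝒴 hπ y').app _ ((G₁.obj.map ψ rfl).app U s) = (G₂.obj.map ψ rfl).app U ((ext w h𝒳 h𝒴 hπ y).app U s)
  refine ext_of_images h𝒴 hπ fun ξ β => ?_
  rw [tr_ext]
  have key : ∀ (G : StMod.Mod 𝒴) (t : Γ(G.obj y, U)), (G.map ψ rfl).app U t = tr G ψ U _ le_rfl t :=
    fun G t => (res_self _ le_rfl _).symm
  rw [key, key, tr_tr, tr_tr, tr_ext]

end HomExt

theorem comapQ_faithful (π : 𝒳 ⥤ᵇ 𝒴) (hπ : Gerb.LocSurjObj (QuotSh.J Scheme.fppfPrecoverage S) π) :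
    (StMod.comapQ π).Faithful where
  map_injective {G₁ G₂} u v huv := by
    refine InducedCategory.hom_ext (StMod.Mod.hom_ext fun y => ?_)
    have hπ' : ∀ ξ, u.hom.app (π.obj ξ) = v.hom.app (π.obj ξ) := fun ξ =>
      castHom_injective (StMod.sch_obj_eq π ξ) congr(($huv).hom.app ξ)
    refine Scheme.Modules.hom_ext _ _ fun U => ?_
    ext s
    obtain ⟨x, α, hα⟩ := exists_coversOn π hπ y
    refine sect_ext G₂ (hα U) fun k => ?_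
    rw [tr_app_of_comm G₁.obj G₂.obj (α k) _ _ (u.hom.comm (α k) rfl),
      tr_app_of_comm G₁.obj G₂.obj (α k) _ _ (v.hom.comm (α k) rfl), hπ']

theorem comapQ_full (h𝒳 : FibCat.IsFibGrpd 𝒳.p) (h𝒴 : FibCat.IsFibGrpd 𝒴.p) (π : 𝒳 ⥤ᵇ 𝒴)
    (hπ : Gerb.IsGerbeOver (QuotSh.J Scheme.fppfPrecoverage S) π) : (StMod.comapQ π).Full where
  map_surjective {G₁ G₂} w := by
    refine ⟨ObjectProperty.homMk ⟨fun y => HomExt.ext w h𝒳 h𝒴 hπ y, fun ψ g hg => by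
      subst hg; exact HomExt.ext_comm w h𝒳 h𝒴 hπ ψ⟩, ?_⟩
    refine InducedCategory.hom_ext (StMod.Mod.hom_ext fun ξ => ?_)
    show StMod.castHom _ (HomExt.ext w h𝒳 h𝒴 hπ (π.obj ξ)) = w.hom.app ξ
    rw [HomExt.ext_image, HomExt.castHom_W]

end Groth.Agent.QDescent
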