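import Mathlib
import Groth.Prelude.Def_AlgSt2
import Groth.Agent.QDescent.Stack
import Groth.Agent.QDescent.Hom
import Groth.Agent.FppfModDesc.Twisted

/-!
# A section of a gerbe over a scheme trivialises twisted quasi-coherent modules
-/

universe u

open CategoryTheory CategoryTheory.Limits AlgebraicGeometry TopologicalSpace Opposite

set_option autoImplicit false
set_option backward.isDefEq.respectTransparency false
set_option backward.isDefEq.respectTransparency.types false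
set_option linter.style.haveILetI false

noncomputable section

namespace Groth.Agent.QDescent

open Groth.Agent.QC

variable {S : Scheme.{u}} {X : Over S} {𝒳 : AlgSt.Cat S} {A : (Over S)ᵒᵖ ⥤ GrpCat.{u}}

theorem ofSch_hom_ext {a b : (AlgSt.ofSch X).obj} {f f' : a ⟶ b}
    (h : StMod.bmap (AlgSt.ofSch X) f = StMod.bmap (AlgSt.ofSch X) f') : f = f' :=
  Stk.EltObj.hom_ext (Over.OverMorphism.ext h)

theorem castMap_map_congr {𝒵 : AlgSt.Cat S} (F : StMod.Mod 𝒵) {z' z : 𝒵.obj} {φ φ' : z' ⟶ z} (h : φ = φ')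
    {T' T : Scheme.{u}} (hX : StMod.sch 𝒵 z = T) (hX' : StMod.sch 𝒵 z' = T') {g : T' ⟶ T}
    (hg : StMod.bmap 𝒵 φ ≫ eqToHom hX = eqToHom hX' ≫ g) (hg' : StMod.bmap 𝒵 φ' ≫ eqToHom hX = eqToHom hX' ≫ g) :
    StMod.castMap hX hX' hg (F.map φ rfl) = StMod.castMap hX hX' hg' (F.map φ' rfl) := by
  subst h; rfl

theorem isIso_castHom {Y T : Scheme.{u}} (h : Y = T) {M N : Y.Modules} (a : M ⟶ N) [IsIso a] :
    IsIso (StMod.castHom h a) := by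
  subst h; assumption

section Twist

variable {𝒵 : AlgSt.Cat S}

/-- Twist the comparison maps of a module by a cocycle of invertible functions. -/
def twistMod (M₀ : StMod.Mod 𝒵) (μ : ∀ {z' z : 𝒵.obj}, (z' ⟶ z) → (Γ(StMod.sch 𝒵 z', ⊤))ˣ)
    (h₁ : ∀ z, μ (𝟙 z) = 1)
    (h₂ : ∀ {z'' z' z : 𝒵.obj} (ψ : z'' ⟶ z') (φ : z' ⟶ z),
      (μ (ψ ≫ φ)).val = (μ ψ).val * (StMod.bmap 𝒵 ψ).appTop (μ φ).val) : StMod.Mod 𝒵 where
  obj := M₀.obj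
  map {z' z} φ g hg := M₀.map φ hg ≫ (Scheme.Modules.pushforward g).map (TwSh.scalarEnd (M₀.obj z') (μ φ).val)
  map_id z := by
    have h0 : TwSh.scalarEnd (M₀.obj z) (μ (𝟙 z)).val = 𝟙 _ := by
      refine Scheme.Modules.hom_ext _ _ fun V => ?_
      ext s
      show TwSh.resTop (StMod.sch 𝒵 z) V (μ (𝟙 z)).val • (show Γ(M₀.obj z, V) from s) = s
      rw [h₁, Units.val_one, map_one, one_smul]
    rw [h0, CategoryTheory.Functor.map_id]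
    exact (congrArg (· ≫ _) (Category.comp_id _)).trans (M₀.map_id z)
  map_comp {z'' z' z} ψ φ h g hh hg := by
    refine Scheme.Modules.hom_ext _ _ fun V => ?_
    ext s
    show TwSh.resTop (StMod.sch 𝒵 z'') ((h ≫ g) ⁻¹ᵁ V) (μ (ψ ≫ φ)).val •
        (show Γ(M₀.obj z'', (h ≫ g) ⁻¹ᵁ V) from (M₀.map (ψ ≫ φ) _).app V s) =
      TwSh.resTop (StMod.sch 𝒵 z'') (h ⁻¹ᵁ (g ⁻¹ᵁ V)) (μ ψ).val •
        (show Γ(M₀.obj z'', h ⁻¹ᵁ (g ⁻¹ᵁ V)) from (M₀.map ψ hh).app _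
          (TwSh.resTop (StMod.sch 𝒵 z') (g ⁻¹ᵁ V) (μ φ).val • (show Γ(M₀.obj z', g ⁻¹ᵁ V) from (M₀.map φ hg).app V s)))
    have hc : (M₀.map (ψ ≫ φ) (g := h ≫ g) (by rw [StMod.bmap_comp, hh, hg])).app V s =
        (M₀.map ψ hh).app (g ⁻¹ᵁ V) ((M₀.map φ hg).app V s) :=
      congr($(StMod.Mod.map_comp_app M₀ ψ φ hh hg V) s)
    have hk : TwSh.resTop (StMod.sch 𝒵 z'') ((h ≫ g) ⁻¹ᵁ V) (μ (ψ ≫ φ)).val =
        (show Γ(StMod.sch 𝒵 z'', (h ≫ g) ⁻¹ᵁ V) from TwSh.resTop (StMod.sch 𝒵 z'') (h ⁻¹ᵁ (g ⁻¹ᵁ V)) (μ ψ).val *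
          h.app (g ⁻¹ᵁ V) (TwSh.resTop (StMod.sch 𝒵 z') (g ⁻¹ᵁ V) (μ φ).val)) := by
      subst hh
      rw [h₂, map_mul]
      exact congrArg (_ * ·) congr($((StMod.bmap 𝒵 ψ).naturality (homOfLE (le_top : g ⁻¹ᵁ V ≤ ⊤)).op) (μ φ).val).symm
    rw [hk, hc, Scheme.Modules.Hom.app_smul]
    exact mul_smul _ _ _

theorem isQCoh_twistMod {M₀ : StMod.Mod 𝒵} (hM : StMod.isQCoh 𝒵 M₀)
    (μ : ∀ {z' z : 𝒵.obj}, (z' ⟶ z) → (Γ(StMod.sch 𝒵 z', ⊤))ˣ) (h₁ : ∀ z, μ (𝟙 z) = 1)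
    (h₂ : ∀ {z'' z' z : 𝒵.obj} (ψ : z'' ⟶ z') (φ : z' ⟶ z),
      (μ (ψ ≫ φ)).val = (μ ψ).val * (StMod.bmap 𝒵 ψ).appTop (μ φ).val) :
    StMod.isQCoh 𝒵 (twistMod M₀ μ h₁ h₂) := by
  refine ⟨fun z' z φ g hg => ?_, fun z => hM.2 z⟩
  show IsIso (((Scheme.Modules.pullbackPushforwardAdjunction g).homEquiv (M₀.obj z) (M₀.obj z')).symm
    (M₀.map φ hg ≫ (Scheme.Modules.pushforward g).map (TwSh.scalarEnd (M₀.obj z') (μ φ).val)))
  rw [Adjunction.homEquiv_naturality_right_symm]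
  haveI : IsIso (((Scheme.Modules.pullbackPushforwardAdjunction g).homEquiv (M₀.obj z) (M₀.obj z')).symm
    (M₀.map φ hg)) := hM.1 φ hg
  haveI : IsIso (TwSh.scalarEnd (M₀.obj z') (μ φ).val) := by
    refine ⟨TwSh.scalarEnd _ (μ φ)⁻¹.val, ?_, ?_⟩ <;>
    · refine Scheme.Modules.hom_ext _ _ fun V => ?_
      ext s
      show TwSh.resTop (StMod.sch 𝒵 z') V _ • TwSh.resTop (StMod.sch 𝒵 z') V _ • (show (Γ(M₀.obj z', V) : Type _) from s) = s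
      rw [smul_smul, ← map_mul]
      simp
  infer_instance

theorem twistMod_map (M₀ : StMod.Mod 𝒵) (μ : ∀ {z' z : 𝒵.obj}, (z' ⟶ z) → (Γ(StMod.sch 𝒵 z', ⊤))ˣ)
    (h₁ : ∀ z, μ (𝟙 z) = 1)
    (h₂ : ∀ {z'' z' z : 𝒵.obj} (ψ : z'' ⟶ z') (φ : z' ⟶ z),
      (μ (ψ ≫ φ)).val = (μ ψ).val * (StMod.bmap 𝒵 ψ).appTop (μ φ).val)
    {z' z : 𝒵.obj} (φ : z' ⟶ z) {g : StMod.sch 𝒵 z' ⟶ StMod.sch 𝒵 z} (hg : StMod.bmap 𝒵 φ = g) :
    (twistMod M₀ μ h₁ h₂).map φ hg =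
      M₀.map φ hg ≫ (Scheme.Modules.pushforward g).map (TwSh.scalarEnd (M₀.obj z') (μ φ).val) := rfl

end Twist

variable {π : 𝒳 ⥤ᵇ AlgSt.ofSch X} {σ : AlgSt.ofSch X ⥤ᵇ 𝒳}

/-- The component of the identification of the composite with the identity. -/
def eh (e : BasedFunctor.comp σ π ≅ BasedFunctor.id (AlgSt.ofSch X)) (η : (AlgSt.ofSch X).obj) :
    π.obj (σ.obj η) ⟶ η := e.hom.toNatTrans.app η

/-- The component of the inverse identification. -/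
def ei (e : BasedFunctor.comp σ π ≅ BasedFunctor.id (AlgSt.ofSch X)) (η : (AlgSt.ofSch X).obj) :
    η ⟶ π.obj (σ.obj η) := e.inv.toNatTrans.app η

variable (e : BasedFunctor.comp σ π ≅ BasedFunctor.id (AlgSt.ofSch X))

theorem bmap_eh (η : (AlgSt.ofSch X).obj) : StMod.bmap (AlgSt.ofSch X) (eh e η) =
    eqToHom ((StMod.sch_obj_eq π (σ.obj η)).trans (StMod.sch_obj_eq σ η)) := by
  haveI h : (AlgSt.ofSch X).p.IsHomLift (𝟙 ((AlgSt.ofSch X).p.obj η)) (eh e η) := e.hom.isHomLift' η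
  rw [show StMod.bmap (AlgSt.ofSch X) (eh e η) = ((AlgSt.ofSch X).p.map (eh e η)).left from rfl,
    IsHomLift.fac' (AlgSt.ofSch X).p (𝟙 ((AlgSt.ofSch X).p.obj η)) (eh e η)]
  simp [Over.eqToHom_left]

theorem bmap_ei (η : (AlgSt.ofSch X).obj) : StMod.bmap (AlgSt.ofSch X) (ei e η) =
    eqToHom ((StMod.sch_obj_eq π (σ.obj η)).trans (StMod.sch_obj_eq σ η)).symm := by
  haveI h : (AlgSt.ofSch X).p.IsHomLift (𝟙 ((AlgSt.ofSch X).p.obj η)) (ei e η) := e.inv.isHomLift' η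
  rw [show StMod.bmap (AlgSt.ofSch X) (ei e η) = ((AlgSt.ofSch X).p.map (ei e η)).left from rfl,
    IsHomLift.fac' (AlgSt.ofSch X).p (𝟙 ((AlgSt.ofSch X).p.obj η)) (ei e η)]
  simp [Over.eqToHom_left]

/-- The morphism of the base under a morphism between values of the section. -/
def fOf {η' η : (AlgSt.ofSch X).obj} (β : σ.obj η' ⟶ σ.obj η) : η' ⟶ η := ei e η' ≫ π.map β ≫ eh e η

theorem bmap_fOf {η' η : (AlgSt.ofSch X).obj} (β : σ.obj η' ⟶ σ.obj η) : StMod.bmap (AlgSt.ofSch X) (fOf e β) =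
    eqToHom (StMod.sch_obj_eq σ η').symm ≫ StMod.bmap 𝒳 β ≫ eqToHom (StMod.sch_obj_eq σ η) := by
  rw [fOf, StMod.bmap_comp, StMod.bmap_comp, bmap_ei, bmap_eh, bmap_map]
  simp

theorem fOf_eq {η' η : (AlgSt.ofSch X).obj} (β : σ.obj η' ⟶ σ.obj η) (f : η' ⟶ η)
    (h : StMod.bmap 𝒳 β = StMod.bmap 𝒳 (σ.map f)) : fOf e β = f := by
  refine ofSch_hom_ext ?_
  rw [bmap_fOf, h, bmap_map]
  simp

theorem bmap_map_fOf {η' η : (AlgSt.ofSch X).obj} (β : σ.obj η' ⟶ σ.obj η) :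
    StMod.bmap 𝒳 (σ.map (fOf e β)) = StMod.bmap 𝒳 β := by
  rw [bmap_map, bmap_fOf]
  simp

variable {ι : TwSh.BandHom 𝒳 A} (χ : A ⟶ TwSh.GmPsh S) (h𝒳 : FibCat.IsFibGrpd 𝒳.p)
  (hπ : TwSh.IsBandedGerbe (QuotSh.J Scheme.fppfPrecoverage S) π ι)

include h𝒳 hπ

theorem exists_band {ξ : 𝒳.obj} (c : ξ ⟶ ξ) (hc : StMod.bmap 𝒳 c = 𝟙 _) :
    ∃ g : A.obj (op (𝒳.p.obj ξ)), (ι.hom ξ g).hom.1 = c := by
  obtain ⟨β, hβ⟩ := exists_autO h𝒳 c hc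
  have hπc : π.map c = 𝟙 _ := ofSch_hom_ext (by rw [bmap_map, hc, StMod.bmap_id]; simp)
  have hker : β ∈ (Gerb.autMap π ξ).ker := by
    rw [MonoidHom.mem_ker]
    exact Aut.ext (Functor.Fiber.hom_ext (by show π.map β.hom.1 = 𝟙 _; rw [hβ, hπc]))
  rw [← (hπ.2 ξ).2] at hker
  obtain ⟨g, hg⟩ := hker
  exact ⟨g, by rw [hg, hβ]⟩

theorem exists_gOf {η' η : (AlgSt.ofSch X).obj} (β : σ.obj η' ⟶ σ.obj η) :
    ∃ g : A.obj (op (𝒳.p.obj (σ.obj η'))), (ι.hom _ g).hom.1 ≫ σ.map (fOf e β) = β := by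
  obtain ⟨c, hc, hc'⟩ := exists_factor h𝒳 (σ.map (fOf e β)) β (𝟙 _) (by rw [Category.id_comp, bmap_map_fOf])
  obtain ⟨g, hg⟩ := exists_band h𝒳 hπ c hc
  exact ⟨g, by rw [hg, hc']⟩

theorem gOf_unique {η' η : (AlgSt.ofSch X).obj} (f : η' ⟶ η) {g g' : A.obj (op (𝒳.p.obj (σ.obj η')))}
    (h : (ι.hom _ g).hom.1 ≫ σ.map f = (ι.hom _ g').hom.1 ≫ σ.map f) : g = g' :=
  (hπ.2 _).1 (Aut.ext (Functor.Fiber.hom_ext (eq_of_bmap h𝒳 (σ.map f)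
    ((TwSh.bmap_autO _ _).trans (TwSh.bmap_autO _ _).symm) h)))

/-- The scalar by which a twisted module distinguishes a morphism between values of the section from the image of the
morphism of the base under it. -/
def mu {η' η : (AlgSt.ofSch X).obj} (β : σ.obj η' ⟶ σ.obj η) : (Γ(StMod.sch 𝒳 (σ.obj η'), ⊤))ˣ :=
  (TwSh.charUnit χ (σ.obj η') (exists_gOf e h𝒳 hπ β).choose ^ (1 : ℤ))⁻¹

theorem mu_of_eq {η' η : (AlgSt.ofSch X).obj} (β : σ.obj η' ⟶ σ.obj η) (f : η' ⟶ η)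
    (g : A.obj (op (𝒳.p.obj (σ.obj η')))) (h : (ι.hom _ g).hom.1 ≫ σ.map f = β) :
    mu e χ h𝒳 hπ β = (TwSh.charUnit χ (σ.obj η') g ^ (1 : ℤ))⁻¹ := by
  have hf : fOf e β = f := fOf_eq e β f (by rw [← h, StMod.bmap_comp, TwSh.bmap_autO, Category.id_comp])
  have h' : (ι.hom _ (exists_gOf e h𝒳 hπ β).choose).hom.1 ≫ σ.map f = β :=
    (congrArg (fun k => (ι.hom _ (exists_gOf e h𝒳 hπ β).choose).hom.1 ≫ σ.map k) hf.symm).trans
      (exists_gOf e h𝒳 hπ β).choose_spec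
  have hg := gOf_unique h𝒳 hπ f (h'.trans h.symm)
  rw [mu, hg]

theorem mu_map {η' η : (AlgSt.ofSch X).obj} (f : η' ⟶ η) : mu e χ h𝒳 hπ (σ.map f) = 1 := by
  rw [mu_of_eq e χ h𝒳 hπ (σ.map f) f 1 (by rw [map_one]; exact Category.id_comp _)]
  have : TwSh.charUnit χ (σ.obj η') 1 = 1 := map_one (χ.app (op (𝒳.p.obj (σ.obj η')))).hom
  rw [this, one_zpow, inv_one]

theorem mu_id (η : (AlgSt.ofSch X).obj) : mu e χ h𝒳 hπ (𝟙 (σ.obj η)) = 1 := by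
  rw [← σ.toFunctor.map_id]
  exact mu_map e χ h𝒳 hπ _

theorem mu_comp {η'' η' η : (AlgSt.ofSch X).obj} (ψ : σ.obj η'' ⟶ σ.obj η') (φ : σ.obj η' ⟶ σ.obj η) :
    (mu e χ h𝒳 hπ (ψ ≫ φ)).val =
      (mu e χ h𝒳 hπ ψ).val * (StMod.bmap 𝒳 ψ).appTop (mu e χ h𝒳 hπ φ).val := by
  obtain ⟨g, hg⟩ := exists_gOf e h𝒳 hπ ψ
  obtain ⟨g', hg'⟩ := exists_gOf e h𝒳 hπ φ
  let f := fOf e ψ
  let g'' := A.map (𝒳.p.map (σ.map f)).op g'
  have key : (ι.hom _ (g'' * g)).hom.1 ≫ σ.map (f ≫ fOf e φ) = ψ ≫ φ := by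
    calc (ι.hom _ (g'' * g)).hom.1 ≫ σ.map (f ≫ fOf e φ)
        = ((ι.hom _ g).hom.1 ≫ (ι.hom _ g'').hom.1) ≫ σ.map f ≫ σ.map (fOf e φ) := by
          rw [map_mul, σ.toFunctor.map_comp]; rfl
      _ = (ι.hom _ g).hom.1 ≫ ((ι.hom _ g'').hom.1 ≫ σ.map f) ≫ σ.map (fOf e φ) := by simp only [Category.assoc]
      _ = (ι.hom _ g).hom.1 ≫ (σ.map f ≫ (ι.hom _ g').hom.1) ≫ σ.map (fOf e φ) := by rw [ι.natural]
      _ = ((ι.hom _ g).hom.1 ≫ σ.map f) ≫ (ι.hom _ g').hom.1 ≫ σ.map (fOf e φ) := by simp only [Category.assoc]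
      _ = ψ ≫ φ := by rw [hg, hg']
  rw [mu_of_eq e χ h𝒳 hπ _ _ _ key, mu_of_eq e χ h𝒳 hπ ψ f g hg, mu_of_eq e χ h𝒳 hπ φ _ g' hg',
    show TwSh.charUnit χ (σ.obj η'') (g'' * g) = TwSh.charUnit χ (σ.obj η'') g'' * TwSh.charUnit χ (σ.obj η'') g from
      map_mul (χ.app (op (𝒳.p.obj (σ.obj η'')))).hom g'' g,
    mul_zpow, mul_inv, Units.val_mul, mul_comm, FppfModDesc.charUnit_map χ 1 (σ.map f) g', bmap_map_fOf]

/-- The values of the section as a category over schemes. -/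
abbrev Wcat (σ : AlgSt.ofSch X ⥤ᵇ 𝒳) : AlgSt.Cat S where
  obj := InducedCategory 𝒳.obj σ.obj
  p := inducedFunctor σ.obj ⋙ 𝒳.p

/-- A morphism between values of the section, as a morphism of their category. -/
abbrev homW (σ : AlgSt.ofSch X ⥤ᵇ 𝒳) {η' η : (AlgSt.ofSch X).obj} (b : σ.obj η' ⟶ σ.obj η) :
    @Quiver.Hom (Wcat σ).obj _ η' η := InducedCategory.Hom.mk b

/-- The inclusion of the values of the section. -/
def tau (σ : AlgSt.ofSch X ⥤ᵇ 𝒳) : Wcat σ ⥤ᵇ 𝒳 where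
  toFunctor := inducedFunctor σ.obj
  w := rfl

omit hπ in
theorem isFibGrpd_Wcat : FibCat.IsFibGrpd (Wcat σ).p := by
  refine FibCatRep.isFibGrpd_mk (fun {x V} f => ?_) fun {z y x} φ ψ g h => ?_
  · have hx : 𝒳.p.obj (σ.obj x) = (AlgSt.ofSch X).p.obj x := σ.w_obj x
    obtain ⟨η', f', hV, hf'⟩ := FibCatRep.exists_lift (p := (AlgSt.ofSch X).p) (x := x)
      (Stk.isFibGrpd_ofPsh _) (f ≫ eqToHom hx)
    refine ⟨η', ⟨σ.map f'⟩, (σ.w_obj η').trans hV, ?_⟩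
    show 𝒳.p.map (σ.map f') = _
    refine Over.OverMorphism.ext ?_
    show StMod.bmap 𝒳 (σ.map f') = _
    rw [bmap_map, show StMod.bmap (AlgSt.ofSch X) f' = ((AlgSt.ofSch X).p.map f').left from rfl, hf']
    simp [Over.eqToHom_left]
  · obtain ⟨c, ⟨hc₁, hc₂⟩, hu⟩ := FibCatRep.existsUnique_cart h𝒳 φ.hom ψ.hom g h
    exact ⟨⟨c⟩, ⟨hc₁, InducedCategory.hom_ext hc₂⟩, fun c' hc' => InducedCategory.hom_ext
      (hu c'.hom ⟨hc'.1, congrArg InducedCategory.Hom.hom hc'.2⟩)⟩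

omit h𝒳 hπ in
theorem jInv_map_eq (e : BasedFunctor.comp σ π ≅ BasedFunctor.id (AlgSt.ofSch X)) {a b : (Wcat σ).obj} (β : a ⟶ b) :
    (AlgSt.ofSch X).p.map (fOf e β.hom) =
      eqToHom (σ.w_obj a).symm ≫ 𝒳.p.map β.hom ≫ eqToHom (σ.w_obj b) := by
  refine Over.OverMorphism.ext ?_
  show StMod.bmap (AlgSt.ofSch X) (fOf e β.hom) = _
  rw [bmap_fOf]
  simp [Over.eqToHom_left]

/-- The base morphisms of the morphisms between values of the section. -/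
def jInv (e : BasedFunctor.comp σ π ≅ BasedFunctor.id (AlgSt.ofSch X)) : Wcat σ ⥤ᵇ AlgSt.ofSch X where
  toFunctor :=
    { obj := fun η => η
      map := fun β => fOf e β.hom
      map_id := fun η => fOf_eq e _ _ (by rw [σ.toFunctor.map_id]; rfl)
      map_comp := fun {a b c} β γ => fOf_eq e _ _ (by
        rw [σ.toFunctor.map_comp, StMod.bmap_comp, bmap_map_fOf, bmap_map_fOf]
        exact StMod.bmap_comp β.hom γ.hom) }
  w := _root_.CategoryTheory.Functor.ext (fun η => (σ.w_obj η).symm) fun a b β => jInv_map_eq e β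

/-- The twisted transfer of a module on the base to the values of the section. -/
def wMod (e : BasedFunctor.comp σ π ≅ BasedFunctor.id (AlgSt.ofSch X)) (χ : A ⟶ TwSh.GmPsh S)
    (h𝒳 : FibCat.IsFibGrpd 𝒳.p) (hπ : TwSh.IsBandedGerbe (QuotSh.J Scheme.fppfPrecoverage S) π ι)
    (M : StMod.QCoh (AlgSt.ofSch X)) : StMod.Mod (Wcat σ) :=
  twistMod (StMod.Mod.comap (jInv e) M.obj) (fun β => mu e χ h𝒳 hπ β.hom)
    (fun η => mu_id e χ h𝒳 hπ η) (fun ψ φ => mu_comp e χ h𝒳 hπ ψ.hom φ.hom)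

theorem isQCoh_wMod (M : StMod.QCoh (AlgSt.ofSch X)) : StMod.isQCoh (Wcat σ) (wMod e χ h𝒳 hπ M) :=
  isQCoh_twistMod (𝒵 := Wcat σ) (M₀ := StMod.Mod.comap (jInv e) M.obj) (StMod.isQCoh_comap M.property)
    (fun β => mu e χ h𝒳 hπ β.hom) (fun η => mu_id e χ h𝒳 hπ η)
    (fun ψ φ => mu_comp e χ h𝒳 hπ ψ.hom φ.hom)

theorem tr_band {F : StMod.Mod 𝒳} (hF : TwSh.IsTwisted F ι χ 1) {ξ : 𝒳.obj} (g : A.obj (op (𝒳.p.obj ξ)))
    (V : (StMod.sch 𝒳 ξ).Opens) (e : V ≤ StMod.bmap 𝒳 (ι.hom ξ g).hom.1 ⁻¹ᵁ V) (s : Γ(F.obj ξ, V)) :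
    tr F (ι.hom ξ g).hom.1 V V e s =
      TwSh.resTop (StMod.sch 𝒳 ξ) V ((TwSh.charUnit χ ξ g ^ (1 : ℤ))⁻¹).val • s := by
  rw [← hF ξ g V s, TwSh.inert_app_apply]
  exact tr_eq_map F _ (TwSh.bmap_autO ξ _) V _ s

theorem exists_over (ξ : 𝒳.obj) (e : BasedFunctor.comp σ π ≅ BasedFunctor.id (AlgSt.ofSch X)) :
    ∃ R ∈ QuotSh.J Scheme.fppfPrecoverage S (𝒳.p.obj ξ), ∀ ⦃V : Over S⦄ (f : V ⟶ 𝒳.p.obj ξ), R f →
      ∃ (η : (AlgSt.ofSch X).obj) (a : σ.obj η ⟶ ξ), 𝒳.p.IsHomLift f a := by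
  have hb : (AlgSt.ofSch X).p.IsHomLift (𝟙 (𝒳.p.obj ξ)) (ei e (π.obj ξ)) := by
    refine IsHomLift.of_fac' _ _ _ (π.w_obj ξ)
      ((π.w_obj _).trans ((σ.w_obj (π.obj ξ)).trans (π.w_obj ξ))) (Over.OverMorphism.ext ?_)
    show StMod.bmap (AlgSt.ofSch X) (ei e (π.obj ξ)) = _
    rw [bmap_ei]
    simp [Over.eqToHom_left]
  obtain ⟨R, hR, hR'⟩ := hπ.1.2 ξ (σ.obj (π.obj ξ)) (ei e (π.obj ξ)) hb
  refine ⟨R, hR, fun V f hf => ?_⟩
  obtain ⟨x₀, φ, ψ, hφ, -, hψ⟩ := hR' f hf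
  obtain ⟨c, hc, -⟩ := exists_factor h𝒳 (σ.map (π.map φ)) ψ
    (eqToHom ((StMod.sch_obj_eq π x₀).symm.trans (StMod.sch_obj_eq σ (π.obj x₀)).symm)) (by
      have h1 := congrArg (StMod.bmap (AlgSt.ofSch X)) hψ
      rw [StMod.bmap_comp, bmap_ei, bmap_map, bmap_map] at h1
      rw [bmap_map σ, bmap_map π]
      simpa using congrArg (fun k => eqToHom (StMod.sch_obj_eq π x₀).symm ≫ k ≫
        eqToHom (StMod.sch_obj_eq π (σ.obj (π.obj ξ)))) h1)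
  obtain ⟨d, hd, -⟩ := exists_factor h𝒳 c (𝟙 (σ.obj (π.obj x₀)))
    (eqToHom ((StMod.sch_obj_eq π x₀).symm.trans (StMod.sch_obj_eq σ (π.obj x₀)).symm).symm) (by
      rw [hc, StMod.bmap_id]; simp)
  haveI := hφ
  have hV : 𝒳.p.obj x₀ = V := IsHomLift.domain_eq 𝒳.p f φ
  refine ⟨π.obj x₀, d ≫ φ, IsHomLift.of_fac' _ _ _ ((σ.w_obj _).trans ((π.w_obj x₀).trans hV)) rfl
    (Over.OverMorphism.ext ?_)⟩
  show StMod.bmap 𝒳 (d ≫ φ) = _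
  rw [StMod.bmap_comp, hd, show StMod.bmap 𝒳 φ = (𝒳.p.map φ).left from rfl, IsHomLift.fac' 𝒳.p f φ]
  simp [Over.eqToHom_left]

theorem locSurjObj_section (e : BasedFunctor.comp σ π ≅ BasedFunctor.id (AlgSt.ofSch X)) :
    Gerb.LocSurjObj (QuotSh.J Scheme.fppfPrecoverage S) σ := fun ξ => exists_over h𝒳 hπ ξ e

/-- The trivial band. -/
abbrev A1 (S : Scheme.{u}) : (Over S)ᵒᵖ ⥤ GrpCat.{u} := (Functor.const _).obj (GrpCat.of PUnit.{u + 1})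

/-- The trivial action. -/
def iota1 (σ : AlgSt.ofSch X ⥤ᵇ 𝒳) : TwSh.BandHom (Wcat σ) (A1 S) where
  hom _ := 1
  natural φ _ := (Category.id_comp φ).trans (Category.comp_id φ).symm

omit h𝒳 hπ in
/-- The trivial character. -/
def chi1 (S : Scheme.{u}) : A1 S ⟶ TwSh.GmPsh S where
  app _ := GrpCat.ofHom 1
  naturality T T' f := by
    ext x
    exact (map_one ((TwSh.GmPsh S).map f).hom).symm

theorem isBandedGerbe_tau (e : BasedFunctor.comp σ π ≅ BasedFunctor.id (AlgSt.ofSch X)) :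
    TwSh.IsBandedGerbe (QuotSh.J Scheme.fppfPrecoverage S) (tau σ) (iota1 σ) := by
  refine ⟨⟨fun ξ => ?_, fun x x' b hb => ?_⟩, fun x => ⟨?_, ?_⟩⟩
  · obtain ⟨R, hR, hR'⟩ := exists_over h𝒳 hπ ξ e
    exact ⟨R, hR, fun V f hf => hR' f hf⟩
  · refine ⟨⊤, GrothendieckTopology.top_mem _ _, fun V f _ => ?_⟩
    obtain ⟨z, φ, hφ⟩ := GerbLib.lift_at (isFibGrpd_Wcat (σ := σ) h𝒳) (x := x) rfl f
    have hb' : (Wcat σ).p.IsHomLift (𝟙 ((Wcat σ).p.obj x)) (⟨b⟩ : x ⟶ x') :=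
      (BasedFunctor.isHomLift_iff (tau σ) (𝟙 ((Wcat σ).p.obj x)) (⟨b⟩ : x ⟶ x')).mp hb
    exact ⟨z, φ, φ ≫ ⟨b⟩, hφ, GerbLib.lift_comp_id f φ _ hφ hb', rfl⟩
  · exact fun g g' _ => Subsingleton.elim (α := PUnit.{u + 1}) g g'
  · refine le_antisymm ?_ fun β hβ => ?_
    · rintro _ ⟨g, rfl⟩
      exact map_one (Gerb.autMap (tau σ) x)
    · refine ⟨PUnit.unit, ?_⟩
      refine Aut.ext (Functor.Fiber.hom_ext (InducedCategory.hom_ext ?_))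
      exact (congrArg (fun γ : Gerb.AutO ((tau σ).obj x) => γ.hom.1) (MonoidHom.mem_ker.mp hβ)).symm

omit h𝒳 hπ in
theorem comap_tau_map (G : StMod.Mod 𝒳) {a b : (Wcat σ).obj} (β : a ⟶ b) :
    (StMod.Mod.comap (tau σ) G).map β rfl = G.map β.hom rfl := by
  rw [StMod.Mod.comap_map]
  exact StMod.castMap_rfl_self _ _

theorem full_twisted (e : BasedFunctor.comp σ π ≅ BasedFunctor.id (AlgSt.ofSch X)) :
    ((TwSh.isTwistedQ 𝒳 ι χ 1).ι ⋙ StMod.comapQ σ).Full where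
  map_surjective {F₁ F₂} w := by
    let W₀ : ∀ η, F₁.obj.obj.obj (σ.obj η) ⟶ F₂.obj.obj.obj (σ.obj η) := HomExt.W w
    have hnat : ∀ {η' η : (AlgSt.ofSch X).obj} (β : σ.obj η' ⟶ σ.obj η) (U : (StMod.sch 𝒳 (σ.obj η)).Opens)
        (V : (StMod.sch 𝒳 (σ.obj η')).Opens) (e' : V ≤ StMod.bmap 𝒳 β ⁻¹ᵁ U) (s : Γ(F₁.obj.obj.obj (σ.obj η), U)),
        tr F₂.obj.obj β U V e' ((W₀ η).app U s) = (W₀ η').app V (tr F₁.obj.obj β U V e' s) := by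
      intro η' η β U V e' s
      obtain ⟨g, hg⟩ := exists_gOf e h𝒳 hπ β
      have e₁ : V ≤ StMod.bmap 𝒳 (σ.map (fOf e β)) ⁻¹ᵁ U := by rw [bmap_map_fOf]; exact e'
      have e₂ : V ≤ StMod.bmap 𝒳 (ι.hom _ g).hom.1 ⁻¹ᵁ V := by rw [TwSh.bmap_autO]; exact le_rfl
      rw [tr_congr F₂.obj.obj hg.symm U V e' (le_preimage_comp _ _ e₁ e₂),
        tr_congr F₁.obj.obj hg.symm U V e' (le_preimage_comp _ _ e₁ e₂), ← tr_tr F₂.obj.obj _ _ U V V e₁ e₂,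
        ← tr_tr F₁.obj.obj _ _ U V V e₁ e₂, tr_band χ h𝒳 hπ F₂.property g V e₂, tr_band χ h𝒳 hπ F₁.property g V e₂,
        Scheme.Modules.Hom.app_smul]
      exact congrArg _ (HomExt.tr_W_map w (fOf e β) U V e₁ s)
    let w' : (StMod.comapQ (tau σ)).obj F₁.obj ⟶ (StMod.comapQ (tau σ)).obj F₂.obj :=
      ObjectProperty.homMk ⟨fun η => W₀ η, fun {η' η} β g hg => by
        subst hg
        show (StMod.Mod.comap (tau σ) F₁.obj.obj).map β rfl ≫ _ = _ ≫ (StMod.Mod.comap (tau σ) F₂.obj.obj).map β rfl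
        rw [comap_tau_map, comap_tau_map]
        refine Scheme.Modules.hom_ext _ _ fun U => ?_
        ext s
        have := hnat β.hom U _ le_rfl s
        rw [tr_apply, tr_apply, res_self, res_self] at this
        exact this.symm⟩
    haveI := comapQ_full (isFibGrpd_Wcat (σ := σ) h𝒳) h𝒳 (tau σ) (isBandedGerbe_tau h𝒳 hπ e).1
    obtain ⟨u, hu⟩ := (StMod.comapQ (tau σ)).map_surjective w'
    refine ⟨ObjectProperty.homMk u, InducedCategory.hom_ext (StMod.Mod.hom_ext fun η => ?_)⟩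
    have h1 : u.hom.app (σ.obj η) = W₀ η := congr(($hu).hom.app η)
    show StMod.castHom (StMod.sch_obj_eq σ η) (u.hom.app (σ.obj η)) = w.hom.app η
    rw [h1]
    exact HomExt.castHom_W w η

theorem faithful_twisted (e : BasedFunctor.comp σ π ≅ BasedFunctor.id (AlgSt.ofSch X)) :
    ((TwSh.isTwistedQ 𝒳 ι χ 1).ι ⋙ StMod.comapQ σ).Faithful := by
  haveI := comapQ_faithful σ (locSurjObj_section h𝒳 hπ e)
  infer_instance

omit h𝒳 hπ in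
theorem castMap_back {Y Y' Z Z' : Scheme.{u}} (hZ : Z = Y) (hZ' : Z' = Y') {f : Y' ⟶ Y} {g : Z' ⟶ Z}
    (hg : g ≫ eqToHom hZ = eqToHom hZ' ≫ f) (hf : f ≫ eqToHom hZ.symm = eqToHom hZ'.symm ≫ g)
    {G : Z.Modules} {G' : Z'.Modules} {M : Y.Modules} {M' : Y'.Modules}
    (mG : G ⟶ (Scheme.Modules.pushforward g).obj G') (m : M ⟶ (Scheme.Modules.pushforward f).obj M')
    (a : G ⟶ StMod.castMod hZ.symm M) (a' : G' ⟶ StMod.castMod hZ'.symm M')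
    (h : mG ≫ (Scheme.Modules.pushforward g).map a' = a ≫ StMod.castMap hZ.symm hZ'.symm hf m) :
    StMod.castMap hZ hZ' hg mG ≫ (Scheme.Modules.pushforward f).map
        (StMod.castHom hZ' a' ≫ eqToHom (StMod.castMod_trans hZ'.symm hZ' M')) =
      (StMod.castHom hZ a ≫ eqToHom (StMod.castMod_trans hZ.symm hZ M)) ≫ m := by
  subst hZ hZ'
  obtain rfl : g = f := by simpa using hg
  rw [StMod.castMap_rfl_self] at h
  simp only [StMod.castMap_rfl_self, StMod.castHom_rfl, eqToHom_refl, Category.comp_id]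
  exact h.trans (congrArg (a ≫ ·) rfl)

theorem wMod_map_section (M : StMod.QCoh (AlgSt.ofSch X)) {η' η : (AlgSt.ofSch X).obj} (f : η' ⟶ η) :
    (wMod e χ h𝒳 hπ M).map (homW σ (σ.map f)) rfl =
      (StMod.Mod.comap (jInv e) M.obj).map (homW σ (σ.map f)) rfl := by
  show (StMod.Mod.comap (jInv e) M.obj).map (homW σ (σ.map f)) rfl ≫
    (Scheme.Modules.pushforward _).map (TwSh.scalarEnd _ (mu e χ h𝒳 hπ (σ.map f)).val) = _
  have h0 : TwSh.scalarEnd ((StMod.Mod.comap (jInv e) M.obj).obj η') (mu e χ h𝒳 hπ (σ.map f)).val = 𝟙 _ := by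
    refine Scheme.Modules.hom_ext _ _ fun V => ?_
    ext s
    show TwSh.resTop (StMod.sch (Wcat σ) η') V (mu e χ h𝒳 hπ (σ.map f)).val •
      (show Γ((StMod.Mod.comap (jInv e) M.obj).obj η', V) from s) = s
    rw [mu_map, Units.val_one, map_one, one_smul]
  exact (congrArg (fun k => _ ≫ (Scheme.Modules.pushforward _).map k) h0).trans
    (by rw [CategoryTheory.Functor.map_id]; exact Category.comp_id _)

theorem twisted_values (M : StMod.QCoh (AlgSt.ofSch X)) (G : StMod.QCoh 𝒳) (η : (AlgSt.ofSch X).obj)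
    (a : G.obj.obj (σ.obj η) ⟶ (wMod e χ h𝒳 hπ M).obj η) [IsIso a]
    (ha : ∀ b : σ.obj η ⟶ σ.obj η,
      G.obj.map b rfl ≫ (Scheme.Modules.pushforward (StMod.bmap 𝒳 b)).map a =
        a ≫ (wMod e χ h𝒳 hπ M).map (homW σ b) rfl)
    (g : A.obj (op (𝒳.p.obj (σ.obj η)))) (V : (StMod.sch 𝒳 (σ.obj η)).Opens)
    (eg : V ≤ StMod.bmap 𝒳 (ι.hom _ g).hom.1 ⁻¹ᵁ V) (s : Γ(G.obj.obj (σ.obj η), V)) :
    tr G.obj (ι.hom _ g).hom.1 V V eg s =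
      TwSh.resTop _ V ((TwSh.charUnit χ (σ.obj η) g ^ (1 : ℤ))⁻¹).val • s := by
  refine (ConcreteCategory.bijective_of_isIso (a.app V)).1 ?_
  let β := homW σ (ι.hom _ g).hom.1
  have hmu : mu e χ h𝒳 hπ (ι.hom _ g).hom.1 = (TwSh.charUnit χ (σ.obj η) g ^ (1 : ℤ))⁻¹ :=
    mu_of_eq e χ h𝒳 hπ _ (𝟙 η) g (by rw [σ.toFunctor.map_id]; exact Category.comp_id _)
  have hf : fOf e (ι.hom _ g).hom.1 = 𝟙 η := fOf_eq e _ _ (by
    rw [σ.toFunctor.map_id, StMod.bmap_id]; exact TwSh.bmap_autO _ _)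
  have hb : StMod.bmap (Wcat σ) β = 𝟙 (StMod.sch (Wcat σ) η) := TwSh.bmap_autO _ _
  have h0 := tr_app_of_comm (StMod.Mod.comap (tau σ) G.obj) (wMod e χ h𝒳 hπ M) β a a
    (by rw [comap_tau_map]; exact ha _) V V eg s
  have h1 : a.app V (tr G.obj (ι.hom _ g).hom.1 V V eg s) = tr (wMod e χ h𝒳 hπ M) β V V eg (a.app V s) := by
    refine Eq.trans (congrArg (a.app V) ?_) h0.symm
    rw [tr_apply, tr_apply, comap_tau_map]
    rfl
  rw [h1, Scheme.Modules.Hom.app_smul, ← hmu,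
    show tr (wMod e χ h𝒳 hπ M) β V V eg (a.app V s) = ((wMod e χ h𝒳 hπ M).map β hb).app V (a.app V s) from
      tr_eq_map (wMod e χ h𝒳 hπ M) β hb V eg _]
  show TwSh.resTop (StMod.sch (Wcat σ) η) V (mu e χ h𝒳 hπ (ι.hom _ g).hom.1).val •
    (show Γ((StMod.Mod.comap (jInv e) M.obj).obj η, V) from
      ((StMod.Mod.comap (jInv e) M.obj).map β hb).app V (a.app V s)) = _
  have h2 : (StMod.Mod.comap (jInv e) M.obj).map β hb =
      (StMod.Mod.comap (jInv e) M.obj).map (𝟙 _) (StMod.bmap_id _) := by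
    rw [StMod.Mod.comap_map, StMod.Mod.comap_map]
    exact castMap_map_congr M.obj (hf.trans ((jInv e).toFunctor.map_id η).symm) _ _ _ _
  rw [h2]
  exact congrArg (TwSh.resTop (StMod.sch (Wcat σ) η) V (mu e χ h𝒳 hπ (ι.hom _ g).hom.1).val • ·)
    congr($(StMod.Mod.map_id_app (StMod.Mod.comap (jInv e) M.obj) η V) (a.app V s))

theorem twisted_of_values (G : StMod.QCoh 𝒳)
    (h : ∀ (η : (AlgSt.ofSch X).obj) (g : A.obj (op (𝒳.p.obj (σ.obj η)))) (V : (StMod.sch 𝒳 (σ.obj η)).Opens)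
      (eg : V ≤ StMod.bmap 𝒳 (ι.hom _ g).hom.1 ⁻¹ᵁ V) (s : Γ(G.obj.obj (σ.obj η), V)),
      tr G.obj (ι.hom _ g).hom.1 V V eg s =
        TwSh.resTop _ V ((TwSh.charUnit χ (σ.obj η) g ^ (1 : ℤ))⁻¹).val • s)
    (e : BasedFunctor.comp σ π ≅ BasedFunctor.id (AlgSt.ofSch X)) :
    TwSh.IsTwisted G.obj ι χ 1 := by
  intro ξ g U s
  obtain ⟨x, α, hα⟩ := exists_coversOn σ (locSurjObj_section h𝒳 hπ e) ξ
  have e₀ : U ≤ StMod.bmap 𝒳 (ι.hom ξ g).hom.1 ⁻¹ᵁ U := (TwSh.bmap_autO ξ _).symm ▸ le_rfl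
  rw [TwSh.inert_app_apply]
  refine ((tr_eq_map G.obj _ (TwSh.bmap_autO ξ _) U e₀ s).symm).trans ?_
  refine sect_ext G (hα U) fun k => ?_
  let g' := A.map (𝒳.p.map (α k)).op g
  let V := StMod.bmap 𝒳 (α k) ⁻¹ᵁ U
  have eg : V ≤ StMod.bmap 𝒳 (ι.hom _ g').hom.1 ⁻¹ᵁ V := (TwSh.bmap_autO _ (ι.hom _ g')).symm ▸ le_rfl
  refine (tr_tr G.obj (α k) _ U U V e₀ le_rfl s).trans ?_
  refine (tr_congr G.obj (ι.natural (α k) g).symm U V _ (le_preimage_comp _ _ le_rfl eg) s).trans ?_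
  refine (tr_tr G.obj _ (α k) U V V le_rfl eg s).symm.trans ?_
  refine (h (x k) g' V eg _).trans ?_
  rw [tr_smul]
  refine congrArg (· • tr G.obj (α k) U V le_rfl s) ?_
  rw [FppfModDesc.charUnit_map χ 1 (α k) g]
  show _ = ((StMod.bmap 𝒳 (α k)).appLE U V le_rfl).hom _
  rw [← Scheme.Hom.app_eq_appLE]
  exact congr($(((StMod.bmap 𝒳 (α k))).naturality (homOfLE (le_top : U ≤ ⊤)).op) _).symm

theorem exists_iso_section (e : BasedFunctor.comp σ π ≅ BasedFunctor.id (AlgSt.ofSch X))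
    (M : StMod.QCoh (AlgSt.ofSch X)) :
    ∃ (G : StMod.QCoh 𝒳), TwSh.IsTwisted G.obj ι χ 1 ∧ Nonempty ((StMod.comapQ σ).obj G ≅ M) := by
  let MW : StMod.QCoh (Wcat σ) := ⟨wMod e χ h𝒳 hπ M, isQCoh_wMod e χ h𝒳 hπ M⟩
  have htw : TwSh.IsTwisted MW.obj (iota1 σ) (chi1 S) 0 := fun ξ a U s => by
    show (TwSh.inert MW.obj ξ 1).app U s = _
    rw [TwSh.inert_one, zpow_zero, inv_one, Units.val_one, map_one, one_smul]
    rfl
  obtain ⟨G, ⟨e₀⟩⟩ := exists_iso_comapQ (tau σ) (isFibGrpd_Wcat (σ := σ) h𝒳) h𝒳 (isBandedGerbe_tau h𝒳 hπ e) htw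
  let a : ∀ η, G.obj.obj (σ.obj η) ⟶ (wMod e χ h𝒳 hπ M).obj η := fun η => e₀.inv.hom.app η
  haveI hiso : ∀ η, IsIso (a η) := fun η =>
    ⟨e₀.hom.hom.app η, congr(($(e₀.inv_hom_id)).hom.app η), congr(($(e₀.hom_inv_id)).hom.app η)⟩
  have hcomm : ∀ {η' η : (AlgSt.ofSch X).obj} (b : σ.obj η' ⟶ σ.obj η),
      G.obj.map b rfl ≫ (Scheme.Modules.pushforward (StMod.bmap 𝒳 b)).map (a η') =
        a η ≫ (wMod e χ h𝒳 hπ M).map (homW σ b) rfl := fun {η' η} b => by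
    have h0 := e₀.inv.hom.comm (homW σ b) (g := StMod.bmap 𝒳 b) rfl
    exact (congrArg (· ≫ _) (comap_tau_map G.obj (homW σ b)).symm).trans h0
  refine ⟨G, twisted_of_values χ h𝒳 hπ G (fun η g V eg s => twisted_values e χ h𝒳 hπ M G η (a η)
    (fun b => hcomm b) g V eg s) e, ⟨ObjectProperty.isoMk _ (StMod.Mod.isoMk (fun η =>
    @asIso _ _ _ _ (StMod.castHom (StMod.sch_obj_eq σ η) (a η) ≫
      eqToHom (StMod.castMod_trans (StMod.sch_obj_eq σ η).symm (StMod.sch_obj_eq σ η) (M.obj.obj η))) ?_)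
    fun η' η f k hk => ?_)⟩⟩
  · haveI := isIso_castHom (StMod.sch_obj_eq σ η) (a η)
    infer_instance
  · subst hk
    refine castMap_back (StMod.sch_obj_eq σ η) (StMod.sch_obj_eq σ η') (StMod.bmap_map_comm σ f rfl)
      (by rw [bmap_map σ f]; simp) _ (M.obj.map f rfl) (a η) (a η') ?_
    refine (hcomm (σ.map f)).trans (congrArg (a η ≫ ·) ((wMod_map_section e χ h𝒳 hπ M f).trans ?_))
    rw [StMod.Mod.comap_map]
    exact castMap_map_congr M.obj (fOf_eq e (σ.map f) f rfl) _ _ _ _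

theorem isEquivalence_section (e : BasedFunctor.comp σ π ≅ BasedFunctor.id (AlgSt.ofSch X)) :
    ((TwSh.isTwistedQ 𝒳 ι χ 1).ι ⋙ StMod.comapQ σ).IsEquivalence where
  faithful := faithful_twisted χ h𝒳 hπ e
  full := full_twisted χ h𝒳 hπ e
  essSurj := ⟨fun M => by
    obtain ⟨G, hG, i⟩ := exists_iso_section χ h𝒳 hπ e M
    exact ⟨⟨G, hG⟩, i⟩⟩

end Groth.Agent.QDescent
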